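import Cfsg.Agent.Lib.Lie.PSpFourThreeFull.NodeSeven

/-!
Centralisers of elements of order three inside the symplectic subgroup.
-/

set_option autoImplicit false
set_option linter.unusedSectionVars false
set_option linter.style.haveILetI false
set_option maxRecDepth 100000
set_option synthInstance.maxSize 4000
set_option synthInstance.maxHeartbeats 400000

namespace Cfsg.Agent.Lie.PSpFourThreeFull

open Cfsg.Agent.Lie.PSpFourThreeAmalgam
open Cfsg.Agent.Small.ShapeThree (M)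

theorem weight_split : ∀ v : V3, v ≠ 0 → (∃ p : Fin 24 × Bool, smap p v = dia) ∨
    (∃ p : Fin 24 × Bool, smap p v = (0, 0, 1)) ∨ ∃ p : Fin 24 × Bool, smap p v = (1, 1, 0) := by decide +kernel

namespace Axis

theorem swaps_top (H : Subgroup P6) (m0 : Equiv.swap (0 : Fin 6) 1 ∈ H) (m1 : Equiv.swap (1 : Fin 6) 2 ∈ H)
    (m2 : Equiv.swap (0 : Fin 6) 3 ∈ H) (m3 : Equiv.swap (3 : Fin 6) 4 ∈ H) (m4 : Equiv.swap (4 : Fin 6) 5 ∈ H)
    (σ : P6) : σ ∈ H := by
  have c02 := SubmonoidClass.swap_mem_trans H m0 m1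
  have c04 := SubmonoidClass.swap_mem_trans H m2 m3
  have c05 := SubmonoidClass.swap_mem_trans H c04 m4
  have hz : ∀ i : Fin 6, Equiv.swap (0 : Fin 6) i ∈ H := by
    intro i
    fin_cases i
    · show Equiv.swap (0 : Fin 6) 0 ∈ H
      rw [Equiv.swap_self]
      exact H.one_mem
    · exact m0
    · exact c02
    · exact m2
    · exact c04
    · exact c05
  induction σ using Equiv.Perm.swap_induction_on with
  | one => exact H.one_mem
  | swap_mul f x y _ ih =>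
    exact H.mul_mem (SubmonoidClass.swap_mem_trans H (Equiv.swap_comm (0 : Fin 6) x ▸ hz x) (hz y)) ih

end Axis

namespace Conf.Signed.Label

variable {G : Type*} [Group G] [Finite G] {T : Conf G} {hS : T.Signed} (hL : hS.Label)
include hL

theorem range_le_H : T.φ.range ≤ hL.H := (hS.range_le hL.comm).trans hL.psi_le

theorem normalizer_le_H : Subgroup.normalizer (T.J : Set G) ≤ hL.H :=
  (hS.normalizer_le hL.comm).trans hL.psi_le

theorem axis_le_H : T.centQ (0, 0, 1) ≤ hL.H := by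
  intro g hg
  let P : Subgroup Axis.P6 := (hL.H.subgroupOf (T.centQ (0, 0, 1))).map hL.π
  have hmem : ∀ x : T.centQ (0, 0, 1), (x : G) ∈ hL.H → hL.π x ∈ P := fun x hx =>
    ⟨x, Subgroup.mem_subgroupOf.2 hx, rfl⟩
  have hnode : ∀ i, hS.node i ∈ hL.H := fun i => hL.node7_castSucc i ▸ Subgroup.subset_closure ⟨_, rfl⟩
  obtain ⟨e1, e2, e3, e4, e5⟩ := Axis.edges
  have m1 : Equiv.swap (1 : Fin 6) 2 ∈ P := by rw [e3, ← hL.r1]; exact hmem _ (hnode 0)
  have m4 : Equiv.swap (4 : Fin 6) 5 ∈ P := by rw [e4, ← hL.r2]; exact hmem _ (hnode 5)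
  have m0 : Equiv.swap (0 : Fin 6) 1 ∈ P := by
    rw [e1, ← hL.e1]
    exact P.mul_mem (hmem _ (hL.J_le_H (T.q_mem _))) (e3 ▸ m1)
  have m3 : Equiv.swap (3 : Fin 6) 4 ∈ P := by
    rw [e2, ← hL.e2]
    exact P.mul_mem (hmem _ (hL.J_le_H (T.q_mem _))) (e4 ▸ m4)
  have m2 : Equiv.swap (0 : Fin 6) 3 ∈ P := by
    rw [e5, ← hL.π_lift Axis.basic_sq.2.2.2.1]
    exact hmem _ hL.r_mem
  obtain ⟨y, hy, hyπ⟩ := Axis.swaps_top P m0 m1 m2 m3 m4 (hL.π ⟨g, hg⟩)
  obtain ⟨a, ha⟩ := hL.π_one (x := y⁻¹ * ⟨g, hg⟩) (by rw [map_mul, map_inv, hyπ, inv_mul_cancel])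
  have h1 : g = (y : G) * T.q (a • (0, 0, 1)) := by
    have := congrArg Subtype.val (eq_mul_of_inv_mul_eq ha)
    exact this
  rw [h1]
  exact hL.H.mul_mem (Subgroup.mem_subgroupOf.1 hy) (hL.J_le_H (T.q_mem _))

/-- The subgroup contains the centralisers of its elements of order three. -/
theorem three_cent {y : G} (hy : y ∈ hL.H) (ho : orderOf y = 3) : Subgroup.centralizer ({y} : Set G) ≤ hL.H := by
  classical
  haveI : Fact (Nat.Prime 3) := ⟨Nat.prime_three⟩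
  obtain ⟨e⟩ := hL.H_equiv
  have hcard : Nat.card hL.H = 1451520 := by
    rw [Nat.card_congr e.toEquiv, Cfsg.Agent.S0245.result (F := ZMod 2) (ZMod.card 2) 3]
    decide +kernel
  have hSH : T.S ≤ hL.H := fun x ⟨m, _, hm⟩ => hL.range_le_H ⟨m, hm⟩
  have hS81 : Nat.card (T.S.subgroupOf hL.H) = 81 := by
    rw [Nat.card_congr (Subgroup.subgroupOfEquivOfLe hSH).toEquiv, T.card_S]
  have hidx : ¬ 3 ∣ (T.S.subgroupOf hL.H).index := by
    have h := (T.S.subgroupOf hL.H).card_mul_index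
    rw [hS81, hcard] at h
    rw [show (T.S.subgroupOf hL.H).index = 17920 by omega]
    norm_num
  set P : Sylow 3 hL.H := (IsPGroup.of_card (n := 4) (by rw [hS81]; norm_num) :
    IsPGroup 3 (T.S.subgroupOf hL.H)).toSylow hidx with hPdef
  have h3 : y ^ 3 = 1 := ho ▸ pow_orderOf_eq_one y
  have hy1 : y ≠ 1 := fun h => by rw [h, orderOf_one] at ho; norm_num at ho
  set y' : hL.H := ⟨y, hy⟩
  have hz : IsPGroup 3 (Subgroup.zpowers y') := IsPGroup.of_card (n := 1) (by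
    rw [Nat.card_zpowers, Subgroup.orderOf_mk, ho]; norm_num)
  obtain ⟨Q, hQ⟩ := hz.exists_le_sylow
  obtain ⟨c, hc⟩ := MulAction.exists_smul_eq hL.H Q P
  have h1 : (MulAut.conj c) y' ∈ ((c • Q : Sylow 3 hL.H) : Subgroup hL.H) := by
    rw [Sylow.coe_subgroup_smul]
    exact Subgroup.smul_mem_pointwise_smul _ (MulAut.conj c) _ (hQ (Subgroup.mem_zpowers _))
  rw [hc] at h1
  have h2 : (c : G) * y * (c : G)⁻¹ ∈ T.S := Subgroup.mem_subgroupOf.1 h1
  obtain ⟨h, hha, hhJ⟩ := T.three_in_J h2 (by rw [conj_pow, h3, mul_one, mul_inv_cancel])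
  obtain ⟨v, hv⟩ := T.mem_J.1 hhJ
  have hv0 : v ≠ 0 := fun hv' => hy1 (by
    rw [hv', T.q_zero] at hv
    exact conj_eq_one_iff.1 (conj_eq_one_iff.1 hv.symm))
  have key : ∃ p : Fin 24 × Bool, Subgroup.centralizer ({T.q (smap p v)} : Set G) ≤ hL.H := by
    rcases weight_split v hv0 with ⟨p, hp⟩ | ⟨p, hp⟩ | ⟨p, hp⟩
    · refine ⟨p, fun g hg => hL.range_le_H (T.cent_a.1 ?_)⟩
      rw [hp, T.q_dia] at hg
      exact Subgroup.mem_centralizer_singleton_iff.1 hg
    · exact ⟨p, by rw [hp]; exact hL.axis_le_H⟩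
    · exact ⟨p, by rw [hp]; exact fun g hg => hL.normalizer_le_H (hS.pair_cent hg)⟩
  obtain ⟨p, hp⟩ := key
  obtain ⟨n, hn⟩ := hS.exists_acts p
  intro g hg
  have hk : n * h * (c : G) ∈ hL.H := hL.H.mul_mem (hL.H.mul_mem (hL.normalizer_le_H (Acts.mem_normalizer T hn))
    (hL.range_le_H (T.cent_a.1 hha))) c.2
  set k := n * h * (c : G)
  have hky : k * y * k⁻¹ = T.q (smap p v) := by
    rw [← hn v, hv]
    show n * h * (c : G) * y * (n * h * (c : G))⁻¹ = _
    group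
  have hgk : k * g * k⁻¹ ∈ hL.H := hp (Subgroup.mem_centralizer_singleton_iff.2 (by
    rw [← hky, conj_mul, conj_mul, Subgroup.mem_centralizer_singleton_iff.1 hg]))
  have := hL.H.mul_mem (hL.H.mul_mem (hL.H.inv_mem hk) hgk) hk
  rwa [show k⁻¹ * (k * g * k⁻¹) * k = g by group] at this

end Conf.Signed.Label

end Cfsg.Agent.Lie.PSpFourThreeFull
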