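import Cfsg.Agent.Lib.Lie.PSpFourThreeFull.WAct
import Mathlib.Algebra.BigOperators.Group.Finset.Basic

/-!
An orbit of four or eight vectors gives monomial coordinates: the group is the monomial group, with signs in
the second case.
-/

set_option autoImplicit false
set_option linter.unusedSectionVars false
set_option synthInstance.maxSize 2048
set_option synthInstance.maxHeartbeats 400000

namespace Cfsg.Agent.Lie.PSpFourThreeFull

open Cfsg.Agent.Lie.PSpFourThreeAmalgam

/-- A shift along the diagonal. -/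
def sh (l : ZMod 3) (v : V3) : V3 :=
  (v.1 + l * (v.1 + v.2.1 + v.2.2), v.2.1 + l * (v.1 + v.2.1 + v.2.2), v.2.2 + l * (v.1 + v.2.1 + v.2.2))

theorem sh_neg : ∀ l v, sh l (sh (-l) v) = v ∧ sh (-l) (sh l v) = v := by decide +kernel

theorem sh_add : ∀ l v w, sh l (v + w) = sh l v + sh l w := by decide +kernel

theorem sh_dia : ∀ l, sh l dia = dia := by decide +kernel

theorem sh_six : ∀ l k v, sh l (six k v) = six k (sh l v) := by decide +kernel

theorem sh_negv : ∀ l v, sh l (-v) = -(sh l v) := by decide +kernel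

/-- The standard orbit. -/
def four : Finset V3 := {dia, (1, 2, 2), (2, 1, 2), (2, 2, 1)}

/-- The standard orbit with signs. -/
def eight : Finset V3 := four ∪ four.image Neg.neg

theorem frame_four : ∀ x ∈ four, ∀ y ∈ four, ∀ z ∈ four, x ≠ y → x ≠ z → y ≠ z →
    ∃ i, act i dia = x ∧ act i (1, 2, 2) = y ∧ act i (2, 1, 2) = z := by decide +kernel

theorem frame_eight : ∀ x ∈ eight, ∀ y ∈ eight, ∀ z ∈ eight, x ≠ y → x ≠ z → y ≠ z → x ≠ -y → x ≠ -z → y ≠ -z →
    -(x + y + z) ∈ eight → ∃ i : Fin 24, (act i dia = x ∧ act i (1, 2, 2) = y ∧ act i (2, 1, 2) = z) ∨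
      (act i dia = -x ∧ act i (1, 2, 2) = -y ∧ act i (2, 1, 2) = -z) := by decide +kernel

theorem four_rel : dia + (1, 2, 2) + (2, 1, 2) + (2, 2, 1) = 0 ∧
    ((1, 0, 0) : V3) = 2 • (dia + (1, 2, 2)) ∧ ((0, 1, 0) : V3) = 2 • (dia + (2, 1, 2)) ∧
    ((0, 0, 1) : V3) = 2 • (dia + (2, 2, 1)) := by decide +kernel

theorem four_shape : ∀ v : V3, mU v ≠ v → v.1 + v.2.1 + v.2.2 = 2 → (mT v = v ∨ mT v = mU v ∨ mT v = mU (mU v)) →
    ∃ l, ∀ u ∈ ([v, mU v, mU (mU v)] : List V3), sh (-l) u ∈ four := by decide +kernel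

theorem orbit_facts : ∀ v : V3, mU v ≠ v →
    mU v ≠ v ∧ mU (mU v) ≠ v ∧ mU (mU v) ≠ mU v ∧ -v ≠ v ∧ -v ≠ mU v ∧ -v ≠ mU (mU v) ∧
    v ≠ dia ∧ mU v ≠ dia ∧ mU (mU v) ≠ dia ∧ v ≠ -dia ∧ mU v ≠ -dia ∧ mU (mU v) ≠ -dia := by decide +kernel

theorem sum_two : ∀ v : V3, v.1 + v.2.1 + v.2.2 = 2 → dia + v + mU v + mU (mU v) = 0 := by decide +kernel

theorem sum_to_two : ∀ v : V3, dia + v + mU v + mU (mU v) = 0 → v.1 + v.2.1 + v.2.2 = 2 := by decide +kernel

theorem sum_perm : ∀ v : V3, (mU v).1 + (mU v).2.1 + (mU v).2.2 = v.1 + v.2.1 + v.2.2 ∧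
    (mT v).1 + (mT v).2.1 + (mT v).2.2 = v.1 + v.2.1 + v.2.2 ∧
    (-v).1 + (-v).2.1 + (-v).2.2 = -(v.1 + v.2.1 + v.2.2) := by decide +kernel

/-- Coordinates summing to zero. -/
def flat (v : V3) : Prop := v.1 + v.2.1 + v.2.2 = 0

instance (v : V3) : Decidable (flat v) := inferInstanceAs (Decidable (_ = _))

/-- The additive map with given images of the unit vectors. -/
def lin (A B C v : V3) : V3 := v.1 • A + v.2.1 • B + v.2.2 • C

/-- Evaluation of a word in the shift, the transposition, the negation and a given map. -/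
def evalW (f : V3 → V3) : List (Fin 4) → V3 → V3
  | [], v => v
  | a :: l, v =>
    let u := evalW f l v
    match a with
    | 0 => mU u
    | 1 => mT u
    | 2 => -u
    | 3 => f u

/-- The words used to leave the plane. -/
def planeWords : List (List (Fin 4)) :=
  [[3, 3], [3, 3, 3], [2, 3, 3], [2, 3, 3, 3], [3, 0, 3], [3, 0, 0, 3], [3, 1, 3], [2, 3, 0, 3], [2, 3, 1, 3],
    [2, 3, 0, 0, 3], [3, 0, 1, 3], [3, 1, 0, 3], [2, 3, 1, 0, 3], [2, 3, 0, 1, 3], [3, 1, 3, 3], [3, 0, 3, 3],
    [3, 3, 1, 3], [3, 3, 0, 3]]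

theorem plane_leave : ∀ v b c : V3, flat v → mU v ≠ v → ¬ flat b → flat c → c ≠ 0 → c ≠ v → c ≠ -v →
    ∃ w ∈ planeWords, evalW (lin b (2 • c + b) (v + -(b + (2 • c + b)))) w dia = dia ∧
      ∀ k, ∃ u ∈ ([(1, 0, 0), (0, 1, 0), (0, 0, 1)] : List V3),
        evalW (lin b (2 • c + b) (v + -(b + (2 • c + b)))) w u ≠ six k u := by decide +kernel

theorem basis_plane : ∀ u : V3, lin (1, 0, 0) (2 • ((1 : ZMod 3), (2 : ZMod 3), (0 : ZMod 3)) + (1, 0, 0))
    (dia + -((1, 0, 0) + (2 • ((1 : ZMod 3), (2 : ZMod 3), (0 : ZMod 3)) + (1, 0, 0)))) u = u := by decide +kernel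

theorem plane_basis : flat (1, 2, 0) ∧ ¬ flat (1, 0, 0) ∧ ((1, 2, 0) : V3) ≠ 0 ∧ ((1, 2, 0) : V3) ≠ dia ∧
    ((1, 2, 0) : V3) ≠ -dia := by decide +kernel

theorem flat_eight : ∀ v : V3, flat v → mU v ≠ v → ∀ u : V3, flat u → u = 0 ∨
    u ∈ ([dia, v, mU v, mU (mU v), -dia, -v, -(mU v), -(mU (mU v))] : List V3) := by decide +kernel

theorem act_dia_mem : ∀ i, act i dia ∈ four ∧ act i (1, 2, 2) ∈ four := by decide +kernel

/-- Two additive maps agreeing on three vectors of the standard orbit are equal. -/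
theorem ext_four {f g : V3 → V3} (hf : ∀ v w, f (v + w) = f v + f w) (hg : ∀ v w, g (v + w) = g v + g w)
    (h1 : f dia = g dia) (h2 : f (1, 2, 2) = g (1, 2, 2)) (h3 : f (2, 1, 2) = g (2, 1, 2)) (v : V3) : f v = g v := by
  let F : V3 →+ V3 := AddMonoidHom.mk' f hf
  let G : V3 →+ V3 := AddMonoidHom.mk' g hg
  have h4 : F (2, 2, 1) = G (2, 2, 1) := by
    rw [show ((2, 2, 1) : V3) = -(dia + (1, 2, 2) + (2, 1, 2)) from
      eq_neg_of_add_eq_zero_right four_rel.1, map_neg, map_neg, map_add, map_add, map_add, map_add,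
      show F dia = G dia from h1, show F (1, 2, 2) = G (1, 2, 2) from h2, show F (2, 1, 2) = G (2, 1, 2) from h3]
  refine ext_additive hf hg (fun u hu => ?_) v
  have e : ∀ a, F a = G a → F (2 • (dia + a)) = G (2 • (dia + a)) := fun a ha => by
    rw [map_nsmul, map_nsmul, map_add, map_add, show F dia = G dia from h1, ha]
  simp only [List.mem_cons, List.not_mem_nil, or_false] at hu
  rcases hu with rfl | rfl | rfl
  · rw [four_rel.2.1]; exact e _ h2
  · rw [four_rel.2.2.1]; exact e _ h3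
  · rw [four_rel.2.2.2]; exact e _ h4

/-- A map commuting with the shift, from the image of the first unit vector. -/
theorem circ_neg : ∀ p : V3, lin p (mU p) (mU (mU p)) dia = -dia →
    lin p (mU p) (mU (mU p)) p = (1, 0, 0) → p = -(1, 0, 0) := by decide +kernel

theorem circ_units : mU ((1, 0, 0) : V3) = (0, 1, 0) ∧ mU ((0, 1, 0) : V3) = (0, 0, 1) := by decide +kernel

theorem six_conj : ∀ k, six k dia = dia → (∀ v ∈ ([(1, 0, 0), (0, 1, 0), (0, 0, 1)] : List V3),
    six k (six k (six k v)) = v) → (∀ v ∈ ([(1, 0, 0), (0, 1, 0), (0, 0, 1)] : List V3), six k v = v) ∨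
      (∀ v ∈ ([(1, 0, 0), (0, 1, 0), (0, 0, 1)] : List V3), six k v = mU v) ∨
      ∀ v ∈ ([(1, 0, 0), (0, 1, 0), (0, 0, 1)] : List V3), six k v = mU (mU v) := by decide +kernel

namespace WData

variable {W : Subgroup (Equiv.Perm V3)} (D : WData W)
include D

theorem moved {v : V3} (hv : v ∈ D.orb) (h1 : v ≠ dia) (h2 : v ≠ -dia) : mU v ≠ v := by
  intro h
  rcases (mU_fixed v).1 h with h | h | h
  · exact D.zero_not_mem (h ▸ hv)
  · exact h1 h
  · exact h2 h

/-- An orbit of four vectors gives the monomial group. -/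
theorem monomial (hn : -dia ∉ D.orb) (h4 : D.orb.card = 4) :
    ∃ l, (∀ w ∈ W, ∃ i, ∀ v, w (sh l v) = sh l (act i v)) ∧ ∀ i, ∃ w ∈ W, ∀ v, w (sh l v) = sh l (act i v) := by
  classical
  obtain ⟨v, hv, hvd⟩ := Finset.exists_mem_ne (by omega : 1 < D.orb.card) dia
  have hvn : v ≠ -dia := fun h => hn (h ▸ hv)
  have hm := D.moved hv hvd hvn
  obtain ⟨-, h20, h21, -, -, -, -, h1d, h2d, -, -, -⟩ := orbit_facts v hm
  have hU := D.orb_six 1 hv
  rw [six_mU] at hU
  have hUU := D.orb_six 1 hU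
  rw [six_mU] at hUU
  have hcard : ({dia, v, mU v, mU (mU v)} : Finset V3).card = 4 := by
    rw [Finset.card_insert_of_notMem (by simp [Ne.symm hvd, Ne.symm h1d, Ne.symm h2d]),
      Finset.card_insert_of_notMem (by simp [Ne.symm hm, Ne.symm h20]),
      Finset.card_insert_of_notMem (by simp [Ne.symm h21]), Finset.card_singleton]
  have hO : D.orb = {dia, v, mU v, mU (mU v)} := by
    refine (Finset.eq_of_subset_of_card_le (fun x hx => ?_) (by omega)).symm
    simp only [Finset.mem_insert, Finset.mem_singleton] at hx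
    rcases hx with rfl | rfl | rfl | rfl
    exacts [D.dia_mem, hv, hU, hUU]
  have hinv : ∀ w ∈ W, w (D.orb.sum id) = D.orb.sum id := by
    intro w hw
    let f : V3 →+ V3 := AddMonoidHom.mk' w (D.add w hw)
    have him : D.orb.image w = D.orb := Finset.eq_of_subset_of_card_le
      (fun x hx => by obtain ⟨y, hy, rfl⟩ := Finset.mem_image.1 hx; exact D.orb_map hw hy)
      (by rw [Finset.card_image_of_injective _ w.injective])
    show f (∑ x ∈ D.orb, x) = _
    rw [map_sum]
    conv_rhs => rw [← him, Finset.sum_image fun x _ y _ h => w.injective h]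
    rfl
  have hs : D.orb.sum id = dia + v + mU v + mU (mU v) := by
    rw [hO, Finset.sum_insert (by simp [Ne.symm hvd, Ne.symm h1d, Ne.symm h2d]),
      Finset.sum_insert (by simp [Ne.symm hm, Ne.symm h20]), Finset.sum_pair (Ne.symm h21)]
    simp only [id, add_assoc]
  have hs0 : dia + v + mU v + mU (mU v) = 0 := by
    obtain ⟨u, hu, huv⟩ := D.real 1
    have h1 := hinv u hu
    rw [huv, six_mU, hs] at h1
    rcases (mU_fixed _).1 h1 with h | h | h
    · exact h
    all_goals
      exfalso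
      obtain ⟨w, hw, hwv⟩ := D.mem_orb.1 hv
      refine hvd (hwv.symm.trans ?_)
      have h2 := hinv w hw
      rw [hs, h] at h2
    · exact h2
    · rw [D.map_neg' hw] at h2
      exact neg_injective h2
  have hsum := sum_to_two v hs0
  have hT : mT v = v ∨ mT v = mU v ∨ mT v = mU (mU v) := by
    have h1 := D.orb_six 3 hv
    rw [six_mT, hO] at h1
    simp only [Finset.mem_insert, Finset.mem_singleton] at h1
    refine h1.resolve_left fun h => hvd ?_
    rw [← mT_two v, h]
    rfl
  obtain ⟨l, hl⟩ := four_shape v hm hsum hT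
  have hto : ∀ x ∈ D.orb, sh (-l) x ∈ four := by
    intro x hx
    rw [hO] at hx
    simp only [Finset.mem_insert, Finset.mem_singleton] at hx
    rcases hx with rfl | hx
    · rw [sh_dia]; simp [four]
    · exact hl x (by simpa using hx)
  have himg : D.orb.image (sh (-l)) = four := Finset.eq_of_subset_of_card_le
    (fun x hx => by obtain ⟨y, hy, rfl⟩ := Finset.mem_image.1 hx; exact hto y hy)
    (by rw [Finset.card_image_of_injective _ fun a b h => by rw [← (sh_neg l a).1, h, (sh_neg l b).1], h4]; rfl)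
  have hfrom : ∀ x ∈ four, sh l x ∈ D.orb := by
    intro x hx
    rw [← himg] at hx
    obtain ⟨y, hy, rfl⟩ := Finset.mem_image.1 hx
    rwa [(sh_neg l y).1]
  have hdir : ∀ w ∈ W, ∃ i, ∀ u, w (sh l u) = sh l (act i u) := by
    intro w hw
    let g : V3 → V3 := fun u => sh (-l) (w (sh l u))
    have hg : ∀ x ∈ four, g x ∈ four := fun x hx => hto _ (D.orb_map hw (hfrom x hx))
    have hgi : Function.Injective g := fun a b h => by
      have h1 := w.injective (((sh_neg l _).1).symm.trans ((congrArg (sh l) h).trans ((sh_neg l _).1)))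
      rw [← (sh_neg l a).2, h1, (sh_neg l b).2]
    obtain ⟨i, e1, e2, e3⟩ := frame_four (g dia) (hg _ (by simp [four])) (g (1, 2, 2)) (hg _ (by simp [four]))
      (g (2, 1, 2)) (hg _ (by simp [four])) (hgi.ne (by decide)) (hgi.ne (by decide)) (hgi.ne (by decide))
    refine ⟨i, fun u => ?_⟩
    have h := ext_four (f := g) (g := act i) (fun a b => by simp only [g, sh_add, D.add w hw]) (act_add i)
      e1.symm e2.symm e3.symm u
    rw [← h]
    exact ((sh_neg l _).1).symm
  refine ⟨l, hdir, fun i => ?_⟩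
  choose ix hix using hdir
  let F : W → Fin 24 := fun w => ix w.1 w.2
  have hF : Function.Injective F := fun a b h => Subtype.ext (Equiv.ext fun u => by
    rw [← (sh_neg l u).1, hix a.1 a.2, hix b.1 b.2]
    exact congrArg (fun i => sh l (act i _)) h)
  obtain ⟨w, hw⟩ := (hF.bijective_of_nat_card_le (by rw [D.card_W, h4, Nat.card_fin])).2 i
  exact ⟨w.1, w.2, fun u => by rw [hix w.1 w.2, show ix w.1 w.2 = i from hw]⟩

/-- The negation belongs to the group as soon as the diagonal vector is moved to its negative. -/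
theorem exists_neg (hn : -dia ∈ D.orb) : ∃ z ∈ W, ∀ v, z v = -v := by
  obtain ⟨n, hn, hnd⟩ := D.mem_orb.1 hn
  obtain ⟨U, hU, hUv⟩ := D.real 1
  obtain ⟨T, hT, hTv⟩ := D.real 3
  simp only [six_mU] at hUv
  simp only [six_mT] at hTv
  have hU3 : U * U * U = 1 := Equiv.ext fun v => by
    simp only [Equiv.Perm.mul_apply, Equiv.Perm.one_apply, hUv, mU_three]
  have hTUT : T * U * T = U * U := Equiv.ext fun v => by
    simp only [Equiv.Perm.mul_apply, hTv, hUv, mT_mU]
  -- the conjugate of the shift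
  have hgd : (n⁻¹ * U * n) dia = dia := by
    simp only [Equiv.Perm.mul_apply, hnd, hUv]
    rw [show mU (-dia) = -dia from (mU_fixed _).2 (Or.inr (Or.inr rfl)), ← hnd]
    exact n.symm_apply_apply _
  obtain ⟨k, hk⟩ := D.stab _ (W.mul_mem (W.mul_mem (W.inv_mem hn) hU) hn) hgd
  have hg3 : (n⁻¹ * U * n) * (n⁻¹ * U * n) * (n⁻¹ * U * n) = 1 := by
    calc _ = n⁻¹ * (U * U * U) * n := by group
      _ = 1 := by rw [hU3]; group
  have hks := six_conj k (six_dia k) fun v _ => by
    have h := Equiv.congr_fun hg3 v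
    rw [Equiv.Perm.mul_apply, Equiv.Perm.mul_apply, Equiv.Perm.one_apply, hk, hk, hk] at h
    exact h
  obtain ⟨m, hm, hmd, hmc⟩ : ∃ m ∈ W, m dia = -dia ∧ m * U = U * m := by
    rcases hks with h | h | h
    · exfalso
      have h1 : n⁻¹ * U * n = 1 := Equiv.ext fun v => ext_additive
        (D.add _ (W.mul_mem (W.mul_mem (W.inv_mem hn) hU) hn)) (g := fun x => x) (fun a b => rfl)
        (fun u hu => by rw [hk, h u hu]) v
      have h2 : U = 1 := by
        calc U = n * (n⁻¹ * U * n) * n⁻¹ := by group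
          _ = 1 := by rw [h1]; group
      have h3 := hUv (1, 0, 0)
      rw [h2, circ_units.1, Equiv.Perm.one_apply] at h3
      exact absurd h3 (by decide)
    · refine ⟨n, hn, hnd, ?_⟩
      have h1 : n⁻¹ * U * n = U := Equiv.ext fun v => ext_additive
        (D.add _ (W.mul_mem (W.mul_mem (W.inv_mem hn) hU) hn)) (D.add _ hU)
        (fun u hu => by rw [hk, h u hu, hUv]) v
      calc n * U = n * (n⁻¹ * U * n) := by rw [h1]
        _ = U * n := by group
    · refine ⟨n * T, W.mul_mem hn hT, by rw [Equiv.Perm.mul_apply, hTv]; exact hnd, ?_⟩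
      have h1 : n⁻¹ * U * n = U * U := Equiv.ext fun v => ext_additive
        (D.add _ (W.mul_mem (W.mul_mem (W.inv_mem hn) hU) hn)) (D.add _ (W.mul_mem hU hU))
        (fun u hu => by rw [hk, h u hu, Equiv.Perm.mul_apply, hUv, hUv]) v
      have hTT : T * T = 1 := Equiv.ext fun v => by simp only [Equiv.Perm.mul_apply, hTv, mT_two]; rfl
      have h2 : T * U = n⁻¹ * U * n * T := by
        rw [h1, ← hTUT, mul_assoc, hTT, mul_one]
      calc n * T * U = n * (T * U) := by rw [mul_assoc]
        _ = U * (n * T) := by rw [h2]; group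
  -- its cube squares to the identity
  have hcU : ∀ v, m (mU v) = mU (m v) := fun v => by
    have h := Equiv.congr_fun hmc v
    simpa only [Equiv.Perm.mul_apply, hUv] using h
  obtain ⟨j, hj⟩ := D.stab (m * m) (W.mul_mem hm hm) (by
    rw [Equiv.Perm.mul_apply, hmd, D.map_neg' hm, hmd, neg_neg])
  refine ⟨m * (m * m), W.mul_mem hm (W.mul_mem hm hm), fun v => ?_⟩
  have hzm := W.mul_mem hm (W.mul_mem hm hm)
  set z := m * (m * m) with hz
  have hzd : z dia = -dia := by
    rw [hz, Equiv.Perm.mul_apply, hj, six_dia, hmd]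
  have hzU : ∀ u, z (mU u) = mU (z u) := fun u => by
    simp only [hz, Equiv.Perm.mul_apply, hcU]
  have hrep : ∀ u, z u = lin (z (1, 0, 0)) (mU (z (1, 0, 0))) (mU (mU (z (1, 0, 0)))) u := by
    intro u
    rw [← hzU, ← hzU, circ_units.1, circ_units.2]
    refine ext_additive (D.add _ hzm) (fun a b => ?_) (fun e he => ?_) u
    · simp only [lin, Prod.fst_add, Prod.snd_add, add_smul]
      abel
    · simp only [List.mem_cons, List.not_mem_nil, or_false] at he
      rcases he with rfl | rfl | rfl <;> simp [lin]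
  have hsq : z (z (1, 0, 0)) = (1, 0, 0) := by
    have hrot : ∀ j : Fin 6, (∀ u ∈ ([(1, 0, 0), (0, 1, 0), (0, 0, 1)] : List V3), six j (mU u) = mU (six j u)) →
        six j (six j (six j (1, 0, 0))) = (1, 0, 0) := by decide +kernel
    have h := hrot j fun u _ => by rw [← hj, ← hj, Equiv.Perm.mul_apply, Equiv.Perm.mul_apply, hcU, hcU]
    rw [← hj, ← hj, ← hj] at h
    simp only [hz, Equiv.Perm.mul_apply] at h ⊢
    exact h
  have hp := circ_neg (z (1, 0, 0)) (by rw [← hrep]; exact hzd) (by rw [← hrep]; exact hsq)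
  have hzn : ∀ u, z u = -u := fun u => ext_additive (D.add _ hzm) (g := fun x => -x)
    (fun a b => neg_add a b) (fun e he => by
      simp only [List.mem_cons, List.not_mem_nil, or_false] at he
      have h2 : z (0, 1, 0) = -(0, 1, 0) := by
        rw [← circ_units.1, hzU, hp]; rfl
      rcases he with rfl | rfl | rfl
      · exact hp
      · exact h2
      · rw [← circ_units.2, hzU, h2]; rfl) u
  exact hzn v

/-- An orbit of eight vectors does not lie in a plane. -/
theorem not_flat (hn : -dia ∈ D.orb) (h8 : D.orb.card = 8) : ∃ v ∈ D.orb, ¬ flat v := by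
  classical
  by_contra hno
  push Not at hno
  obtain ⟨v, hv, hvn⟩ : ∃ v ∈ D.orb, v ∉ ({dia, -dia} : Finset V3) := by
    by_contra h
    push Not at h
    have h1 := Finset.card_le_card h
    have h2 := Finset.card_le_two (a := dia) (b := -dia)
    omega
  simp only [Finset.mem_insert, Finset.mem_singleton, not_or] at hvn
  have hm := D.moved hv hvn.1 hvn.2
  obtain ⟨w, hw, hwv⟩ := D.mem_orb.1 hv
  have hneg : ∀ x ∈ D.orb, -x ∈ D.orb := fun x hx => by
    obtain ⟨u, hu, rfl⟩ := D.mem_orb.1 hx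
    rw [← D.map_neg' hu]
    exact D.orb_map hu hn
  have hU := D.orb_six 1 hv
  rw [six_mU] at hU
  have hUU := D.orb_six 1 hU
  rw [six_mU] at hUU
  have hall : ∀ u, flat u → u ≠ 0 → u ∈ D.orb := by
    intro u hu hu0
    have h := (flat_eight v (hno v hv) hm u hu).resolve_left hu0
    simp only [List.mem_cons, List.not_mem_nil, or_false] at h
    rcases h with rfl | rfl | rfl | rfl | rfl | rfl | rfl | rfl
    exacts [D.dia_mem, hv, hU, hUU, hn, hneg _ hv, hneg _ hU, hneg _ hUU]
  obtain ⟨hc1, hb, hc0, hcd, hcn⟩ := plane_basis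
  set b := w (1, 0, 0) with hbdef
  set c := w (1, 2, 0) with hcdef
  have hwb : ¬ flat b := by
    intro hfb
    have hb0 : b ≠ 0 := fun h => absurd (w.injective (h.trans (D.map_zero' hw).symm)) (by decide)
    obtain ⟨u, hu, hub⟩ := D.mem_orb.1 (hall b hfb hb0)
    have h1 : ((1, 0, 0) : V3) ∈ D.orb := D.mem_orb.2 ⟨w⁻¹ * u, W.mul_mem (W.inv_mem hw) hu, by
      rw [Equiv.Perm.mul_apply, hub]; exact w.symm_apply_apply _⟩
    exact hb (hno _ h1)
  have hlin : ∀ u, w u = lin b (2 • c + b) (v + -(b + (2 • c + b))) u := by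
    intro u
    let f : V3 →+ V3 := AddMonoidHom.mk' w (D.add w hw)
    have key : ∀ A B C : V3, f (lin A B C u) = lin (f A) (f B) (f C) u := fun A B C => by
      simp only [lin, map_add]
      congr 1
      congr 1
      all_goals exact (ZMod.map_smul) f _ _
    conv_lhs => rw [← basis_plane u]
    show f (lin _ _ _ u) = _
    rw [key, map_add f, map_nsmul, map_add f dia, map_neg f, map_add f, map_add f, map_nsmul]
    simp only [f, AddMonoidHom.mk'_apply, ← hbdef, ← hcdef, hwv]
  obtain ⟨word, -, hfix, hnot⟩ := plane_leave v b c (hno v hv) hm hwb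
    (hno _ (D.orb_map hw (hall _ hc1 hc0))) (fun h => hc0 (w.injective (h.trans (D.map_zero' hw).symm)))
    (fun h => hcd (w.injective (h.trans hwv.symm)))
    (fun h => hcn (w.injective (h.trans (by rw [D.map_neg' hw, hwv]))))
  rw [show lin b (2 • c + b) (v + -(b + (2 • c + b))) = ⇑w from (funext hlin).symm] at hfix hnot
  -- the negation of the plane
  have hev : ∀ l : List (Fin 4), ∀ z : Equiv.Perm V3, z ∈ W → (∀ x, z x = -x) →
      ∃ g ∈ W, ∀ x, g x = evalW w l x := by
    intro l z hz hzx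
    induction l with
    | nil => exact ⟨1, W.one_mem, fun x => rfl⟩
    | cons a l ih =>
      obtain ⟨g, hg, hgx⟩ := ih
      obtain ⟨u, hu, huv⟩ := D.real 1
      obtain ⟨t, ht, htv⟩ := D.real 3
      fin_cases a
      · exact ⟨u * g, W.mul_mem hu hg, fun x => by rw [Equiv.Perm.mul_apply, huv, six_mU, hgx]; rfl⟩
      · exact ⟨t * g, W.mul_mem ht hg, fun x => by rw [Equiv.Perm.mul_apply, htv, six_mT, hgx]; rfl⟩
      · exact ⟨z * g, W.mul_mem hz hg, fun x => by rw [Equiv.Perm.mul_apply, hzx, hgx]; rfl⟩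
      · exact ⟨w * g, W.mul_mem hw hg, fun x => by rw [Equiv.Perm.mul_apply, hgx]; rfl⟩
  obtain ⟨z, hz, hzx⟩ := D.exists_neg hn
  obtain ⟨g, hg, hgx⟩ := hev word z hz hzx
  obtain ⟨k, hk⟩ := D.stab g hg (by rw [hgx]; exact hfix)
  obtain ⟨u, -, hu⟩ := hnot k
  exact hu (by rw [← hgx, hk])

/-- An orbit of eight vectors gives the monomial group with signs. -/
theorem signed_monomial (hn : -dia ∈ D.orb) (h8 : D.orb.card = 8) :
    ∃ l, (∀ w ∈ W, ∃ i, (∀ v, w (sh l v) = sh l (act i v)) ∨ ∀ v, w (sh l v) = -(sh l (act i v))) ∧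
      ∀ i, (∃ w ∈ W, ∀ v, w (sh l v) = sh l (act i v)) ∧ ∃ w ∈ W, ∀ v, w (sh l v) = -(sh l (act i v)) := by
  classical
  obtain ⟨z, hz, hzx⟩ := D.exists_neg hn
  have hneg : ∀ x ∈ D.orb, -x ∈ D.orb := fun x hx => hzx x ▸ D.orb_map hz hx
  obtain ⟨v, hv, hflat⟩ : ∃ v ∈ D.orb, v.1 + v.2.1 + v.2.2 = 2 := by
    obtain ⟨v, hv, hnf⟩ := D.not_flat hn h8
    rcases (show ∀ a : ZMod 3, a ≠ 0 → a = 2 ∨ -a = 2 by decide) _ hnf with h | h
    · exact ⟨v, hv, h⟩
    · exact ⟨-v, hneg v hv, by rw [(sum_perm v).2.2]; exact h⟩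
  have hvd : v ≠ dia := fun h => by rw [h] at hflat; exact absurd hflat (by decide)
  have hvn : v ≠ -dia := fun h => by rw [h] at hflat; exact absurd hflat (by decide)
  have hm := D.moved hv hvd hvn
  obtain ⟨-, h20, h21, -, -, -, -, h1d, h2d, -, h1n, h2n⟩ := orbit_facts v hm
  have hU := D.orb_six 1 hv
  rw [six_mU] at hU
  have hUU := D.orb_six 1 hU
  rw [six_mU] at hUU
  set A : Finset V3 := {dia, v, mU v, mU (mU v)} with hA
  have hA4 : A.card = 4 := by
    rw [hA, Finset.card_insert_of_notMem (by simp [Ne.symm hvd, Ne.symm h1d, Ne.symm h2d]),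
      Finset.card_insert_of_notMem (by simp [Ne.symm hm, Ne.symm h20]),
      Finset.card_insert_of_notMem (by simp [Ne.symm h21]), Finset.card_singleton]
  have hAsub : ∀ x ∈ A, x ∈ D.orb := by
    intro x hx
    simp only [hA, Finset.mem_insert, Finset.mem_singleton] at hx
    rcases hx with rfl | rfl | rfl | rfl
    exacts [D.dia_mem, hv, hU, hUU]
  have hsumA : ∀ x ∈ A, x = dia ∨ x.1 + x.2.1 + x.2.2 = 2 := by
    intro x hx
    simp only [hA, Finset.mem_insert, Finset.mem_singleton] at hx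
    rcases hx with rfl | rfl | rfl | rfl
    · exact Or.inl rfl
    · exact Or.inr hflat
    · exact Or.inr ((sum_perm v).1.trans hflat)
    · exact Or.inr ((sum_perm _).1.trans ((sum_perm v).1.trans hflat))
  have hd2 : dia.1 + dia.2.1 + dia.2.2 = 0 := by decide
  have hdisj : Disjoint A (A.image Neg.neg) := by
    rw [Finset.disjoint_left]
    intro x hx hx'
    obtain ⟨y, hy, hyx⟩ := Finset.mem_image.1 hx'
    have h : x.1 + x.2.1 + x.2.2 = -(y.1 + y.2.1 + y.2.2) := by rw [← hyx]; exact (sum_perm y).2.2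
    rcases hsumA x hx with rfl | hx2 <;> rcases hsumA y hy with rfl | hy2
    · exact neg_dia_ne hyx
    · rw [hd2, hy2] at h; exact absurd h (by decide)
    · rw [hd2, hx2] at h; exact absurd h (by decide)
    · rw [hx2, hy2] at h; exact absurd h (by decide)
  have hO : A ∪ A.image Neg.neg = D.orb := by
    refine Finset.eq_of_subset_of_card_le (fun x hx => ?_) ?_
    · rcases Finset.mem_union.1 hx with h | h
      · exact hAsub x h
      · obtain ⟨y, hy, rfl⟩ := Finset.mem_image.1 h
        exact hneg y (hAsub y hy)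
    · rw [Finset.card_union_of_disjoint hdisj, Finset.card_image_of_injective _ neg_injective, hA4, h8]
  have hT : mT v = v ∨ mT v = mU v ∨ mT v = mU (mU v) := by
    have h1 := D.orb_six 3 hv
    rw [six_mT, ← hO] at h1
    have hs := (sum_perm v).2.1.trans hflat
    rcases Finset.mem_union.1 h1 with h | h
    · simp only [hA, Finset.mem_insert, Finset.mem_singleton] at h
      refine h.resolve_left fun e => ?_
      rw [e, hd2] at hs
      exact absurd hs (by decide)
    · obtain ⟨y, hy, hyx⟩ := Finset.mem_image.1 h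
      rw [← hyx, (sum_perm y).2.2] at hs
      rcases hsumA y hy with rfl | hy2
      · rw [hd2] at hs; exact absurd hs (by decide)
      · rw [hy2] at hs; exact absurd hs (by decide)
  obtain ⟨l, hl⟩ := four_shape v hm hflat hT
  have hAto : ∀ x ∈ A, sh (-l) x ∈ four := by
    intro x hx
    simp only [hA, Finset.mem_insert, Finset.mem_singleton] at hx
    rcases hx with rfl | hx
    · rw [sh_dia]; simp [four]
    · exact hl x (by simpa using hx)
  have hto : ∀ x ∈ D.orb, sh (-l) x ∈ eight := by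
    intro x hx
    rw [← hO] at hx
    rcases Finset.mem_union.1 hx with h | h
    · exact Finset.mem_union_left _ (hAto x h)
    · obtain ⟨y, hy, rfl⟩ := Finset.mem_image.1 h
      rw [sh_negv]
      exact Finset.mem_union_right _ (Finset.mem_image_of_mem _ (hAto y hy))
  have himg : D.orb.image (sh (-l)) = eight := Finset.eq_of_subset_of_card_le
    (fun x hx => by obtain ⟨y, hy, rfl⟩ := Finset.mem_image.1 hx; exact hto y hy)
    (by rw [Finset.card_image_of_injective _ fun a b h => by rw [← (sh_neg l a).1, h, (sh_neg l b).1], h8]; rfl)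
  have hfrom : ∀ x ∈ eight, sh l x ∈ D.orb := by
    intro x hx
    rw [← himg] at hx
    obtain ⟨y, hy, rfl⟩ := Finset.mem_image.1 hx
    rwa [(sh_neg l y).1]
  have hdir : ∀ w ∈ W, ∃ i, (∀ u, w (sh l u) = sh l (act i u)) ∨ ∀ u, w (sh l u) = -(sh l (act i u)) := by
    intro w hw
    let g : V3 → V3 := fun u => sh (-l) (w (sh l u))
    have hg : ∀ x ∈ eight, g x ∈ eight := fun x hx => hto _ (D.orb_map hw (hfrom x hx))
    have hgadd : ∀ a b, g (a + b) = g a + g b := fun a b => by simp only [g, sh_add, D.add w hw]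
    have hgneg : ∀ a, g (-a) = -(g a) := fun a => by simp only [g, sh_negv, D.map_neg' hw]
    have hgi : Function.Injective g := fun a b h => by
      have h1 := w.injective (((sh_neg l _).1).symm.trans ((congrArg (sh l) h).trans ((sh_neg l _).1)))
      rw [← (sh_neg l a).2, h1, (sh_neg l b).2]
    obtain ⟨i, hi⟩ := frame_eight (g dia) (hg _ (by decide)) (g (1, 2, 2)) (hg _ (by decide))
      (g (2, 1, 2)) (hg _ (by decide)) (hgi.ne (by decide)) (hgi.ne (by decide)) (hgi.ne (by decide))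
      (hgneg _ ▸ hgi.ne (by decide)) (hgneg _ ▸ hgi.ne (by decide)) (hgneg _ ▸ hgi.ne (by decide))
      (by rw [← hgadd, ← hgadd, ← hgneg]; exact hg _ (by decide))
    rcases hi with ⟨e1, e2, e3⟩ | ⟨e1, e2, e3⟩
    · refine ⟨i, Or.inl fun u => ?_⟩
      rw [← ext_four hgadd (act_add i) e1.symm e2.symm e3.symm u]
      exact ((sh_neg l _).1).symm
    · refine ⟨i, Or.inr fun u => ?_⟩
      rw [← sh_negv, ← ext_four (g := fun x => -(act i x)) hgadd (fun a b => by rw [act_add, neg_add])
        (by rw [e1, neg_neg]) (by rw [e2, neg_neg]) (by rw [e3, neg_neg]) u]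
      exact ((sh_neg l _).1).symm
  refine ⟨l, hdir, fun i => ?_⟩
  choose ix hix using hdir
  let F : W → Fin 24 × Bool := fun w =>
    (ix w.1 w.2, if ∀ u, (w : Equiv.Perm V3) (sh l u) = sh l (act (ix w.1 w.2) u) then true else false)
  have hval : ∀ w : W, ∀ u, w.1 (sh l u) =
      if (F w).2 then sh l (act (F w).1 u) else -(sh l (act (F w).1 u)) := by
    intro w u
    by_cases h : ∀ u, (w : Equiv.Perm V3) (sh l u) = sh l (act (ix w.1 w.2) u)
    · simp only [F, if_pos h]
      exact h u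
    · simp only [F, if_neg h, Bool.false_eq_true, if_false]
      exact (hix w.1 w.2).resolve_left h u
  have hF : Function.Injective F := fun a b h => Subtype.ext (Equiv.ext fun u => by
    rw [← (sh_neg l u).1, hval, hval, h])
  have hb := (hF.bijective_of_nat_card_le (by
    rw [D.card_W, h8, Nat.card_prod, Nat.card_fin, Nat.card_eq_fintype_card]; rfl)).2
  constructor
  · obtain ⟨w, hw⟩ := hb (i, true)
    exact ⟨w.1, w.2, fun u => by rw [hval, hw]; rfl⟩
  · obtain ⟨w, hw⟩ := hb (i, false)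
    exact ⟨w.1, w.2, fun u => by rw [hval, hw]; rfl⟩

end WData

end Cfsg.Agent.Lie.PSpFourThreeFull
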