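import Cfsg.Agent.Lib.Lie.PSpFourThreeFull.Setup
import Cfsg.Agent.Lib.Lie.PSpFourThreeFull.WFour

/-!
A central automorphism of the model straightens the monomial frame.
-/

set_option autoImplicit false
set_option linter.unusedSectionVars false

namespace Cfsg.Agent.Lie.PSpFourThreeFull

open Cfsg.Agent.Lie.PSpFourThreeAmalgam
open Cfsg.Agent.Small.ShapeThree (M omega S)
open Matrix

/-- The character of order three of the special linear group. -/
def chi (g : S) : ZMod 3 :=
  if g * g * (g * g) = 1 then 0 else if uni 2 * g * (uni 2 * g) * (uni 2 * g * (uni 2 * g)) = 1 then 1 else 2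

theorem chi_mul : ∀ g h : S, chi (g * h) = chi g + chi h := by decide +kernel

theorem chi_one : chi 1 = 0 := by decide +kernel

/-- The central automorphism with a given twist. -/
def twist (n : ZMod 3) : M →* M where
  toFun x := ⟨x.k + n * chi x.g, x.v, x.g⟩
  map_one' := by
    refine M.ext ?_ rfl rfl
    simp [M.one_k, M.one_g, chi_one]
  map_mul' x y := by
    refine M.ext ?_ rfl rfl
    simp only [M.mul_k, M.mul_g, chi_mul]
    ring

theorem twist_inj (n : ZMod 3) : Function.Injective (twist n) := fun x y h => by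
  have hg : x.g = y.g := (congrArg M.g h :)
  have hk : x.k + n * chi x.g = y.k + n * chi y.g := (congrArg M.k h :)
  rw [hg, add_left_inj] at hk
  exact M.ext hk (congrArg M.v h :) hg

theorem twist_c : ∀ n, twist n M.c = M.c := by decide +kernel

theorem twist_jc : ∀ l, ∃ n, ∀ v, twist n (jc v) = jc (sh l v) := by decide +kernel

namespace Conf

variable {G : Type*} [Group G] [Finite G]

/-- With the orbit of size four or eight the frame can be chosen straight. -/
theorem exists_straight (T : Conf G) (l : ZMod 3) :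
    ∃ T' : Conf G, T'.a = T.a ∧ T'.J = T.J ∧ T'.φ.range = T.φ.range ∧ ∀ v, T'.q v = T.q (sh l v) := by
  obtain ⟨n, hn⟩ := twist_jc l
  have hrange : (T.φ.comp (twist n)).range = T.φ.range := by
    rw [MonoidHom.range_comp, MonoidHom.range_eq_top.2
      (Finite.injective_iff_surjective.1 (twist_inj n)), ← MonoidHom.range_eq_map]
  have hJ : Jm.map (T.φ.comp (twist n)) = T.J := by
    rw [← Subgroup.map_map]
    refine congrArg (Subgroup.map T.φ) (Subgroup.eq_of_le_of_card_ge ?_
      (by rw [Subgroup.card_map_of_injective (twist_inj n)]))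
    rintro _ ⟨m, ⟨x, rfl⟩, rfl⟩
    exact ⟨Multiplicative.ofAdd (sh l x.toAdd), (hn x.toAdd).symm⟩
  refine ⟨⟨T.φ.comp (twist n), T.inj.comp (twist_inj n), ?_, fun K hK hJK => T.sig K hK (hJ.symm.le.trans hJK)⟩, ?_, hJ, hrange,
    fun v => ?_⟩
  · rw [hrange, MonoidHom.comp_apply, twist_c]
    exact T.range_eq
  · show T.φ (twist n M.c) = _
    rw [twist_c]
    rfl
  · show T.φ (twist n (jc v)) = _
    rw [hn]
    rfl

/-- The frame is straight and the full signed monomial group is induced. -/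
structure Signed (T : Conf G) : Prop where
  dir : ∀ g ∈ Subgroup.normalizer (T.J : Set G), ∃ i,
    (∀ v, g * T.q v * g⁻¹ = T.q (act i v)) ∨ ∀ v, g * T.q v * g⁻¹ = T.q (-(act i v))
  pos : ∀ i, ∃ g ∈ Subgroup.normalizer (T.J : Set G), ∀ v, g * T.q v * g⁻¹ = T.q (act i v)
  neg : ∀ i, ∃ g ∈ Subgroup.normalizer (T.J : Set G), ∀ v, g * T.q v * g⁻¹ = T.q (-(act i v))

/-- An orbit of eight vectors gives a straight signed frame. -/
theorem exists_signed (T : Conf G) (hn : -dia ∈ T.wdata.orb) (h8 : T.wdata.orb.card = 8) :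
    ∃ T' : Conf G, T'.a = T.a ∧ T'.Signed := by
  obtain ⟨l, hdir, hall⟩ := T.wdata.signed_monomial hn h8
  obtain ⟨T', ha, hJ, -, hq⟩ := T.exists_straight l
  have hN : Subgroup.normalizer (T'.J : Set G) = Subgroup.normalizer (T.J : Set G) := by rw [hJ]
  refine ⟨T', ha, ⟨fun g hg => ?_, fun i => ?_, fun i => ?_⟩⟩
  · obtain ⟨i, hi⟩ := hdir _ ⟨⟨g, hN ▸ hg⟩, rfl⟩
    refine ⟨i, hi.imp (fun h v => ?_) fun h v => ?_⟩
    · rw [hq, T.conjPerm_spec ⟨g, hN ▸ hg⟩, h, hq]
    · rw [hq, T.conjPerm_spec ⟨g, hN ▸ hg⟩, h, hq, sh_negv]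
  · obtain ⟨⟨_, ⟨g, rfl⟩, hg⟩, -⟩ := hall i
    exact ⟨g, hN.symm ▸ g.2, fun v => by rw [hq, T.conjPerm_spec, hg, hq]⟩
  · obtain ⟨-, _, ⟨g, rfl⟩, hg⟩ := hall i
    exact ⟨g, hN.symm ▸ g.2, fun v => by rw [hq, T.conjPerm_spec, hg, hq, sh_negv]⟩

end Conf

end Cfsg.Agent.Lie.PSpFourThreeFull
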