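import Cfsg.Agent.Lib.Lie.PSpFourThreeFull.Setup
import Cfsg.Agent.Lib.Lie.PSpFourThreeFull.WFour
import Cfsg.Agent.Lib.Lie.PSpFourThreeFull.Flat
import Cfsg.Agent.Lib.Lie.PSpFourThreeAmalgam.Final
import Cfsg.Agent.Lib.Fusion.Focal
import Cfsg.Agent.S0077
import Cfsg.Agent.Lib.Solv.Extraspecial

/-!
The case of an element not conjugate to its inverse.
-/

set_option autoImplicit false
set_option linter.unusedSectionVars false
set_option linter.style.haveILetI false
set_option maxRecDepth 100000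
set_option synthInstance.maxSize 4000

namespace Cfsg.Agent.Lie.PSpFourThreeFull

open Cfsg.Agent.Lie.PSpFourThreeAmalgam
open Cfsg.Agent.Small.ShapeThree (M)

/-- The projection of the model on the special linear group. -/
def gM : M →* SL23 := MonoidHom.mk' (fun m => m.g) fun _ _ => rfl

theorem card_SL23' : Nat.card SL23 = 24 := by
  rw [Nat.card_eq_fintype_card]
  decide +kernel

theorem gM_surj : Function.Surjective gM := fun s => ⟨⟨0, 0, s⟩, rfl⟩

theorem sl_three_order : ∀ σ : SL23, σ ^ 81 = 1 → σ ^ 3 = 1 := by decide +kernel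

theorem sl_no_normal_three : ∀ σ : SL23, σ ^ 3 = 1 → σ ≠ 1 → ∃ τ, (σ * (τ * σ * τ⁻¹)) ^ 3 ≠ 1 := by
  decide +kernel

theorem perm_no_normal_three : ∀ σ : Equiv.Perm (Fin 4), σ ^ 3 = 1 → σ ≠ 1 →
    ∃ τ, (σ * (τ * σ * τ⁻¹)) ^ 3 ≠ 1 := by
  decide +kernel

/-- A normal three-group of a group all whose elements of three-power order divide three and have this property. -/
theorem normal_three_bot {H : Type*} [Group H] [Finite H] (h81 : ∀ σ : H, σ ^ 81 = 1 → σ ^ 3 = 1)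
    (hno : ∀ σ : H, σ ^ 3 = 1 → σ ≠ 1 → ∃ τ, (σ * (τ * σ * τ⁻¹)) ^ 3 ≠ 1)
    (N : Subgroup H) [hN : N.Normal] (hc : Nat.card N ∣ 81) : N = ⊥ := by
  have h3 : ∀ σ ∈ N, σ ^ 3 = 1 := fun σ hσ => h81 σ
    (orderOf_dvd_iff_pow_eq_one.1 ((Subgroup.orderOf_dvd_natCard N hσ).trans hc))
  rw [Subgroup.eq_bot_iff_forall]
  intro σ hσ
  by_contra h
  obtain ⟨τ, hτ⟩ := hno σ (h3 σ hσ) h
  exact hτ (h3 _ (N.mul_mem hσ (hN.conj_mem _ hσ τ)))

theorem c_form : ∀ k : ZMod 3, ∀ v : Fin 2 → ZMod 3,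
    (∀ k' : ZMod 3, ∀ v' : Fin 2 → ZMod 3, (⟨k, v, 1⟩ : M) * ⟨k', v', 1⟩ = ⟨k', v', 1⟩ * ⟨k, v, 1⟩) → v = 0 := by
  decide +kernel

theorem core_nat_left : ∀ k k' : ZMod 3, ∀ v v' : Fin 2 → ZMod 3,
    ((⟨k, v, 1⟩ : M) * ⟨k', v', 1⟩ * (⟨k, v, 1⟩ : M)⁻¹ * (⟨k', v', 1⟩ : M)⁻¹).v = 0 := by
  decide +kernel

theorem core_nat_right : ∀ m : M,
    (m * ⟨0, ![1, 0], 1⟩ * m⁻¹ * (⟨0, ![1, 0], 1⟩ : M)⁻¹).v = 0 →
    (m * ⟨0, ![0, 1], 1⟩ * m⁻¹ * (⟨0, ![0, 1], 1⟩ : M)⁻¹).v = 0 → m.g = 1 := by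
  decide +kernel

theorem chi_witness : ∃ n : ZMod 3, chi (uni n) ≠ 0 ∧ (⟨0, 0, uni n⟩ : M) ∈ M.P :=
  ⟨1, by decide +kernel, ⟨by decide +kernel, by decide +kernel, by decide +kernel⟩⟩

/-- The character of the model. -/
def chiHom : M →* Multiplicative (ZMod 3) :=
  MonoidHom.mk' (fun m => Multiplicative.ofAdd (chi m.g)) fun x y => by
    show Multiplicative.ofAdd (chi (x.g * y.g)) = _
    rw [chi_mul, ofAdd_add]

/-- Being extraspecial is invariant under isomorphism. -/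
theorem extraspecial_equiv {X Y : Type*} [Group X] [Group Y] [Finite X] (e : X ≃* Y) {p : ℕ} [Fact p.Prime]
    (h : Cfsg.IsExtraspecial p X) : Cfsg.IsExtraspecial p Y := by
  haveI : Finite Y := Finite.of_equiv _ e.toEquiv
  have hc : Subgroup.center Y = (Subgroup.center X).map e.toMonoidHom := by
    ext y
    rw [Subgroup.mem_map]
    constructor
    · intro hy
      exact ⟨e.symm y, Subgroup.mem_center_iff.2 fun x => e.injective (by
        rw [map_mul, map_mul, e.apply_symm_apply]; exact Subgroup.mem_center_iff.1 hy (e x)), e.apply_symm_apply y⟩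
    · rintro ⟨x, hx, rfl⟩
      exact Subgroup.mem_center_iff.2 fun w => by
        have := congrArg e (Subgroup.mem_center_iff.1 hx (e.symm w))
        rwa [map_mul, map_mul, e.apply_symm_apply] at this
  refine Cfsg.Agent.Solv.isExtraspecial_of (h.1.1.of_equiv e) ?_ ?_ fun y => ?_
  · rw [hc, ← Nat.card_congr ((Subgroup.center X).equivMapOfInjective e.toMonoidHom e.injective).toEquiv]
    exact h.2
  · rw [hc, ← h.1.2.2, commutator_def, commutator_def, Subgroup.map_commutator,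
      Subgroup.map_top_of_surjective e.toMonoidHom e.surjective]
  · rw [hc]
    exact ⟨e.symm y ^ p, Cfsg.Agent.Solv.extraspecial_pow_mem_center h _, by simp⟩

namespace Conf

variable {G : Type*} [Group G] [Finite G] (T : Conf G)

/-- A Sylow subgroup with the given underlying subgroup. -/
theorem exists_sylow : ∃ P : Sylow 3 G, (P : Subgroup G) = T.S := by
  haveI : Fact (Nat.Prime 3) := ⟨Nat.prime_three⟩
  obtain ⟨Q, hQ⟩ := (IsPGroup.of_card (n := 4) (by rw [T.card_S]; norm_num) : IsPGroup 3 T.S).exists_le_sylow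
  exact ⟨Q, (Subgroup.eq_of_le_of_card_ge hQ (by rw [T.card_S]; exact T.card_le_of_isPGroup Q.2)).symm⟩

theorem not_inv_mem (hn : ¬ ∃ g : G, g * T.a * g⁻¹ = T.a⁻¹) : -dia ∉ T.wdata.orb :=
  fun h => hn (T.neg_mem_orb_iff.1 h)

/-- The normaliser of the group of the central element is its centraliser. -/
theorem normalizer_a (hn : ¬ ∃ g : G, g * T.a * g⁻¹ = T.a⁻¹) :
    Subgroup.normalizer (Subgroup.zpowers T.a : Set G) = T.φ.range := by
  ext g
  constructor
  · intro hg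
    have h := (Subgroup.mem_normalizer_iff.1 hg T.a).1 (Subgroup.mem_zpowers _)
    obtain ⟨k, hk⟩ := Subgroup.mem_zpowers_iff.1 h
    have hk2 : T.a ^ k = T.a ^ (k % 3) := by
      conv_lhs => rw [← Int.mul_ediv_add_emod k 3, zpow_add, zpow_mul, show T.a ^ (3 : ℤ) = 1 from by
        exact_mod_cast T.a_cube, one_zpow, one_mul]
    rw [hk2] at hk
    have := Int.emod_nonneg k (show (3 : ℤ) ≠ 0 by norm_num)
    have := Int.emod_lt_of_pos k (show (0 : ℤ) < 3 by norm_num)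
    rcases (by omega : k % 3 = 0 ∨ k % 3 = 1 ∨ k % 3 = 2) with e | e | e <;> rw [e] at hk
    · exact absurd (conj_eq_one_iff.1 (hk.symm.trans (zpow_zero _))) T.a_ne
    · rw [zpow_one] at hk
      exact T.cent_a.1 (mul_inv_eq_iff_eq_mul.1 hk.symm)
    · refine absurd ⟨g, hk.symm.trans (eq_inv_of_mul_eq_one_left ?_)⟩ hn
      rw [← zpow_add_one]
      exact_mod_cast T.a_cube
  · intro hg
    rw [Subgroup.mem_normalizer_iff]
    have hc : Commute g T.a := T.cent_a.2 hg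
    intro y
    constructor
    · rintro ⟨k, rfl⟩
      exact ⟨k, by show T.a ^ k = _; rw [(hc.zpow_right k).eq, mul_inv_cancel_right]⟩
    · rintro ⟨k, hk⟩
      refine ⟨k, ?_⟩
      have h1 : g * y * g⁻¹ = T.a ^ k := hk.symm
      show T.a ^ k = y
      calc T.a ^ k = g⁻¹ * (g * T.a ^ k) := by group
        _ = g⁻¹ * (T.a ^ k * g) := by rw [(hc.zpow_right k).eq]
        _ = y := by rw [← h1]; group

/-- If the element is not fused in the normaliser, there is a normal subgroup of index three. -/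
theorem index_three (hn : ¬ ∃ g : G, g * T.a * g⁻¹ = T.a⁻¹) (h1 : T.wdata.orb.card = 1) :
    ∃ N : Subgroup G, N.Normal ∧ N.index = 3 := by
  haveI : Fact (Nat.Prime 3) := ⟨Nat.prime_three⟩
  obtain ⟨P, hP⟩ := T.exists_sylow
  have horb : ∀ v ∈ T.wdata.orb, v = dia := fun v hv =>
    (Finset.card_le_one.1 h1.le) v hv dia T.wdata.dia_mem
  have hclosed : ∀ g : G, g * T.a * g⁻¹ ∈ T.S → g * T.a * g⁻¹ = T.a := by
    intro g hg
    obtain ⟨h, hh, hhJ⟩ := T.three_in_J hg (by rw [conj_pow, T.a_cube, mul_one, mul_inv_cancel])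
    have h2 : h * (g * T.a * g⁻¹) * h⁻¹ = h * g * T.a * (h * g)⁻¹ := by group
    rw [h2] at hhJ
    obtain ⟨n, hnN, hna⟩ := T.fusion hhJ
    have h3 : T.conjPerm ⟨n, hnN⟩ dia = dia := horb _ (T.wdata.mem_orb.2 ⟨_, ⟨_, rfl⟩, rfl⟩)
    have h4 : n * T.q dia * n⁻¹ = T.q dia := by rw [T.conjPerm_spec ⟨n, hnN⟩, h3]
    rw [T.q_dia, hna, ← h2] at h4
    calc g * T.a * g⁻¹ = h⁻¹ * (h * (g * T.a * g⁻¹) * h⁻¹) * h := by group
      _ = h⁻¹ * (T.a * h) := by rw [h4]; group
      _ = T.a := by rw [← hh]; group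
  have hZ : Subgroup.zpowers T.a ≤ Subgroup.centralizer ((P : Subgroup G) : Set G) :=
    Subgroup.zpowers_le.2 (Subgroup.mem_centralizer_iff.2 fun s hs => T.S_comm_a (hP ▸ hs))
  have hW : Cfsg.IsWeaklyClosed (Subgroup.zpowers T.a) (P : Subgroup G) := by
    refine ⟨Subgroup.zpowers_le.2 (hP ▸ T.J_le_S T.a_mem), fun g hg => ?_⟩
    rw [MonoidHom.map_zpowers] at hg ⊢
    rw [hP] at hg
    show Subgroup.zpowers (g * T.a * g⁻¹) = _
    rw [hclosed g (hg (Subgroup.mem_zpowers _))]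
  refine Cfsg.Agent.Fusion.exists_normal_index_prime (Cfsg.Agent.Fusion.sylIn_top P) fun hle => ?_
  obtain ⟨n, hne, hnP⟩ := chi_witness
  have hmem : T.φ ⟨0, 0, uni n⟩ ∈ (P : Subgroup G) := hP ▸ ⟨_, hnP, rfl⟩
  have h5 : T.φ ⟨0, 0, uni n⟩ ∈ ⁅T.φ.range, T.φ.range⁆ := by
    have := (Cfsg.Agent.S0077.result P _ hZ hW).le ⟨hle hmem, hmem⟩
    rw [T.normalizer_a hn] at this
    exact this.1
  rw [← map_commutator_eq] at h5
  obtain ⟨m, hm, hmn⟩ := h5
  obtain rfl := T.inj hmn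
  have h6 := Abelianization.commutator_subset_ker chiHom hm
  exact hne (Multiplicative.ofAdd.injective h6)

/-- The second local subgroup of the amalgam. -/
theorem range_core : (Cfsg.pCore 3 T.φ.range).map T.φ.range.subtype = (gM.ker).map T.φ := by
  haveI : Fact (Nat.Prime 3) := ⟨Nat.prime_three⟩
  let e : M ≃* T.φ.range := MonoidHom.ofInjective T.inj
  have hk : Nat.card gM.ker = 27 := by
    have h := gM.ker.card_mul_index
    rw [Subgroup.index_ker, MonoidHom.range_eq_top.2 gM_surj, Subgroup.card_top, M.card_eq, card_SL23'] at h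
    omega
  have hM : Cfsg.pCore 3 M = gM.ker := by
    refine le_antisymm ?_ (Cfsg.Agent.Fusion.le_pCore (IsPGroup.of_card (n := 3) (by rw [hk]; norm_num)))
    haveI : (Cfsg.pCore 3 M).Normal := Subgroup.sSup_normal _ fun N hN => hN.1
    haveI : ((Cfsg.pCore 3 M).map gM).Normal := Subgroup.Normal.map inferInstance _ gM_surj
    rw [← Subgroup.map_eq_bot_iff]
    refine normal_three_bot sl_three_order sl_no_normal_three _ ?_
    obtain ⟨j, hj⟩ := IsPGroup.iff_card.1 ((Cfsg.Agent.Fusion.isPGroup_pCore 3 M).map gM)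
    rw [hj, show (81 : ℕ) = 3 ^ 4 by norm_num]
    refine pow_dvd_pow 3 ?_
    by_contra hj4
    have h := Subgroup.card_subgroup_dvd_card ((Cfsg.pCore 3 M).map gM)
    rw [hj, card_SL23'] at h
    have := (pow_dvd_pow 3 (by omega : 2 ≤ j)).trans h
    norm_num at this
  rw [← hM, ← Cfsg.Agent.Fusion.map_pCore_equiv e, Subgroup.map_map]
  rfl

/-- An orbit of four vectors gives the amalgam. -/
theorem exists_amal (hn : ¬ ∃ g : G, g * T.a * g⁻¹ = T.a⁻¹) (h4 : T.wdata.orb.card = 4)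
    (hR : Cfsg.IsExtraspecial 3 (Cfsg.pCore 3 T.φ.range)) :
    ∃ A : Amal G, A.A₁ = Subgroup.normalizer (T.J : Set G) ∧ A.A₂ = T.φ.range := by
  classical
  haveI : Fact (Nat.Prime 3) := ⟨Nat.prime_three⟩
  set N := Subgroup.normalizer (T.J : Set G) with hNdef
  have hJN : T.J ≤ N := Subgroup.le_normalizer
  have hker : T.conjPerm.ker = T.J.subgroupOf N := by
    ext g
    rw [MonoidHom.mem_ker, T.conjPerm_ker]
    rfl
  haveI hn₁ : (T.J.subgroupOf N).Normal := hker ▸ inferInstance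
  obtain ⟨l, hdir, hall⟩ := T.wdata.monomial (T.not_inv_mem hn) h4
  -- the group of the orbit
  let res : T.W →* Equiv.Perm {v // v ∈ T.wdata.orb} :=
    { toFun := fun w => ⟨fun v => ⟨w.1 v.1, T.wdata.orb_map w.2 v.2⟩,
        fun v => ⟨w⁻¹.1 v.1, T.wdata.orb_map (w⁻¹).2 v.2⟩, fun v => Subtype.ext (by simp),
        fun v => Subtype.ext (by simp)⟩
      map_one' := rfl
      map_mul' := fun _ _ => rfl }
  have hinj : Function.Injective res := by
    rw [injective_iff_map_eq_one]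
    intro w hw
    obtain ⟨i, hi⟩ := hdir w.1 w.2
    have hfix : ∀ u ∈ four, act i u = u := by
      intro u hu
      obtain ⟨j, hj⟩ : ∃ j, act j dia = u := by
        revert u
        decide +kernel
      obtain ⟨w', hw', hwj⟩ := hall j
      have hmem : sh l u ∈ T.wdata.orb := by
        rw [← hj, ← hwj, sh_dia]
        exact T.wdata.mem_orb.2 ⟨w', hw', rfl⟩
      have h1 : w.1 (sh l u) = sh l u := congrArg (fun f : Equiv.Perm _ => (f ⟨_, hmem⟩).1) hw
      rw [hi] at h1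
      have h2 := congrArg (sh (-l)) h1
      rwa [(sh_neg l _).2, (sh_neg l _).2] at h2
    have hid : ∀ v, act i v = v := fun v =>
      ext_four (g := id) (act_add i) (fun _ _ => rfl) (hfix _ (by decide)) (hfix _ (by decide)) (hfix _ (by decide)) v
    refine Subtype.ext (Equiv.ext fun v => ?_)
    have h1 := hi (sh (-l) v)
    rwa [hid, (sh_neg l v).1] at h1
  have hWc : Nat.card T.W = 24 := by rw [T.wdata.card_W, h4]
  have hPc : Nat.card (Equiv.Perm {v // v ∈ T.wdata.orb}) = 24 := by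
    rw [Nat.card_perm, Nat.card_eq_fintype_card, Fintype.card_coe, h4]
    rfl
  have hbij : Function.Bijective res :=
    (Nat.bijective_iff_injective_and_card _).2 ⟨hinj, hWc.trans hPc.symm⟩
  let e₁ : N ⧸ T.J.subgroupOf N ≃* Equiv.Perm (Fin 4) :=
    ((QuotientGroup.quotientMulEquivOfEq hker.symm).trans (QuotientGroup.quotientKerEquivRange T.conjPerm)).trans
      ((MulEquiv.ofBijective res hbij).trans
        ((Finset.equivFinOfCardEq h4).permCongrHom))
  -- orders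
  have hN648 : Nat.card N = 648 := by
    rw [← (T.J.subgroupOf N).card_mul_index, Nat.card_congr (Subgroup.subgroupOfEquivOfLe hJN).toEquiv, T.card_J,
      Subgroup.index, Nat.card_congr e₁.toEquiv, Nat.card_perm, Nat.card_fin]
    rfl
  have hR648 : Nat.card T.φ.range = 648 := by
    rw [← Nat.card_congr (MonoidHom.ofInjective T.inj).toEquiv, M.card_eq]
  have hSN : T.S ≤ N := by
    intro s hs
    rw [hNdef, Subgroup.mem_normalizer_iff_map_conj_eq]
    refine T.abelian_eq ?_ (by rw [Subgroup.card_map_of_injective (MulEquiv.injective _), T.card_J]) ?_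
    · rintro _ ⟨x, hx, rfl⟩
      exact T.S.mul_mem (T.S.mul_mem hs (T.J_le_S hx)) (T.S.inv_mem hs)
    · rintro _ ⟨x, hx, rfl⟩ _ ⟨y, hy, rfl⟩
      rw [← map_mul, ← map_mul, T.J_comm hx hy]
  have h81 : 81 ∣ Nat.card (N ⊓ T.φ.range : Subgroup G) :=
    T.card_S ▸ Subgroup.card_dvd_of_le (le_inf hSN (Subgroup.map_le_range _ _))
  have hsyl : ∀ A : Subgroup G, Nat.card A = 648 → N ⊓ T.φ.range ≤ A →
      ¬ 3 ∣ ((N ⊓ T.φ.range).subgroupOf A).index := by
    intro A hA hle h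
    have h1 := ((N ⊓ T.φ.range).subgroupOf A).card_mul_index
    rw [Nat.card_congr (Subgroup.subgroupOfEquivOfLe hle).toEquiv, hA] at h1
    have := Nat.mul_dvd_mul h81 h
    rw [h1] at this
    norm_num at this
  -- the cores
  have hQ₁ : T.J = Cfsg.pCoreOf 3 N := by
    have hcore : Cfsg.pCore 3 N = T.J.subgroupOf N := by
      refine le_antisymm ?_ (Cfsg.Agent.Fusion.le_pCore (IsPGroup.of_card (n := 3) (by
        rw [Nat.card_congr (Subgroup.subgroupOfEquivOfLe hJN).toEquiv, T.card_J]; norm_num)))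
      haveI : (Cfsg.pCore 3 N).Normal := Subgroup.sSup_normal _ fun K hK => hK.1
      set π := e₁.toMonoidHom.comp (QuotientGroup.mk' (T.J.subgroupOf N))
      have hπ : Function.Surjective π := e₁.surjective.comp (QuotientGroup.mk'_surjective _)
      haveI : ((Cfsg.pCore 3 N).map π).Normal := Subgroup.Normal.map inferInstance _ hπ
      have hb := normal_three_bot three_order perm_no_normal_three ((Cfsg.pCore 3 N).map π) (by
        obtain ⟨j, hj⟩ := IsPGroup.iff_card.1 ((Cfsg.Agent.Fusion.isPGroup_pCore 3 N).map π)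
        rw [hj, show (81 : ℕ) = 3 ^ 4 by norm_num]
        refine pow_dvd_pow 3 ?_
        by_contra hj4
        have h := Subgroup.card_subgroup_dvd_card ((Cfsg.pCore 3 N).map π)
        rw [hj, Nat.card_perm, Nat.card_fin] at h
        have := (pow_dvd_pow 3 (by omega : 2 ≤ j)).trans h
        norm_num [Nat.factorial] at this)
      intro x hx
      have h1 : π x ∈ (Cfsg.pCore 3 N).map π := Subgroup.mem_map_of_mem _ hx
      rw [hb, Subgroup.mem_bot] at h1
      exact (QuotientGroup.eq_one_iff x).1 (e₁.map_eq_one_iff.1 h1)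
    rw [Cfsg.pCoreOf, hcore, Subgroup.subgroupOf_map_subtype, inf_eq_left.2 hJN]
  set Q₂ := Cfsg.pCoreOf 3 T.φ.range with hQ₂
  have hQ₂g : Q₂ = gM.ker.map T.φ := T.range_core
  have hmem₂ : ∀ m : M, T.φ m ∈ Q₂ ↔ m.g = 1 := fun m => by
    rw [hQ₂g]
    exact ⟨fun ⟨x, hx, hxm⟩ => T.inj hxm ▸ hx, fun h => ⟨m, h, rfl⟩⟩
  have hn₂ : (Q₂.subgroupOf T.φ.range) = Cfsg.pCore 3 T.φ.range := by
    rw [hQ₂, Cfsg.pCoreOf, Subgroup.subgroupOf, Subgroup.comap_map_eq_self_of_injective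
      T.φ.range.subtype_injective]
  haveI hn₂' : (Q₂.subgroupOf T.φ.range).Normal := hn₂ ▸ Subgroup.sSup_normal _ fun K hK => hK.1
  let π₂ : T.φ.range →* SL23 := gM.comp (MonoidHom.ofInjective T.inj).symm.toMonoidHom
  have hπ₂ : Function.Surjective π₂ := gM_surj.comp (MulEquiv.surjective _)
  have hker₂ : π₂.ker = Q₂.subgroupOf T.φ.range := by
    ext ⟨x, m, rfl⟩
    rw [MonoidHom.mem_ker, Subgroup.mem_subgroupOf, hmem₂]
    show gM ((MonoidHom.ofInjective T.inj).symm ⟨T.φ m, _⟩) = 1 ↔ _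
    rw [show (⟨T.φ m, _⟩ : T.φ.range) = MonoidHom.ofInjective T.inj m from rfl, MulEquiv.symm_apply_apply]
    rfl
  let e₂ : T.φ.range ⧸ Q₂.subgroupOf T.φ.range ≃* SL23 :=
    (QuotientGroup.quotientMulEquivOfEq hker₂.symm).trans (QuotientGroup.quotientKerEquivOfSurjective π₂ hπ₂)
  have hes : Cfsg.IsExtraspecial 3 ↥Q₂ := extraspecial_equiv
    ((Cfsg.pCore 3 T.φ.range).equivMapOfInjective _ T.φ.range.subtype_injective) hR
  have hc₂ : Nat.card Q₂ = 27 := by
    have h := (Q₂.subgroupOf T.φ.range).card_mul_index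
    rw [Nat.card_congr (Subgroup.subgroupOfEquivOfLe
        (show Q₂ ≤ T.φ.range from Subgroup.map_subtype_le _)).toEquiv, Subgroup.index,
      Nat.card_congr e₂.toEquiv, hR648, card_SL23'] at h
    omega
  have hZmem : ∀ m : M, T.φ m ∈ Subgroup.zpowers T.a ↔ m.g = 1 ∧ m.v = 0 := by
    intro m
    constructor
    · intro h
      rw [show T.a = T.φ M.c from rfl, ← MonoidHom.map_zpowers] at h
      obtain ⟨x, hx, hxm⟩ := h
      obtain rfl := T.inj hxm
      obtain ⟨k, rfl⟩ := (mem_powers_iff_mem_zpowers.2 hx : _)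
      show (M.c ^ k).g = 1 ∧ (M.c ^ k).v = 0
      rw [M.c_pow_nat]
      exact ⟨rfl, rfl⟩
    · rintro ⟨h1, h2⟩
      refine ⟨(m.k.val : ℤ), ?_⟩
      show T.a ^ (m.k.val : ℤ) = T.φ m
      rw [zpow_natCast, show T.a = T.φ M.c from rfl, ← map_pow, ← M.c_pow]
      congr 1
      exact M.ext rfl h2.symm h1.symm
  refine ⟨{ A₁ := N, A₂ := T.φ.range, Q₁ := T.J, Q₂ := Q₂, Z₂ := Subgroup.zpowers T.a,
            syl₁ := hsyl N hN648 inf_le_left, syl₂ := hsyl _ hR648 inf_le_right,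
            hQ₁ := hQ₁, hQ₂ := hQ₂, n₁ := hn₁, n₂ := hn₂', e₁ := e₁, e₂ := e₂,
            ea := ⟨⟨⟨fun x y => Subtype.ext (T.J_comm x.2 y.2)⟩⟩, fun x hx => ?_⟩,
            c₁ := T.card_J, faith := ?_, es := hes, c₂ := hc₂, hZ₂ := ?_, nat := ?_, N₁ := rfl,
            N₂ := T.normalizer_a hn,
            sig := fun K hK hJK => T.sig K hK hJK }, rfl, rfl⟩
  · obtain ⟨v, rfl⟩ := T.mem_J.1 hx
    exact T.q_cube v
  · refine le_antisymm (fun x hx => T.cent_J fun y hy => (Subgroup.mem_centralizer_iff.1 hx.2 y hy).symm)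
      (le_inf hJN fun x hx => Subgroup.mem_centralizer_iff.2 fun y hy => T.J_comm hy hx)
  · refine le_antisymm (Subgroup.zpowers_le.2 ⟨(hmem₂ M.c).2 rfl, ?_⟩) ?_
    · refine Subgroup.mem_centralizer_iff.2 fun y hy => ?_
      rw [hQ₂g] at hy
      obtain ⟨m, -, rfl⟩ := hy
      exact T.cent_a.2 ⟨m, rfl⟩
    · rintro x ⟨hx, hxc⟩
      obtain ⟨⟨k, v, g⟩, hg, rfl⟩ := hQ₂g ▸ hx
      obtain rfl : g = 1 := hg
      refine (hZmem _).2 ⟨rfl, c_form k v fun k' v' => T.inj ?_⟩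
      rw [map_mul, map_mul]
      exact (Subgroup.mem_centralizer_iff.1 hxc _ ((hmem₂ _).2 rfl)).symm
  · rintro _ ⟨m, rfl⟩
    rw [hmem₂]
    constructor
    · intro hm x hx
      obtain ⟨r, hr, rfl⟩ := hQ₂g ▸ hx
      rw [← map_inv, ← map_inv, ← map_mul, ← map_mul, ← map_mul, hZmem]
      obtain ⟨k, v, g⟩ := m
      obtain ⟨k', v', g'⟩ := r
      obtain rfl : g = 1 := hm
      obtain rfl : g' = 1 := hr
      exact ⟨by simp [M.mul_g, M.inv_g], core_nat_left k k' v v'⟩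
    · intro h
      have h' : ∀ v : Fin 2 → ZMod 3, (m * ⟨0, v, 1⟩ * m⁻¹ * (⟨0, v, 1⟩ : M)⁻¹).v = 0 := fun v => by
        have := h _ ((hmem₂ ⟨0, v, 1⟩).2 rfl)
        rw [← map_inv, ← map_inv, ← map_mul, ← map_mul, ← map_mul, hZmem] at this
        exact this.2
      exact core_nat_right m (h' _) (h' _)

/-- An orbit of four vectors without fusion to the inverse gives the simple group. -/
theorem psp_of_four (hn : ¬ ∃ g : G, g * T.a * g⁻¹ = T.a⁻¹) (h4 : T.wdata.orb.card = 4)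
    (hR : Cfsg.IsExtraspecial 3 (Cfsg.pCore 3 T.φ.range))
    (F : Type*) [Field F] [Fintype F] (hF : Fintype.card F = 3) : Nonempty (G ≃* Cfsg.PSp 2 F) := by
  haveI : Fact (Nat.Prime 3) := ⟨Nat.prime_three⟩
  obtain ⟨A, hA1, hA2⟩ := T.exists_amal hn h4 hR
  obtain ⟨Fr⟩ := exists_frame A
  obtain ⟨Mt⟩ := Fr.exists_model
  obtain ⟨M'⟩ := Cfsg.Agent.Lie.PSpFourThree.model_zz (F := F) hF
  refine Cfsg.Agent.Lie.PSpFourThree.nonempty_mulEquiv (fun K hK => ?_)
    (Cfsg.Agent.Lie.PSpFourThree.psp_index_ne_two hF) Mt M'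
  haveI hKn : K.Normal := Subgroup.normal_of_index_eq_two hK
  obtain ⟨hK1, -⟩ := Fr.le_of_index_two hK
  rw [hA1] at hK1
  obtain ⟨P, hP⟩ := T.exists_sylow
  have hPK : (P : Subgroup G) ≤ K := by
    rw [hP]
    intro s hs
    obtain ⟨m, hm, rfl⟩ := hs
    exact (Fr.le_of_index_two hK).2 (hA2.symm ▸ ⟨m, rfl⟩)
  have hfr := Sylow.normalizer_sup_eq_top' P hPK
  have htop : K = ⊤ := by
    rw [eq_top_iff, ← hfr]
    refine sup_le ?_ le_rfl
    show Subgroup.normalizer ((P : Subgroup G) : Set G) ≤ K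
    rw [hP]
    exact (T.normalizer_S_le).trans hK1
  rw [htop, Subgroup.index_top] at hK
  norm_num at hK

/-- The element is not fused to its inverse. -/
theorem part_one (hn : ¬ ∃ g : G, g * T.a * g⁻¹ = T.a⁻¹) (hR : Cfsg.IsExtraspecial 3 (Cfsg.pCore 3 T.φ.range))
    (F : Type*) [Field F] [Fintype F] (hF : Fintype.card F = 3) :
    (∃ N : Subgroup G, N.Normal ∧ N.index = 3) ∨ Nonempty (G ≃* Cfsg.PSp 2 F) := by
  haveI : Fact (Nat.Prime 3) := ⟨Nat.prime_three⟩
  rcases T.wdata.card_cases with ⟨-, h1 | h4⟩ | ⟨h, -⟩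
  · exact Or.inl (T.index_three hn h1)
  · exact Or.inr (T.psp_of_four hn h4 hR F hF)
  · exact absurd (T.neg_mem_orb_iff.1 h) hn

end Conf

end Cfsg.Agent.Lie.PSpFourThreeFull
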