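import Cfsg.Agent.Lib.Lie.PSpFourThreeFull.TwoInvol
import Cfsg.Agent.Lib.Lie.PSpFourThreeFull.PartOne
import Cfsg.Agent.Lib.Lead.PGV.TwoConf
import Cfsg.Agent.S0215

/-!
An orbit of two vectors: the central subgroup is normal.
-/

set_option autoImplicit false
set_option linter.unusedSectionVars false
set_option linter.style.haveILetI false

namespace Cfsg.Agent.Lie.PSpFourThreeFull

open Cfsg.Agent.Lie.PSpFourThreeAmalgam
open Cfsg.Agent.Small.ShapeThree (M)

namespace Conf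

variable {G : Type*} [Group G] [Finite G] {T : Conf G}

/-- The second core. -/
def InR (T : Conf G) (x : G) : Prop := ∃ k : ZMod 3, ∃ v : Fin 2 → ZMod 3, T.φ ⟨k, v, 1⟩ = x

theorem InR.cube {x : G} (hx : T.InR x) : x ^ 3 = 1 := by
  obtain ⟨k, v, rfl⟩ := hx
  rw [pow_succ, pow_two, ← map_mul, ← map_mul, core_cube, map_one]

theorem InR.comm_a {x : G} (hx : T.InR x) : x * T.a = T.a * x := by
  obtain ⟨k, v, rfl⟩ := hx
  exact T.cent_a.2 ⟨_, rfl⟩

theorem InR.mul {x y : G} (hx : T.InR x) (hy : T.InR y) : T.InR (x * y) := by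
  obtain ⟨k, v, rfl⟩ := hx
  obtain ⟨k', v', rfl⟩ := hy
  refine ⟨((⟨k, v, 1⟩ : M) * ⟨k', v', 1⟩).k, ((⟨k, v, 1⟩ : M) * ⟨k', v', 1⟩).v, ?_⟩
  rw [← map_mul]
  exact congrArg T.φ (M.ext rfl rfl (mul_one 1).symm)

theorem InR.inv {x : G} (hx : T.InR x) : T.InR x⁻¹ := by
  have h : x⁻¹ = x * x := inv_eq_of_mul_eq_one_right (by rw [← mul_assoc, ← pow_two, ← pow_succ, hx.cube])
  exact h ▸ hx.mul hx

theorem InR.swap {x y : G} (hx : T.InR x) (hy : T.InR y) : ∃ n : Fin 3, x * y = T.a ^ n.val * (y * x) := by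
  obtain ⟨k, v, rfl⟩ := hx
  obtain ⟨k', v', rfl⟩ := hy
  obtain ⟨n, hn⟩ := core_comm_central k k' v v'
  exact ⟨n, by rw [← map_mul, hn, map_mul, map_mul, map_pow]; rfl⟩

theorem InR.conj {x g : G} (hx : T.InR x) (hg : g * T.a = T.a * g) : T.InR (g * x * g⁻¹) := by
  obtain ⟨m, rfl⟩ := T.cent_a.1 hg
  obtain ⟨k, v, rfl⟩ := hx
  refine ⟨(m * ⟨k, v, 1⟩ * m⁻¹).k, (m * ⟨k, v, 1⟩ * m⁻¹).v, ?_⟩
  rw [← map_inv, ← map_mul, ← map_mul]
  exact congrArg T.φ (M.ext rfl rfl (by simp [M.mul_g, M.inv_g]))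

theorem inR_a (n : ℕ) : T.InR (T.a ^ n) :=
  ⟨n, 0, by rw [← M.c_pow_nat, map_pow]; rfl⟩

/-- The second core as a subgroup. -/
def coreSub (T : Conf G) : Subgroup G where
  carrier := {x | T.InR x}
  one_mem' := ⟨0, 0, map_one T.φ⟩
  mul_mem' := InR.mul
  inv_mem' := InR.inv

theorem card_coreSub_odd (T : Conf G) : Odd (Nat.card T.coreSub) := by
  haveI : Fact (Nat.Prime 3) := ⟨Nat.prime_three⟩
  have h : IsPGroup 3 T.coreSub := fun x => ⟨1, Subtype.ext (by
    rw [pow_one, SubgroupClass.coe_pow]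
    exact InR.cube x.2)⟩
  obtain ⟨n, hn⟩ := IsPGroup.iff_card.1 h
  rw [hn]
  exact Odd.pow (by decide)

/-- The core is preserved by the normaliser of the centre. -/
theorem InR.conj_norm {z g : G} (hz : T.InR z) (hg : g ∈ Subgroup.normalizer (Subgroup.zpowers T.a : Set G)) :
    T.InR (g * z * g⁻¹) := by
  have hgi : ∀ {g : G}, g ∈ Subgroup.normalizer (Subgroup.zpowers T.a : Set G) → ∀ {w : G},
      w * T.a = T.a * w → g * w * g⁻¹ * T.a = T.a * (g * w * g⁻¹) := by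
    intro g hg w hw
    have hgg := mem_Na.1 (Subgroup.inv_mem _ hg)
    rw [inv_inv] at hgg
    have hc : Commute w (g⁻¹ * T.a * g) := by
      rcases hgg with h | h <;> rw [h]
      exacts [hw, (show Commute w T.a from hw).inv_right]
    calc g * w * g⁻¹ * T.a = g * (w * (g⁻¹ * T.a * g)) * g⁻¹ := by group
      _ = _ := by rw [hc.eq]; group
  obtain ⟨⟨k, v, σ⟩, hm⟩ := T.cent_a.1 (hgi hg hz.comm_a)
  have hcube : ∀ {w : G}, T.InR w → ∀ {u : M}, T.φ u = g * w * g⁻¹ → u.g ^ 3 = 1 := by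
    intro w hw u hu
    have h1 : u ^ 3 = 1 := T.inj (by rw [map_pow, hu, conj_pow, hw.cube, mul_one, mul_inv_cancel, map_one])
    show gM u ^ 3 = 1
    rw [← map_pow, h1, map_one]
  have hσ : σ ^ 3 = 1 := by
    have h0 := hcube hz (u := ⟨k, v, σ⟩) hm
    exact h0
  by_cases h1 : σ = 1
  · subst h1
    exact ⟨k, v, hm⟩
  exfalso
  obtain ⟨τ, hτ⟩ := sl_no_normal_three σ hσ h1
  set c := T.φ ⟨0, 0, τ⟩
  have hc' : g⁻¹ * c * g⁻¹⁻¹ * T.a = T.a * (g⁻¹ * c * g⁻¹⁻¹) :=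
    hgi (Subgroup.inv_mem _ hg) (T.cent_a.2 ⟨_, rfl⟩)
  have h2 := hcube (hz.mul (hz.conj hc'))
    (u := (⟨k, v, σ⟩ : M) * ((⟨0, 0, τ⟩ : M) * ⟨k, v, σ⟩ * (⟨0, 0, τ⟩ : M)⁻¹)) (by
      rw [map_mul, map_mul, map_mul, map_inv, hm]
      simp only [c]
      group)
  rw [M.mul_g, M.mul_g, M.mul_g, M.inv_g] at h2
  exact hτ h2

variable (h2 : T.Two)
include h2

/-- The elements used: two involutions inverting the centre and their fixed elements. -/
theorem Two.exists_pair : ∃ r₀ y₀ : G, r₀ * r₀ = 1 ∧ r₀ * T.φ tm = T.φ tm * r₀ ∧ T.Acts r₀ (fun v => -v) ∧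
    T.InR y₀ ∧ y₀ ≠ 1 ∧ r₀ * y₀ = y₀ * r₀ ∧ T.φ tm * y₀ * T.φ tm = y₀⁻¹ ∧
    (∀ x : G, T.InR x → r₀ * x = x * r₀ → x = 1 ∨ x = y₀ ∨ x = y₀⁻¹) ∧
    (∀ x : G, T.InR x → r₀ * T.φ tm * x = x * (r₀ * T.φ tm) →
      x = 1 ∨ x = T.q (1, 2, 0) ∨ x = (T.q (1, 2, 0))⁻¹) ∧
    ∀ m : M, T.φ m * T.q (1, 2, 0) = T.q (1, 2, 0) * T.φ m → T.φ m * y₀ = y₀ * T.φ m → m.g = 1 ∧ m.v = 0 := by
  have ht : (T.φ tm) * (T.φ tm) = 1 := T.tm_invol
  have hti : (T.φ tm)⁻¹ = (T.φ tm) := inv_eq_of_mul_eq_one_right ht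
  obtain ⟨r, hr, hrt⟩ : ∃ r : G, T.Acts r (fun v => -v) ∧ r * (T.φ tm) = (T.φ tm) * r := by
    obtain ⟨n₀, hn₀⟩ := Two.neg_elt h2
    have e1 : T.Acts n₀⁻¹ fun v => -v := fun u => by
      have := hn₀ (-u)
      simp only [neg_neg] at this
      rw [← this]
      group
    obtain ⟨w, hw⟩ : ∃ w, T.q w = n₀⁻¹ * (T.φ tm) * n₀ * (T.φ tm) := by
      refine T.mem_J.1 (T.mem_J_of_acts fun v => ?_)
      rw [Acts.mul T (Acts.mul T (Acts.mul T e1 T.tm_acts) hn₀) T.tm_acts v]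
      exact congrArg T.q (two_v3_3 v)
    have h1 : (T.φ tm) * n₀ * (T.φ tm) = n₀ * T.q w := by rw [hw]; group
    have hq : ∀ z, (T.φ tm) * T.q z * (T.φ tm) = T.q (mT z) := fun z => by
      have := T.tm_acts z
      rwa [hti] at this
    have hbr : ∀ x y : G, (T.φ tm) * (x * y) * (T.φ tm) = ((T.φ tm) * x * (T.φ tm)) * ((T.φ tm) * y * (T.φ tm)) := fun x y => by
      calc (T.φ tm) * (x * y) * (T.φ tm) = (T.φ tm) * x * 1 * y * (T.φ tm) := by group
        _ = _ := by rw [← ht]; group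
    have h4 : n₀ = n₀ * T.q (w + mT w) := by
      calc n₀ = ((T.φ tm) * (T.φ tm)) * n₀ * ((T.φ tm) * (T.φ tm)) := by rw [ht]; group
        _ = (T.φ tm) * ((T.φ tm) * n₀ * (T.φ tm)) * (T.φ tm) := by group
        _ = _ := by rw [h1, hbr, h1, hq, T.q_add]; group
    have hwt : mT w = -w := eq_neg_of_add_eq_zero_right (T.q_eq_one.1 (left_eq_mul.1 h4))
    refine ⟨n₀ * T.q (-w), fun v => (Acts.mul T hn₀ (T.acts_of_mem (T.q_mem (-w))) v).trans rfl, ?_⟩
    have h6 : (T.φ tm) * (n₀ * T.q (-w)) * (T.φ tm) = n₀ * T.q (-w) := by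
      rw [hbr, h1, hq, mul_assoc, ← T.q_add, two_v3_8 w hwt]
    calc n₀ * T.q (-w) * (T.φ tm) = ((T.φ tm) * (T.φ tm)) * (n₀ * T.q (-w)) * (T.φ tm) := by rw [ht, one_mul]
      _ = (T.φ tm) * ((T.φ tm) * (n₀ * T.q (-w)) * (T.φ tm)) := by group
      _ = _ := by rw [h6]
  -- make it an involution
  have hrr : T.Acts (r * r) id := fun u => (Acts.mul T hr hr u).trans (congrArg T.q (neg_neg u))
  obtain ⟨u, hu⟩ := T.mem_J.1 (T.mem_J_of_acts hrr)
  have hu0 : u = 0 := by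
    have h1 := hr u
    rw [hu] at h1
    rw [show r * (r * r) * r⁻¹ = r * r by group, ← hu] at h1
    exact neg_self_V3 u (T.q_inj h1).symm
  rw [hu0, T.q_zero] at hu
  have hr2 : r * r = 1 := hu.symm
  have hri : r⁻¹ = r := inv_eq_of_mul_eq_one_right hr2
  have hbr : ∀ x y : G, r * (x * y) * r = (r * x * r) * (r * y * r) := fun x y => by
    calc r * (x * y) * r = r * x * 1 * y * r := by group
      _ = _ := by rw [← hr2]; group
  have hrq : ∀ z, r * T.q z * r = T.q (-z) := fun z => by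
    have := hr z
    rwa [hri] at this
  -- the fixed element above the cyclic shift
  have hsm : T.Acts (T.φ sm)⁻¹ fun v => mU (mU v) := fun v => by
    have := T.sm_acts (mU (mU v))
    rw [mU_three] at this
    rw [← this]
    group
  obtain ⟨j, hj⟩ : ∃ j, T.q j = (T.φ sm)⁻¹ * (r * T.φ sm * r) := by
    refine T.mem_J.1 (T.mem_J_of_acts fun v => ?_)
    rw [Acts.mul T hsm (Acts.mul T (Acts.mul T hr T.sm_acts) hr) v]
    exact congrArg T.q (two_v3_9 v)
  set y₀ := T.φ sm * T.q (-j) with hy₀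
  have hy0f : r * y₀ * r = y₀ := by
    rw [hy₀, hbr, hrq, neg_neg, show r * T.φ sm * r = T.φ sm * T.q j by rw [hj]; group, mul_assoc, ← T.q_add,
      two_v3_5 j]
  have hy0a : T.Acts y₀ mU := fun v => (Acts.mul T T.sm_acts (T.acts_of_mem (T.q_mem (-j))) v).trans rfl
  obtain ⟨c, hc⟩ := T.mem_J.1 (T.mem_J_of_acts (show T.Acts (y₀ * y₀ * y₀) id from fun v =>
    (Acts.mul T (Acts.mul T hy0a hy0a) hy0a v).trans (congrArg T.q (mU_three v))))
  have hc0 : c = 0 := by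
    have h1 := hrq c
    rw [hc, hbr, hbr, hy0f, ← hc] at h1
    exact neg_self_V3 c (T.q_inj h1).symm
  rw [hc0, T.q_zero] at hc
  have hcube : sm * jc (-j) * (sm * jc (-j)) * (sm * jc (-j)) = 1 := T.inj (by
    rw [map_mul, map_mul, map_mul, map_one]
    exact hc.symm)
  have hy0R : T.InR y₀ := by
    refine ⟨(sm * jc (-j)).k, (sm * jc (-j)).v, ?_⟩
    rw [hy₀, q, ← map_mul]
    exact congrArg T.φ (M.ext rfl rfl (sm_jc_g _ hcube).symm)
  have hy01 : y₀ ≠ 1 := fun h => by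
    have h1 := hy0a (1, 2, 0)
    rw [h, one_mul, inv_one, mul_one] at h1
    exact mT_facts.2.2.2.2.2 (T.q_inj h1).symm
  -- elements of the core over powers of the shift
  have hform : ∀ x : G, T.InR x → ∃ i : Fin 3, ∃ w, x = y₀ ^ i.val * T.q w ∧ flat w := by
    rintro x ⟨k, v, rfl⟩
    obtain ⟨i, w, hw, he⟩ := core_form k v
    have hxi : (y₀ ^ i.val)⁻¹ * T.φ ⟨k, v, 1⟩ ∈ T.J := by
      refine T.mem_J_of_acts fun z => ?_
      rw [he, map_mul, map_pow, show T.φ (jc w) = T.q w from rfl]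
      have e : ∀ n : ℕ, T.Acts (y₀ ^ n) mU^[n] ∧ T.Acts (T.φ sm ^ n) mU^[n] := fun n => by
        induction n with
        | zero => exact ⟨fun u => by simp, fun u => by simp⟩
        | succ n ih =>
          refine ⟨fun u => ?_, fun u => ?_⟩
          · rw [pow_succ', Acts.mul T hy0a ih.1 u, Function.iterate_succ_apply']
          · rw [pow_succ', Acts.mul T T.sm_acts ih.2 u, Function.iterate_succ_apply']
      have h1 := (e i.val).1 z
      have h2 : T.φ sm ^ i.val * T.q w * T.q z * (T.φ sm ^ i.val * T.q w)⁻¹ = T.q (mU^[i.val] z) := by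
        rw [Acts.mul T (e i.val).2 (T.acts_of_mem (T.q_mem w)) z]
        rfl
      calc (y₀ ^ i.val)⁻¹ * (T.φ sm ^ i.val * T.q w) * T.q z * ((y₀ ^ i.val)⁻¹ * (T.φ sm ^ i.val * T.q w))⁻¹
          = (y₀ ^ i.val)⁻¹ * (T.φ sm ^ i.val * T.q w * T.q z * (T.φ sm ^ i.val * T.q w)⁻¹) * y₀ ^ i.val := by group
        _ = T.q z := by rw [h2, ← h1]; group
    obtain ⟨w', hw'⟩ := T.mem_J.1 hxi
    refine ⟨i, w', by rw [hw']; group, core_jc w' ?_⟩
    have hin : T.InR ((y₀ ^ i.val)⁻¹ * T.φ ⟨k, v, 1⟩) := by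
      refine InR.mul (InR.inv ?_) ⟨k, v, rfl⟩
      induction i.val with
      | zero => simpa using inR_a (T := T) 0
      | succ n ih => rw [pow_succ]; exact ih.mul hy0R
    obtain ⟨k', v', h'⟩ := hin
    rw [← hw'] at h'
    rw [← T.inj h']
  have hpow : ∀ i : Fin 3, ∀ w, flat w → r * (y₀ ^ i.val * T.q w) * r = y₀ ^ i.val * T.q w → w = 0 := by
    intro i w _ h
    rw [hbr, hrq] at h
    have hp : r * y₀ ^ i.val * r = y₀ ^ i.val := by
      induction i.val with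
      | zero => simp [hr2]
      | succ n ih => rw [pow_succ, hbr, ih, hy0f]
    rw [hp, mul_right_inj] at h
    exact neg_self_V3 w (T.q_inj h)
  have hrcomm : ∀ x : G, r * x = x * r → r * x * r = x := fun x h => by rw [h, mul_assoc, hr2, mul_one]
  have hty : (T.φ tm) * y₀ * (T.φ tm) = y₀⁻¹ := by
    have hta : (T.φ tm) * T.a = T.a * (T.φ tm) := T.cent_a.2 ⟨tm, rfl⟩
    have hin := hy0R.conj hta
    rw [hti] at hin
    obtain ⟨i, w, hx, hw⟩ := hform _ hin
    have hfix : r * ((T.φ tm) * y₀ * (T.φ tm)) * r = (T.φ tm) * y₀ * (T.φ tm) := by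
      calc r * ((T.φ tm) * y₀ * (T.φ tm)) * r = r * (T.φ tm) * y₀ * (T.φ tm) * r := by group
        _ = (T.φ tm) * (r * y₀ * r) * (T.φ tm) := by
            calc r * (T.φ tm) * y₀ * (T.φ tm) * r = (r * (T.φ tm)) * y₀ * ((T.φ tm) * r) := by group
              _ = ((T.φ tm) * r) * y₀ * (r * (T.φ tm)) := by rw [hrt]
              _ = _ := by group
        _ = _ := by rw [hy0f]
    rw [hx] at hfix
    rw [hpow i w hw hfix, T.q_zero, mul_one] at hx
    have hact : ∀ z : V3, mT (mU (mT z)) = mU^[i.val] z := fun z => T.q_inj (by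
      have h1 := Acts.mul T (Acts.mul T T.tm_acts hy0a) T.tm_acts z
      rw [← h1, hx]
      have : T.Acts (y₀ ^ i.val) mU^[i.val] := by
        induction i.val with
        | zero => exact fun u => by simp
        | succ n ih => exact fun u => by rw [pow_succ', Acts.mul T hy0a ih u, Function.iterate_succ_apply']
      exact this z)
    have hi : i = 2 := mU_iterate i 2 fun z => by
      rw [← hact z, mT_mU_back]
      rfl
    rw [hx, hi]
    exact eq_inv_of_mul_eq_one_left (by rw [show ((2 : Fin 3) : ℕ) = 2 from rfl, ← pow_succ, hy0R.cube])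
  refine ⟨r, y₀, hr2, hrt, hr, hy0R, hy01, ?_, hty, fun x hx hxr => ?_, fun x hx hxr => ?_, fun m h1 h2' => ?_⟩
  · calc r * y₀ = r * y₀ * (r * r) := by rw [hr2, mul_one]
      _ = (r * y₀ * r) * r := by group
      _ = y₀ * r := by rw [hy0f]
  · obtain ⟨i, w, rfl, hw⟩ := hform x hx
    rw [hpow i w hw (hrcomm _ hxr), T.q_zero, mul_one]
    fin_cases i
    · exact Or.inl (pow_zero _)
    · exact Or.inr (Or.inl (pow_one _))
    · exact Or.inr (Or.inr (eq_inv_of_mul_eq_one_left (by rw [← pow_succ, hy0R.cube])))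
  · obtain ⟨i, w, rfl, hw⟩ := hform x hx
    set x := y₀ ^ i.val * T.q w
    have hrta : T.Acts (r * (T.φ tm)) fun u => -(mT u) := Acts.mul T hr T.tm_acts
    have e : ∀ n : ℕ, T.Acts (y₀ ^ n) mU^[n] := fun n => by
      induction n with
      | zero => exact fun u => by simp
      | succ n ih => exact fun u => by rw [pow_succ', Acts.mul T hy0a ih u, Function.iterate_succ_apply']
    have hxa : T.Acts x mU^[i.val] := fun u => (Acts.mul T (e i.val) (T.acts_of_mem (T.q_mem w)) u).trans rfl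
    have hi : i = 0 := by
      have h3 : ∀ z, -(mT (mU^[i.val] z)) = mU^[i.val] (-(mT z)) := fun z => T.q_inj (by
        rw [← Acts.mul T hrta hxa z, ← Acts.mul T hxa hrta z, hxr])
      exact two_shift i h3
    subst hi
    simp only [x, Fin.val_zero, pow_zero, one_mul] at hxr ⊢
    have h3 : -(mT w) = w := T.q_inj (by
      rw [← hrta w, hxr, mul_inv_cancel_right])
    rcases flat_swap w hw h3 with rfl | rfl | rfl
    · exact Or.inl T.q_zero
    · exact Or.inr (Or.inl rfl)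
    · exact Or.inr (Or.inr (T.q_neg _))
  · refine core_cent (-j) hcube m (T.inj ?_) (T.inj ?_)
    · rw [map_mul, map_mul]; exact h1
    · simp only [map_mul]
      rw [show T.φ sm * T.φ (jc (-j)) = y₀ by rw [hy₀, q]]; exact h2'

theorem Two.core_noncomm : ∀ y₀ : G, (∀ m : M, T.φ m * T.q (1, 2, 0) = T.q (1, 2, 0) * T.φ m →
    T.φ m * y₀ = y₀ * T.φ m → m.g = 1 ∧ m.v = 0) → T.q (1, 2, 0) * y₀ ≠ y₀ * T.q (1, 2, 0) := fun y₀ hgen e => by
  have h1 := (hgen (jc (1, 2, 0)) rfl e).2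
  exact absurd h1 (by decide +kernel)

/-- The central involution is isolated. -/
theorem Two.isolated {g : G} (hx : g * T.φ tm * g⁻¹ * T.φ tm = T.φ tm * (g * T.φ tm * g⁻¹)) :
    g * T.φ tm * g⁻¹ = T.φ tm := by
  have ht : (T.φ tm) * (T.φ tm) = 1 := T.tm_invol
  set x := g * (T.φ tm) * g⁻¹ with hxd
  have hxx : x * x = 1 := by
    calc x * x = g * ((T.φ tm) * (T.φ tm)) * g⁻¹ := by rw [hxd]; group
      _ = 1 := by rw [ht]; group
  have hxi : x⁻¹ = x := inv_eq_of_mul_eq_one_right hxx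
  have hx1 : x ≠ 1 := fun h => by
    have h1 : tm = 1 := T.inj ((conj_eq_one_iff.1 (hxd ▸ h)).trans T.φ.map_one.symm)
    exact absurd h1 (by decide +kernel)
  obtain ⟨hxN, -⟩ := Two.cent_tm h2 hx
  -- in the centraliser of the centre there is one involution commuting with it
  have hcase : x * T.a = T.a * x → x = (T.φ tm) := fun h => by
    obtain ⟨m, hm⟩ := T.cent_a.1 h
    rcases tm_unique m (T.inj (by rw [map_mul, map_one, hm, hxx])) (T.inj (by rw [map_mul, map_mul, hm]; exact hx))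
      with rfl | rfl
    · exact absurd (by rw [← hm, map_one]) hx1
    · exact hm.symm
  rcases mem_Na.1 hxN with h | h
  · exact hcase (mul_inv_eq_iff_eq_mul.1 h)
  exfalso
  -- a fixed element of the core
  obtain ⟨y, hyR, hy1, hyx⟩ : ∃ y, T.InR y ∧ y ≠ 1 ∧ x * y * x = y := by
    by_contra hno
    push Not at hno
    have hinv : ∀ {y : G}, T.InR y → x * y * x = y⁻¹ := fun {y} hy =>
      inverted_of_fpf hxx T.coreSub T.card_coreSub_odd (fun z hz => by
        have := InR.conj_norm (show T.InR z from hz) hxN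
        rwa [hxi] at this) (fun z hz e => by
        by_contra h0
        exact hno z hz h0 e) (show y ∈ T.coreSub from hy)
    obtain ⟨r₀, y₀, -, -, -, hy0R, -, -, -, -, -, hgen⟩ := Two.exists_pair h2
    have hyR : T.InR (T.q (1, 2, 0)) :=
      ⟨(jc (1, 2, 0)).k, (jc (1, 2, 0)).v, congrArg T.φ (M.ext rfl rfl (by decide +kernel))⟩
    refine Two.core_noncomm h2 y₀ hgen ?_
    have h1 := hinv (hyR.mul hy0R)
    rw [show x * (T.q (1, 2, 0) * y₀) * x = (x * T.q (1, 2, 0) * x) * (x * y₀ * x) by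
      calc x * (T.q (1, 2, 0) * y₀) * x = x * T.q (1, 2, 0) * 1 * y₀ * x := by group
        _ = _ := by rw [← hxx]; group, hinv hyR, hinv hy0R, ← mul_inv_rev, inv_inj] at h1
    exact h1.symm
  have hyx' : y * x = x * y := by
    calc y * x = x * y * x * x := by rw [hyx]
      _ = x * y * (x * x) := by group
      _ = _ := by rw [hxx, mul_one]
  -- move it into the centraliser of the central involution
  have hy3 := hyR.cube
  have hgy : g⁻¹ * y * g * (T.φ tm) = (T.φ tm) * (g⁻¹ * y * g) := by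
    calc g⁻¹ * y * g * (T.φ tm) = g⁻¹ * (y * x) * g := by rw [hxd]; group
      _ = g⁻¹ * (x * y) * g := by rw [hyx']
      _ = _ := by rw [hxd]; group
  obtain ⟨h', hh't, v, hv, hvy⟩ := (Two.cent_tm h2 hx).2 _ hgy (by
    rw [show g⁻¹ * y * g = g⁻¹ * y * g⁻¹⁻¹ by group, conj_pow, hy3]; group)
  set g' := g * h'⁻¹ with hg'
  have hxg : g' * (T.φ tm) * g'⁻¹ = x := by
    calc g' * (T.φ tm) * g'⁻¹ = g * (h'⁻¹ * ((T.φ tm) * h')) * g⁻¹ := by rw [hg']; group
      _ = _ := by rw [← hh't, hxd]; group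
  set a' := g' * T.a * g'⁻¹ with ha'
  have hya : a' * y = y * a' := by
    have h1 : g'⁻¹ * y * g' = T.q v := by rw [← hvy, hg']; group
    have h3 : T.a * T.q v = T.q v * T.a := T.J_comm T.a_mem (T.q_mem v)
    calc a' * y = g' * (T.a * (g'⁻¹ * y * g')) * g'⁻¹ := by rw [ha']; group
      _ = g' * ((g'⁻¹ * y * g') * T.a) * g'⁻¹ := by rw [h1, h3]
      _ = _ := by rw [ha']; group
  have ha'3 : a' ^ 3 = 1 := by rw [ha', conj_pow, T.a_cube]; group
  have ha'1 : a' ≠ 1 := fun e => T.a_ne (conj_eq_one_iff.1 (ha' ▸ e))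
  have hodd : ∀ z : G, z ^ 3 = 1 → Odd (orderOf z) := fun z hz =>
    (show Odd 3 by decide).of_dvd_nat (orderOf_dvd_of_pow_eq_one hz)
  have ha'a : a' * T.a = T.a * a' := Na_odd (Two.cent_three h2 hyR.comm_a hy3 hy1 hya) (hodd _ ha'3)
  have hgen : ∀ m : M, m * m * m = 1 → g' * T.φ m * g'⁻¹ * T.a = T.a * (g' * T.φ m * g'⁻¹) := by
    intro m hm
    have h3 : (g' * T.φ m * g'⁻¹) ^ 3 = 1 := by
      rw [conj_pow, pow_succ, pow_two, ← map_mul, ← map_mul, hm, map_one]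
      group
    refine Na_odd (Two.cent_three h2 ha'a ha'3 ha'1 ?_) (hodd _ h3)
    have h4 : T.φ m * T.a = T.a * T.φ m := T.cent_a.2 ⟨m, rfl⟩
    calc g' * T.φ m * g'⁻¹ * a' = g' * (T.φ m * T.a) * g'⁻¹ := by rw [ha']; group
      _ = _ := by rw [h4, ha']; group
  obtain ⟨m1, m2, m3, m4, e1, e2, e3, e4, he⟩ := model_three_gen tm
  have hall : Commute (g' * T.φ tm * g'⁻¹) T.a := by
    rw [← he, map_mul, map_mul, map_mul, ← conj_mul, ← conj_mul, ← conj_mul]
    exact (((show Commute _ T.a from hgen m1 e1).mul_left (show Commute _ T.a from hgen m2 e2)).mul_left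
      (show Commute _ T.a from hgen m3 e3)).mul_left (show Commute _ T.a from hgen m4 e4)
  rw [show g' * T.φ tm * g'⁻¹ = x from hxg] at hall
  rw [hall.eq, mul_inv_cancel_right] at h
  refine T.a_ne ?_
  calc T.a = T.a ^ 3 * (T.a * T.a)⁻¹ := by group
    _ = 1 := by rw [T.a_cube]; nth_rewrite 2 [h]; simp

/-- An orbit of two vectors makes the central subgroup normal. -/
theorem Two.normalizer_top : Subgroup.normalizer (Subgroup.zpowers T.a : Set G) = ⊤ := by
  classical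
  haveI : Fact (Nat.Prime 2) := ⟨Nat.prime_two⟩
  set N := Subgroup.normalizer (Subgroup.zpowers T.a : Set G) with hNdef
  have ht : (T.φ tm) * (T.φ tm) = 1 := T.tm_invol
  have hti : (T.φ tm)⁻¹ = (T.φ tm) := inv_eq_of_mul_eq_one_right ht
  have htm1 : (T.φ tm) ≠ 1 := fun h => absurd (T.inj (h.trans T.φ.map_one.symm)) (by decide +kernel)
  set X := Subgroup.centralizer ({(T.φ tm)} : Set G)
  have hmX : ∀ x, x ∈ X ↔ x * (T.φ tm) = (T.φ tm) * x := fun x => Subgroup.mem_centralizer_singleton_iff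
  -- a Sylow subgroup centralising the involution
  obtain ⟨P, hP⟩ : ∃ P : Sylow 2 G, (T.φ tm) ∈ (P : Subgroup G) ∧ (P : Subgroup G) ≤ X := by
    have hZ : IsPGroup 2 (Subgroup.zpowers (⟨(T.φ tm), (hmX (T.φ tm)).2 rfl⟩ : X)) := by
      refine IsPGroup.of_card (n := 1) ?_
      rw [Nat.card_zpowers, orderOf_eq_prime (p := 2) (Subtype.ext (by simp [pow_two, ht]))
        (fun h => htm1 (congrArg Subtype.val h)), pow_one]
    obtain ⟨P₀, hP₀⟩ := hZ.exists_le_sylow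
    obtain ⟨Q, hQ⟩ := (P₀.2.map X.subtype).exists_le_sylow
    refine ⟨Q, hQ ⟨_, hP₀ (Subgroup.mem_zpowers _), rfl⟩, ?_⟩
    set R := (P₀ : Subgroup X).map X.subtype
    suffices hRQ : R = (Q : Subgroup G) by
      rw [← hRQ]
      exact Subgroup.map_subtype_le _
    by_contra hne
    haveI : Group.IsNilpotent (Q : Subgroup G) := Q.2.isNilpotent
    have hlt : R.subgroupOf Q < ⊤ := lt_top_iff_ne_top.2 fun e => hne (le_antisymm hQ (Subgroup.subgroupOf_eq_top.1 e))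
    obtain ⟨u, huN, huR⟩ := SetLike.exists_of_lt (Group.normalizerCondition_of_isNilpotent _ hlt)
    have htR : (T.φ tm) ∈ R := ⟨_, hP₀ (Subgroup.mem_zpowers _), rfl⟩
    have hu : (u : G) * (T.φ tm) * (u : G)⁻¹ ∈ R := Subgroup.mem_subgroupOf.1
      ((Subgroup.mem_normalizer_iff.1 huN ⟨(T.φ tm), hQ htR⟩).1 (Subgroup.mem_subgroupOf.2 htR))
    have huX : (u : G) ∈ X := (hmX _).2 (mul_inv_eq_iff_eq_mul.1
      (Two.isolated h2 ((hmX _).1 (Subgroup.map_subtype_le _ hu))))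
    have hRQ' : R ≤ (Q : Subgroup G) := hQ
    -- a larger two-group inside the centraliser
    have hP₂ : IsPGroup 2 (((Q : Subgroup G).comap X.subtype)) := Q.2.comap_of_injective _ X.subtype_injective
    have heq : (Q : Subgroup G).comap X.subtype = P₀ := (P₀.3 hP₂ fun z hz => hQ ⟨z, hz, rfl⟩)
    exact huR (Subgroup.mem_subgroupOf.2 ⟨⟨u, huX⟩, heq ▸ u.2, rfl⟩)
  obtain ⟨N₀, hN₀, hodd, hcomm⟩ := Cfsg.Agent.S0215.result P (T.φ tm)
    (orderOf_eq_prime (by rw [pow_two, ht]) htm1) hP.1 fun g hg => Two.isolated h2 ((hmX _).1 (hP.2 hg))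
  haveI := hN₀
  have hNX : ∀ g : G, g * (T.φ tm) = (T.φ tm) * g → g ∈ N := fun g hg => (Two.cent_tm h2 hg).1
  -- the core of odd order lies in the normaliser
  obtain ⟨r₀, y₀, hr2, hrt, hr, hy0R, hy01, hry, hty, huniq, huniq', hgen⟩ := Two.exists_pair h2
  obtain ⟨r, hrd⟩ : ∃ r, r = r₀ * (T.φ tm) := ⟨_, rfl⟩
  have hrr : r * r = 1 := by
    calc r * r = r₀ * ((T.φ tm) * r₀) * (T.φ tm) := by rw [hrd]; group
      _ = r₀ * (r₀ * (T.φ tm)) * (T.φ tm) := by rw [hrt]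
      _ = (r₀ * r₀) * ((T.φ tm) * (T.φ tm)) := by group
      _ = 1 := by rw [hr2, ht, one_mul]
  set y₁ := T.q (1, 2, 0)
  have hy1t : (T.φ tm) * y₁ * (T.φ tm) = y₁⁻¹ := by
    have h1 := T.tm_acts (1, 2, 0)
    rw [hti] at h1
    rw [h1, mT_facts.1, T.q_neg]
  have hy1r : r * y₁ = y₁ * r := by
    refine (Acts.comm_iff T (show T.Acts r fun u => -(mT u) from hrd ▸ Acts.mul T hr T.tm_acts)).2 ?_
    show -(mT (1, 2, 0)) = _
    rw [mT_facts.1, neg_neg]
  have hmemN₀ : ∀ y : G, T.InR y → (T.φ tm) * y * (T.φ tm) = y⁻¹ → y ∈ N₀ := fun y hy hyt => by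
    have h1 := hcomm y
    rw [hti, hyt] at h1
    rwa [show y⁻¹ * y⁻¹ = y by
      rw [← mul_inv_rev]; exact inv_eq_of_mul_eq_one_right (by rw [← pow_two, ← pow_succ, hy.cube])] at h1
  have hy1R : T.InR y₁ :=
    ⟨(jc (1, 2, 0)).k, (jc (1, 2, 0)).v, congrArg T.φ (M.ext rfl rfl (by decide +kernel))⟩
  have hy11 : y₁ ≠ 1 := fun e => absurd (T.q_eq_one.1 e) (by decide)
  have hrt' : r * (T.φ tm) = (T.φ tm) * r := by rw [hrd, mul_assoc, ← mul_assoc (T.φ tm) r₀, ← hrt, mul_assoc]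
  -- fixed points of the four-group
  have hfour : ∀ c ∈ N₀, c * r₀ = r₀ * c → c * (T.φ tm) = (T.φ tm) * c → c = 1 := by
    intro c hc hcr hct
    have hcN := hNX c hct
    have hoc : Odd (orderOf c) := hodd.of_dvd_nat (Subgroup.orderOf_dvd_natCard N₀ hc)
    obtain ⟨m, hm⟩ := T.cent_a.1 (Na_odd hcN hoc)
    have hcomm' : ∀ y : G, T.InR y → c * y * c⁻¹ = y ∨ c * y * c⁻¹ = y⁻¹ → c * y = y * c :=
      fun y hy h => comm_of_odd hoc hy.cube h
    have hne : ∀ y : G, y ≠ 1 → c * y * c⁻¹ ≠ 1 := fun y hy e => hy (conj_eq_one_iff.1 e)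
    have hcy0 : c * y₀ = y₀ * c := hcomm' y₀ hy0R ((huniq _ (hy0R.conj (T.cent_a.2 ⟨m, hm⟩)) (by
      calc r₀ * (c * y₀ * c⁻¹) = (r₀ * c) * y₀ * c⁻¹ := by group
        _ = c * (r₀ * y₀) * c⁻¹ := by rw [← hcr]; group
        _ = c * y₀ * (r₀ * c⁻¹) := by rw [hry]; group
        _ = _ := by rw [(show Commute r₀ c from hcr.symm).inv_right.eq]; group)).resolve_left (hne _ hy01))
    have hcr' : r * c = c * r := by
      rw [hrd, mul_assoc, ← hct, ← mul_assoc, ← hcr, mul_assoc]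
    have hcy1 : c * y₁ = y₁ * c := hcomm' y₁ hy1R ((huniq' _ (hy1R.conj (T.cent_a.2 ⟨m, hm⟩)) (by
      rw [← hrd]
      calc r * (c * y₁ * c⁻¹) = (r * c) * y₁ * c⁻¹ := by group
        _ = c * (r * y₁) * c⁻¹ := by rw [hcr']; group
        _ = c * y₁ * (r * c⁻¹) := by rw [hy1r]; group
        _ = _ := by rw [(show Commute r c from hcr').inv_right.eq]; group)).resolve_left (hne _ hy11))
    rw [← hm] at hcy0 hcy1
    obtain ⟨hg1, hv1⟩ := hgen m hcy1 hcy0
    have hca : c = T.a ^ m.k.val := by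
      rw [← hm, show T.a = T.φ M.c from rfl, ← map_pow, ← M.c_pow]
      exact congrArg T.φ (M.ext rfl hv1 hg1)
    have hra : r₀ * T.a * r₀⁻¹ = T.a⁻¹ := by rw [← T.q_dia, hr, T.q_neg]
    have h1 : c⁻¹ = c := by
      rw [hca, ← inv_pow, ← hra, conj_pow, ← hca, ← hcr, mul_inv_cancel_right]
    have h2' : orderOf c ∣ 2 := orderOf_dvd_of_pow_eq_one (by
      rw [pow_two]; nth_rewrite 1 [← h1]; exact inv_mul_cancel c)
    obtain ⟨k, hk⟩ := hoc
    have := Nat.le_of_dvd (by norm_num) h2'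
    exact orderOf_eq_one_iff.1 (by omega)
  -- the centraliser of each involution in the core
  have hcase : ∀ s y : G, s * s = 1 → (∀ c ∈ N₀, c * s = s * c → c * (T.φ tm) = (T.φ tm) * c → c = 1) → T.InR y → y ≠ 1 →
      (T.φ tm) * y * (T.φ tm) = y⁻¹ → s * y = y * s → s * (T.φ tm) = (T.φ tm) * s → ∀ c ∈ N₀, s * c * s = c → c ∈ N := by
    intro s y hs hfix hy hy' hyt hsy hst c hc hcs
    set A := N₀ ⊓ Subgroup.centralizer ({s} : Set G)
    have hA : ∀ a ∈ A, (T.φ tm) * a * (T.φ tm) = a⁻¹ := fun a ha => inverted_of_fpf ht A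
      (hodd.of_dvd_nat (Subgroup.card_dvd_of_le inf_le_left))
      (fun b hb => ⟨by simpa [hti] using hN₀.conj_mem b hb.1 (T.φ tm), Subgroup.mem_centralizer_singleton_iff.2 (by
        have hbs : b * s = s * b := Subgroup.mem_centralizer_singleton_iff.1 hb.2
        calc (T.φ tm) * b * (T.φ tm) * s = (T.φ tm) * (b * s) * (T.φ tm) := by rw [mul_assoc _ (T.φ tm) s, ← hst]; group
          _ = ((T.φ tm) * s) * b * (T.φ tm) := by rw [hbs]; group
          _ = _ := by rw [← hst]; group)⟩)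
      (fun b hb e => hfix b hb.1 (Subgroup.mem_centralizer_singleton_iff.1 hb.2) (by
        calc b * (T.φ tm) = (T.φ tm) * b * (T.φ tm) * (T.φ tm) := by rw [e]
          _ = _ := by rw [mul_assoc, ht, mul_one])) ha
    have hcA : c ∈ A := ⟨hc, Subgroup.mem_centralizer_singleton_iff.2 (by
      calc c * s = s * c * s * s := by rw [hcs]
        _ = _ := by rw [mul_assoc, hs, mul_one])⟩
    have hyA : y ∈ A := ⟨hmemN₀ y hy hyt, Subgroup.mem_centralizer_singleton_iff.2 hsy.symm⟩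
    have h1 := hA _ (A.mul_mem hcA hyA)
    rw [show (T.φ tm) * (c * y) * (T.φ tm) = ((T.φ tm) * c * (T.φ tm)) * ((T.φ tm) * y * (T.φ tm)) by
      calc (T.φ tm) * (c * y) * (T.φ tm) = (T.φ tm) * c * 1 * y * (T.φ tm) := by group
        _ = _ := by rw [← ht]; group, hA c hcA, hA y hyA, ← mul_inv_rev, inv_inj] at h1
    exact Two.cent_three h2 hy.comm_a hy.cube hy' h1.symm
  have hN₀N : N₀ ≤ N := by
    intro x hx
    refine Cfsg.Agent.PGV.four_generation hodd (MulAut.conjNormal r₀) (MulAut.conjNormal (T.φ tm)) ?_ ?_ ?_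
      (N.subgroupOf N₀) ?_ ?_ ?_ ⟨x, hx⟩
    · rw [← map_mul, hr2, map_one]
    · rw [← map_mul, ht, map_one]
    · exact (show Commute r₀ (T.φ tm) from hrt).map _
    · intro c hc
      have h1 : r₀ * c * r₀⁻¹ = (c : G) := congrArg Subtype.val hc
      rw [inv_eq_of_mul_eq_one_right hr2] at h1
      exact hcase r₀ y₀ hr2 hfour hy0R hy01 hty hry hrt c c.2 h1
    · intro c hc
      exact hNX c (mul_inv_eq_iff_eq_mul.1 (congrArg Subtype.val hc : (T.φ tm) * c * (T.φ tm)⁻¹ = (c : G))).symm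
    · intro c hc
      have h1 : r₀ * ((T.φ tm) * c * (T.φ tm)⁻¹) * r₀⁻¹ = (c : G) := congrArg Subtype.val hc
      rw [inv_eq_of_mul_eq_one_right hr2, hti] at h1
      refine hcase r y₁ hrr (fun d hd hds hdt => hfour d hd ?_ hdt) hy1R hy11 hy1t hy1r hrt' c c.2 ?_
      · calc d * r₀ = d * r * (T.φ tm) := by rw [hrd, mul_assoc, mul_assoc, ht, mul_one]
          _ = r * d * (T.φ tm) := by rw [hds]
          _ = r * (T.φ tm) * d := by rw [mul_assoc, hdt, ← mul_assoc]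
          _ = _ := by rw [hrd, mul_assoc r₀, ht, mul_one]
      · calc r * c * r = r₀ * (T.φ tm) * c * (r₀ * (T.φ tm)) := by rw [hrd]
          _ = r₀ * (T.φ tm) * c * ((T.φ tm) * r₀) := by rw [hrt]
          _ = _ := by conv_rhs => rw [← h1]
                      group
  rw [eq_top_iff]
  intro g _
  -- the whole group is the product of the core and the centraliser
  have hn : (T.φ tm) * g * (T.φ tm) * g⁻¹ ∈ N₀ := by simpa [hti] using hcomm g
  set n := (T.φ tm) * g * (T.φ tm) * g⁻¹ with hndef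
  obtain ⟨m, hm, hmz⟩ := odd_root (hodd.of_dvd_nat (Subgroup.orderOf_dvd_natCard N₀ hn))
  have hmN : m ∈ N₀ := Subgroup.zpowers_le.2 hn hmz
  have hninv : (T.φ tm) * n * (T.φ tm)⁻¹ = n⁻¹ := by
    rw [hndef, hti]
    calc (T.φ tm) * ((T.φ tm) * g * (T.φ tm) * g⁻¹) * (T.φ tm) = ((T.φ tm) * (T.φ tm)) * g * (T.φ tm) * g⁻¹ * (T.φ tm) := by group
      _ = g * (T.φ tm) * g⁻¹ * (T.φ tm) := by rw [ht, one_mul]
      _ = _ := by rw [mul_inv_rev, mul_inv_rev, mul_inv_rev, inv_inv, hti]; group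
  have hmt : (T.φ tm) * m * (T.φ tm)⁻¹ = m⁻¹ := by
    obtain ⟨k, rfl⟩ := hmz
    rw [← conj_zpow, hninv, inv_zpow]
  have hgm : m * g * (T.φ tm) = (T.φ tm) * (m * g) := by
    have h1 : g * (T.φ tm) = (T.φ tm) * n * g := by
      rw [hndef]
      calc g * (T.φ tm) = ((T.φ tm) * (T.φ tm)) * g * (T.φ tm) := by rw [ht, one_mul]
        _ = _ := by group
    have h3 : m * (T.φ tm) = (T.φ tm) * m⁻¹ := by rw [← hmt, hti, ← mul_assoc, ← mul_assoc, ht, one_mul]
    calc m * g * (T.φ tm) = m * (g * (T.φ tm)) := mul_assoc _ _ _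
      _ = (m * (T.φ tm)) * n * g := by rw [h1]; group
      _ = _ := by rw [h3, ← hm]; group
  have hgm' := N.mul_mem (N.inv_mem (hN₀N hmN)) (hNX _ hgm)
  rwa [inv_mul_cancel_left] at hgm'

end Conf

end Cfsg.Agent.Lie.PSpFourThreeFull
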