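import Cfsg.Agent.Lib.Lie.PSpFourThreeFull.CaseA
import Cfsg.Agent.Lib.Lie.PSpFourThreeFull.ThreeCentB
import Cfsg.Agent.Lib.Lie.PSpFourThreeFull.TwoMain

/-!
The assembly of the recognition from a centraliser of an element of order three.
-/

set_option autoImplicit false
set_option linter.unusedSectionVars false
set_option linter.style.haveILetI false
set_option maxRecDepth 100000
set_option synthInstance.maxSize 4000
set_option synthInstance.maxHeartbeats 400000

namespace Cfsg.Agent.Lie.PSpFourThreeFull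

open Cfsg.Agent.Lie.PSpFourThreeAmalgam
open Cfsg.Agent.Small.ShapeThree (M)

/-- The transfer of the extraspecial property along equal subgroups. -/
theorem extraspecial_congr {G : Type*} [Group G] [Finite G] {A B : Subgroup G} (h : A = B)
    (hR : Cfsg.IsExtraspecial 3 (Cfsg.pCore 3 A)) : Cfsg.IsExtraspecial 3 (Cfsg.pCore 3 B) := by
  subst h
  exact hR

theorem inverse_cases {G : Type*} [Group G] {a b : G} (h : b = a ∨ b = a⁻¹) :
    Subgroup.centralizer ({b} : Set G) = Subgroup.centralizer ({a} : Set G) ∧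
    Subgroup.zpowers b = Subgroup.zpowers a ∧ ((∃ g : G, g * b * g⁻¹ = b⁻¹) ↔ ∃ g : G, g * a * g⁻¹ = a⁻¹) := by
  rcases h with rfl | rfl
  · exact ⟨rfl, rfl, Iff.rfl⟩
  refine ⟨?_, Subgroup.zpowers_inv, exists_congr fun g => ?_⟩
  · ext x
    rw [Subgroup.mem_centralizer_singleton_iff, Subgroup.mem_centralizer_singleton_iff]
    exact ⟨fun h => by simpa using (show Commute x a⁻¹ from h).inv_right.eq,
      fun h => (show Commute x a from h).inv_right.eq⟩
  · rw [← conj_inv, inv_inj]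

namespace Conf

variable {G : Type*} [Group G] [Finite G]

/-- The case of the symplectic group. -/
theorem Signed.case_B {T : Conf G} {hS : T.Signed} (hL : hS.Label)
    (htop : ∀ H : Subgroup G, (H ≃* Matrix.symplecticGroup (Fin 3) (ZMod 2)) →
      (∀ y ∈ H, orderOf y = 3 → Subgroup.centralizer ({y} : Set G) ≤ H) → H = ⊤)
    (F₂ : Type*) [Field F₂] [Fintype F₂] (hF₂ : Fintype.card F₂ = 2) :
    Nonempty (G ≃* Matrix.symplecticGroup (Fin 3) F₂) := by
  obtain ⟨e⟩ := hL.H_equiv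
  obtain ⟨e'⟩ := symplectic_field hF₂
  have h := htop hL.H e fun y hy ho => hL.three_cent hy ho
  exact ⟨(Subgroup.topEquiv.symm.trans (MulEquiv.subgroupCongr h.symm)).trans (e.trans e')⟩

/-- The inverted case. -/
theorem inverted_cases (T : Conf G) (hR : Cfsg.IsExtraspecial 3 (Cfsg.pCore 3 T.φ.range))
    (hi : ∃ g : G, g * T.a * g⁻¹ = T.a⁻¹)
    (htop : ∀ H : Subgroup G, (H ≃* Matrix.symplecticGroup (Fin 3) (ZMod 2)) →
      (∀ y ∈ H, orderOf y = 3 → Subgroup.centralizer ({y} : Set G) ≤ H) → H = ⊤)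
    (F : Type*) [Field F] [Fintype F] (hF : Fintype.card F = 3)
    (F₂ : Type*) [Field F₂] [Fintype F₂] (hF₂ : Fintype.card F₂ = 2) :
    Subgroup.normalizer (Subgroup.zpowers T.a : Set G) = ⊤ ∨ Nonempty (G ≃* MulAut (Cfsg.PSp 2 F)) ∨
      Nonempty (G ≃* Matrix.symplecticGroup (Fin 3) F₂) := by
  have hneg := T.neg_mem_orb_iff.2 hi
  rcases T.wdata.card_cases with ⟨h, -⟩ | ⟨-, h2 | h8⟩
  · exact absurd hneg h
  · exact Or.inl (Two.normalizer_top (T := T) ⟨hneg, h2⟩)
  obtain ⟨T', ha, hS⟩ := T.exists_signed hneg h8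
  have hrange : T.φ.range = T'.φ.range := by
    rw [T.range_eq, T'.range_eq]
    exact congrArg (fun x => Subgroup.centralizer ({x} : Set G)) ha.symm
  right
  rcases hS.axis_cent with hA | ⟨π, hs, hk⟩
  · exact Or.inl (hS.case_A hA (extraspecial_congr hrange hR) F hF)
  · obtain ⟨hL⟩ := hS.exists_label π hs hk
    exact Or.inr (Signed.case_B hL htop F₂ hF₂)

end Conf

/-- The recognition, given the identification of the symplectic group from its three-local data. -/
theorem recognition {G : Type*} [Group G] [Finite G]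
    (htop : ∀ H : Subgroup G, (H ≃* Matrix.symplecticGroup (Fin 3) (ZMod 2)) →
      (∀ y ∈ H, orderOf y = 3 → Subgroup.centralizer ({y} : Set G) ≤ H) → H = ⊤)
    (a : G) (ha : orderOf a = 3) (C : Subgroup G) (hC : C = Subgroup.centralizer ({a} : Set G))
    (hR : Cfsg.IsExtraspecial 3 (Cfsg.pCore 3 C)) (hRcard : Nat.card (Cfsg.pCore 3 C) = 27)
    (hRexp : ∀ r ∈ Cfsg.pCore 3 C, r ^ 3 = 1)
    (e : C ⧸ Cfsg.pCore 3 C ≃* Matrix.SpecialLinearGroup (Fin 2) (ZMod 3))
    (J : Subgroup G) (hJC : J ≤ C) (hJcomm : IsMulCommutative J) (hJexp : ∀ j ∈ J, j ^ 3 = 1) (hJcard : Nat.card J = 27)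
    (hJsig : ∀ K : Subgroup G, (Nat.card K).Coprime 3 → (∀ j ∈ J, K.map (MulAut.conj j).toMonoidHom = K) → K = ⊥)
    (F : Type*) [Field F] [Fintype F] (hF : Fintype.card F = 3)
    (F₂ : Type*) [Field F₂] [Fintype F₂] (hF₂ : Fintype.card F₂ = 2) :
    ((∀ g : G, g * a * g⁻¹ ≠ a⁻¹) →
      (∃ N : Subgroup G, N.Normal ∧ N.index = 3) ∨ Nonempty (G ≃* Cfsg.PSp 2 F)) ∧
    ((∃ g : G, g * a * g⁻¹ = a⁻¹) →
      Subgroup.normalizer (Subgroup.zpowers a : Set G) = ⊤ ∨ Nonempty (G ≃* MulAut (Cfsg.PSp 2 F)) ∨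
        Nonempty (G ≃* Matrix.symplecticGroup (Fin 3) F₂)) := by
  obtain ⟨T, hTa⟩ := exists_conf a ha C hC hR hRcard hRexp e J hJC hJcomm hJexp hJcard hJsig
  obtain ⟨hc, hz, hiff⟩ := inverse_cases hTa
  have hR' : Cfsg.IsExtraspecial 3 (Cfsg.pCore 3 T.φ.range) :=
    extraspecial_congr (by rw [hC, T.range_eq, ← hc]; rfl) hR
  refine ⟨fun hn => T.part_one (fun h => ?_) hR' F hF, fun hi => ?_⟩
  · obtain ⟨g, hg⟩ := hiff.1 h
    exact hn g hg
  · have h := T.inverted_cases hR' (hiff.2 hi) htop F hF F₂ hF₂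
    rwa [hz] at h

end Cfsg.Agent.Lie.PSpFourThreeFull
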