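import Mathlib.GroupTheory.Perm.Fin
import Mathlib.GroupTheory.Perm.Sign
import Mathlib.GroupTheory.OrderOfElement
import Mathlib.Tactic.DeriveFintype

/-!
Permutations of six points used in the centraliser of the third axis.
-/

set_option autoImplicit false
set_option maxRecDepth 100000
set_option synthInstance.maxSize 4000
set_option synthInstance.maxHeartbeats 400000
set_option Elab.async false

namespace Cfsg.Agent.Lie.PSpFourThreeFull.Axis

open Equiv

/-- The permutations of six points. -/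
abbrev P6 : Type := Perm (Fin 6)

/-- The image of the first axis. -/
def s1 : P6 := swap 0 1 * swap 1 2

/-- The image of the second axis. -/
def s2 : P6 := swap 3 4 * swap 4 5

/-- The image of the first reflection. -/
def w1 : P6 := swap 1 2

/-- The image of the second reflection. -/
def w2 : P6 := swap 4 5

/-- The image of the involution. -/
def tau : P6 := swap 0 3 * swap 1 4 * swap 2 5

/-- The new transposition. -/
def rho : P6 := swap 0 3

/-- The eight products of the three transpositions. -/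
def inO (σ : P6) : Prop :=
  σ = 1 ∨ σ = tau ∨ σ = swap 0 3 ∨ σ = swap 1 4 ∨ σ = swap 2 5 ∨ σ = swap 0 3 * swap 1 4 ∨
    σ = swap 1 4 * swap 2 5 ∨ σ = swap 0 3 * swap 2 5

instance (σ : P6) : Decidable (inO σ) := by unfold inO; infer_instance

theorem s1_facts : s1 0 = 1 ∧ s1 1 = 2 ∧ s1 2 = 0 ∧ s2 3 = 4 ∧ s2 4 = 5 ∧ s2 5 = 3 := by decide +kernel

theorem B_images : s1 * w1 = swap 0 1 ∧ s2 * w2 = swap 3 4 := by decide +kernel

theorem eps_conj : s1 * s2 * swap 0 3 * (s1 * s2)⁻¹ = swap 1 4 ∧ s1 * s2 * swap 1 4 * (s1 * s2)⁻¹ = swap 2 5 ∧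
    s1 * s2 * swap 2 5 * (s1 * s2)⁻¹ = swap 0 3 := by decide +kernel

theorem eps_inO : ∀ σ, inO σ → inO (s1 * s2 * σ * (s1 * s2)⁻¹) := by decide +kernel

theorem pow_inO : ∀ x : Fin 3, ∀ σ, inO σ → inO ((s1 * s2) ^ x.val * σ * ((s1 * s2) ^ x.val)⁻¹) := by
  decide +kernel

theorem basic_sq : w1 * w1 = 1 ∧ w2 * w2 = 1 ∧ tau * tau = 1 ∧ rho * rho = 1 ∧ s1 * w1 * (s1 * w1) = 1 ∧
    s2 * w2 * (s2 * w2) = 1 := by decide +kernel

theorem rho_unique : ∀ σ : P6, σ * w1 = w1 * σ → σ * w2 = w2 * σ → σ * tau = tau * σ →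
    σ * σ = 1 → (σ * swap 0 1) * (σ * swap 0 1) * (σ * swap 0 1) = 1 →
    (σ * swap 3 4) * (σ * swap 3 4) * (σ * swap 3 4) = 1 → σ = rho := by decide +kernel

theorem rho_facts : rho * w1 = w1 * rho ∧ rho * w2 = w2 * rho ∧ rho * tau = tau * rho ∧ rho * rho = 1 ∧
    (rho * swap 0 1) * (rho * swap 0 1) * (rho * swap 0 1) = 1 ∧
    (rho * swap 3 4) * (rho * swap 3 4) * (rho * swap 3 4) = 1 := by decide +kernel

theorem inO_mul : ∀ σ, inO σ → ∀ σ', inO σ' → inO (σ * σ') ∧ σ * σ' = σ' * σ := by decide +kernel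

theorem inO_sq : ∀ σ, inO σ → σ * σ = 1 := by decide +kernel

theorem inO_small : ∀ σ : P6, σ * tau = tau * σ → σ ^ 4 = 1 →
    (σ * (s1 * s2 * σ * (s1 * s2)⁻¹)) ^ 4 = 1 → inO σ := by decide +kernel

theorem tau_order : ∀ σ : P6, σ * tau = tau * σ → σ ^ 12 = 1 := by decide +kernel

theorem inO_cent : ∀ σ : P6, σ * swap 0 3 = swap 0 3 * σ → σ * swap 1 4 = swap 1 4 * σ →
    σ * swap 2 5 = swap 2 5 * σ → inO σ := by decide +kernel

theorem inO_single : ∀ σ, inO σ → σ ≠ 1 → σ ≠ tau → ∃ x ∈ [swap 0 3, swap 1 4, swap 2 5], σ = x ∨ σ * tau = x := by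
  decide +kernel

theorem three_pair : ∀ σ : P6, σ * (swap 1 2 * swap 4 5) = swap 1 2 * swap 4 5 * σ → σ * σ * σ = 1 → σ = 1 := by
  decide +kernel

theorem move_one : s1 * (rho * swap 0 1) * rho * (s1 * (rho * swap 0 1))⁻¹ = w1 ∧
    s1 * s2 * (rho * swap 0 1) * (rho * swap 1 4) * (s1 * s2 * (rho * swap 0 1))⁻¹ = w1 * w2 ∧
    swap 1 4 * swap 2 5 = s1 * s2 * (rho * swap 1 4) * (s1 * s2)⁻¹ ∧
    swap 0 3 * swap 2 5 = s1 * s2 * (swap 1 4 * swap 2 5) * (s1 * s2)⁻¹ := by decide +kernel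

theorem gens_edges : swap (0 : Fin 6) 1 = s1 * w1 ∧ swap (3 : Fin 6) 4 = s2 * w2 := by decide +kernel

end Cfsg.Agent.Lie.PSpFourThreeFull.Axis
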