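import Cfsg.Agent.Lib.Lie.PSpFourThreeFull.PlaneFacts
import Mathlib.GroupTheory.SpecificGroups.Dihedral

/-!
Finite facts on the stabilisers in the signed monomial group.
-/

set_option autoImplicit false
set_option maxRecDepth 100000
set_option synthInstance.maxSize 4000
set_option synthInstance.maxHeartbeats 400000
set_option Elab.async false

namespace Cfsg.Agent.Lie.PSpFourThreeFull

open Cfsg.Agent.Lie.PSpFourThreeAmalgam

/-- A vector with one or two non-zero entries has a two-group as stabiliser. -/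
theorem stab_eight : ∀ v : V3, v ≠ 0 → (v.1 = 0 ∨ v.2.1 = 0 ∨ v.2.2 = 0) → ∀ p : Fin 24 × Bool, smap p v = v →
    ∀ u, (smap p)^[8] u = u := by decide +kernel

theorem stab_shift : ∀ v : V3, v ≠ 0 → (v.1 = 0 ∨ v.2.1 = 0 ∨ v.2.2 = 0) → ∀ p : Fin 24 × Bool, smap p v = v →
    (∀ w, ∃ a : ZMod 3, smap p w = w + a • v) → ∀ u, smap p u = u := by decide +kernel

theorem smap_ext : ∀ p q : Fin 24 × Bool, (∀ i : Fin 3, smap p (unitV i) = smap q (unitV i)) → p = q := by
  decide +kernel

theorem indep_of_not : ∀ v w : V3, v ≠ 0 → (∀ a : ZMod 3, w ≠ a • v) → indep v w := by decide +kernel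

/-- The position of a unit vector of the first two axes. -/
def rotIdx (u : V3) : ZMod 4 :=
  if u = (1, 0, 0) then 0 else if u = (0, 1, 0) then 1 else if u = (-1, 0, 0) then 2 else 3

/-- The code of a map fixing the third axis in the dihedral group. -/
def dcode (u w : V3) : DihedralGroup 4 :=
  if rotIdx w = rotIdx u + 1 then DihedralGroup.r (rotIdx u) else DihedralGroup.sr (-(rotIdx u))

theorem dcode_mul : ∀ p : Fin 24 × Bool, smap p (0, 0, 1) = (0, 0, 1) → ∀ q : Fin 24 × Bool,
    smap q (0, 0, 1) = (0, 0, 1) →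
    dcode (smap p (smap q (1, 0, 0))) (smap p (smap q (0, 1, 0))) =
      dcode (smap p (1, 0, 0)) (smap p (0, 1, 0)) * dcode (smap q (1, 0, 0)) (smap q (0, 1, 0)) := by
  decide +kernel

theorem dcode_inj : ∀ p : Fin 24 × Bool, smap p (0, 0, 1) = (0, 0, 1) →
    dcode (smap p (1, 0, 0)) (smap p (0, 1, 0)) = 1 → ∀ u, smap p u = u := by decide +kernel

theorem stab_axis_card : (Finset.univ.filter fun p : Fin 24 × Bool => smap p (0, 0, 1) = (0, 0, 1)).card = 8 := by
  decide +kernel

theorem stab_pair_card : (Finset.univ.filter fun p : Fin 24 × Bool => smap p (1, 1, 0) = (1, 1, 0)).card = 4 := by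
  decide +kernel

theorem stab_pair_sq : ∀ p : Fin 24 × Bool, smap p (1, 1, 0) = (1, 1, 0) → ∀ u, smap p (smap p u) = u := by
  decide +kernel

theorem stab_pair_mul : ∀ p : Fin 24 × Bool, smap p (1, 1, 0) = (1, 1, 0) → ∀ q : Fin 24 × Bool,
    smap q (1, 1, 0) = (1, 1, 0) → ∃ r : Fin 24 × Bool, smap r (1, 1, 0) = (1, 1, 0) ∧
      ∀ u, smap r u = smap p (smap q u) := by decide +kernel

theorem stab_pair_one : smap (0, true) (1, 1, 0) = (1, 1, 0) ∧ ∀ u, smap (0, true) u = u := by decide +kernel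

theorem axis_facts : ((0, 0, 1) : V3) ≠ 0 ∧ ((1, 1, 0) : V3) ≠ 0 := by decide +kernel

end Cfsg.Agent.Lie.PSpFourThreeFull
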