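import Cfsg.Agent.Lib.Lie.PSpFourThreeFull.Refl
import Mathlib.GroupTheory.Coxeter.Basic

/-!
The six nodes satisfy the relations of the diagram of type E6.
-/

set_option autoImplicit false
set_option linter.unusedSectionVars false

namespace Cfsg.Agent.Lie.PSpFourThreeFull

open Cfsg.Agent.Lie.PSpFourThreeAmalgam
open Cfsg.Agent.Small.ShapeThree (M)

theorem axes_kill : ∀ u : V3, sgC u = -u → mU (sgC (mU (mU u))) = -u → u = 0 := by decide +kernel

theorem axes_comm : ∀ v, sgC (mU (sgC (mU (mU (sgC (mU (sgC (mU (mU v))))))))) = v := by decide +kernel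

theorem sm_inv_act : ∀ v, mU (mU (mU v)) = v := by decide +kernel

theorem axes_fix : mU (sgC (mU (mU ((0, 0, 1) : V3)))) = (0, 0, 1) ∧ sgC ((1, 0, 0) : V3) = (1, 0, 0) := by
  decide +kernel

namespace Conf

variable {G : Type*} [Group G] [Finite G] (T : Conf G)

/-- Conjugation by the cyclic lift. -/
def rot : G →* G := (MulAut.conj (T.φ sm)).toMonoidHom

theorem rot_apply (x : G) : T.rot x = T.φ sm * x * (T.φ sm)⁻¹ := rfl

theorem rot_three (x : G) : T.rot (T.rot (T.rot x)) = x := by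
  have h : T.φ sm * T.φ sm * T.φ sm = 1 := by rw [← map_mul, ← map_mul, sm_cube, map_one]
  simp only [T.rot_apply]
  calc _ = T.φ sm * T.φ sm * T.φ sm * x * (T.φ sm * T.φ sm * T.φ sm)⁻¹ := by group
    _ = x := by rw [h]; simp

theorem rot_q (v : V3) : T.rot (T.q v) = T.q (mU v) := T.sm_acts v

theorem Acts.rot {g : G} {f : V3 → V3} (hg : T.Acts g f) :
    T.Acts (T.rot g) fun v => mU (f (mU (mU v))) := fun v => by
  have h : T.q v = T.rot (T.q (mU (mU v))) := by rw [T.rot_q, sm_inv_act]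
  show _ = T.q (mU (f (mU (mU v))))
  rw [← T.rot_q (f (mU (mU v))), ← hg, h, map_mul, map_mul, map_inv]

namespace Signed

variable {T} (hS : T.Signed)
include hS

theorem R_rotR : Commute hS.R (T.rot hS.R) := by
  set P := hS.R
  set Q := T.rot hS.R with hQ
  have hP := hS.R_invol
  have hQQ : Q * Q = 1 := by rw [hQ, ← map_mul, hS.R_invol, map_one]
  have hid : T.Acts (P * Q * (P * Q)) id := fun v => by
    rw [Acts.mul T (Acts.mul T hS.R_acts (Acts.rot T hS.R_acts)) (Acts.mul T hS.R_acts (Acts.rot T hS.R_acts))]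
    exact congrArg T.q (axes_comm v)
  obtain ⟨u, hu⟩ := T.mem_J.1 (T.mem_J_of_acts hid)
  have hinv : (P * Q * (P * Q))⁻¹ = Q * P * (Q * P) := by
    simp only [mul_inv_rev, hS.R_inv, P, inv_eq_of_mul_eq_one_right hQQ]
  have h1 : T.q (sgC u) = T.q (-u) := by
    rw [← hS.R_acts u, T.q_neg, hu, hinv]
    calc P * (P * Q * (P * Q)) * P⁻¹ = (P * P) * Q * P * Q * P⁻¹ := by group
      _ = _ := by rw [hP, hS.R_inv]; simp only [P]; group
  have h2 : T.q (mU (sgC (mU (mU u)))) = T.q (-u) := by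
    rw [← Acts.rot T hS.R_acts u, T.q_neg, hu, hinv, ← hQ]
    calc Q * (P * Q * (P * Q)) * Q⁻¹ = Q * P * Q * P := by group
      _ = _ := by group
  rw [axes_kill u (T.q_inj h1) (T.q_inj h2), T.q_zero] at hu
  have h3 : P * Q = (P * Q)⁻¹ := eq_inv_of_mul_eq_one_left hu.symm
  rwa [mul_inv_rev, inv_eq_of_mul_eq_one_right hQQ, hS.R_inv] at h3

theorem R_rotE : Commute hS.R (T.rot (T.q (0, 0, 1))) := by
  rw [T.rot_q]
  exact (Acts.comm_iff T hS.R_acts).2 axes_fix.2

theorem E_rotR : Commute (T.q (0, 0, 1)) (T.rot hS.R) :=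
  ((Acts.comm_iff T (Acts.rot T hS.R_acts)).2 axes_fix.1).symm

theorem B_rotR : Commute hS.B (T.rot hS.R) := hS.E_rotR.mul_left hS.R_rotR

theorem R_rotB : Commute hS.R (T.rot hS.B) := by
  rw [B, map_mul]
  exact hS.R_rotE.mul_right hS.R_rotR

theorem B_rotB : Commute hS.B (T.rot hS.B) := by
  have h : Commute (T.q (0, 0, 1)) (T.rot (T.q (0, 0, 1))) := by rw [T.rot_q]; exact T.q_comm _ _
  rw [B, map_mul]
  exact (h.mul_right hS.E_rotR).mul_left (hS.R_rotE.mul_right hS.R_rotR)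

theorem R_B : (hS.R * hS.B) ^ 3 = 1 := by
  have h : hS.R * hS.B = T.q (0, 0, -1) := by
    rw [B, ← mul_assoc, hS.R_inverts, mul_assoc, hS.R_invol, mul_one]
  rw [h, T.q_cube]

theorem rot_C : T.rot hS.C = hS.C := by rw [T.rot_apply, hS.C_sm, mul_inv_cancel_right]

theorem rot_comm {x y : G} (h : Commute x y) : Commute (T.rot x) (T.rot y) := h.map T.rot

/-- The generators in the order of the diagram. -/
noncomputable def node : Fin 6 → G :=
  ![T.rot hS.R, hS.B, T.rot hS.B, hS.C, T.rot (T.rot hS.B), T.rot (T.rot hS.R)]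

theorem node_sq (hi : Fin 6) : hS.node hi * hS.node hi = 1 := by
  fin_cases hi <;> simp [node, ← map_mul, hS.R_invol, hS.B_invol, hS.C_invol]

theorem node_liftable (hc : hS.Comm) : (CoxeterMatrix.E₆).IsLiftable hS.node := by
  have two : ∀ {x y : G}, x * x = 1 → y * y = 1 → Commute x y → (x * y) ^ 2 = 1 := fun hx hy h => by
    rw [h.mul_pow, pow_two, pow_two, hx, hy, one_mul]
  have sym3 : ∀ {x y : G}, x * x = 1 → y * y = 1 → (x * y) ^ 3 = 1 → (y * x) ^ 3 = 1 := fun {x y} hx hy h => by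
    rw [show y * x = (x * y)⁻¹ by rw [mul_inv_rev, inv_eq_of_mul_eq_one_right hx, inv_eq_of_mul_eq_one_right hy],
      inv_pow, h, inv_one]
  have hR := hS.R_invol
  have hB := hS.B_invol
  have hC := hS.C_invol
  have r1 : ∀ {x : G}, x * x = 1 → T.rot x * T.rot x = 1 := fun h => by rw [← map_mul, h, map_one]
  have c3 : ∀ {x y : G}, (x * y) ^ 3 = 1 → (T.rot x * T.rot y) ^ 3 = 1 := fun h => by
    rw [← map_mul, ← map_pow, h, map_one]
  have back : ∀ {x y : G}, Commute x (T.rot y) → Commute (T.rot (T.rot x)) y := fun {x y} h => by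
    have := hS.rot_comm (hS.rot_comm h)
    rwa [T.rot_three] at this
  have cR : Commute hS.C hS.R := hS.C_R hc
  have cR1 : Commute hS.C (T.rot hS.R) := by
    have := hS.rot_comm cR
    rwa [hS.rot_C] at this
  have cR2 : Commute hS.C (T.rot (T.rot hS.R)) := by
    have := hS.rot_comm cR1
    rwa [hS.rot_C] at this
  have cB1 : (hS.C * T.rot hS.B) ^ 3 = 1 := by
    have := c3 (hS.C_B hc)
    rwa [hS.rot_C] at this
  have cB2 : (hS.C * T.rot (T.rot hS.B)) ^ 3 = 1 := by
    have := c3 cB1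
    rwa [hS.rot_C] at this
  have a01 : Commute (T.rot hS.R) hS.B := hS.B_rotR.symm
  have a04 : Commute (T.rot hS.R) (T.rot (T.rot hS.B)) := hS.rot_comm hS.R_rotB
  have a05 : Commute (T.rot hS.R) (T.rot (T.rot hS.R)) := hS.rot_comm hS.R_rotR
  have a12 : Commute hS.B (T.rot hS.B) := hS.B_rotB
  have a14 : Commute hS.B (T.rot (T.rot hS.B)) := (back hS.B_rotB).symm
  have a15 : Commute hS.B (T.rot (T.rot hS.R)) := (back hS.R_rotB).symm
  have a24 : Commute (T.rot hS.B) (T.rot (T.rot hS.B)) := hS.rot_comm hS.B_rotB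
  have a25 : Commute (T.rot hS.B) (T.rot (T.rot hS.R)) := hS.rot_comm hS.B_rotR
  have b02 : (T.rot hS.R * T.rot hS.B) ^ 3 = 1 := c3 hS.R_B
  have b45 : (T.rot (T.rot hS.B) * T.rot (T.rot hS.R)) ^ 3 = 1 :=
    c3 (c3 (sym3 hR hB hS.R_B))
  intro i j
  fin_cases i <;> fin_cases j <;>
    simp only [node, CoxeterMatrix.E₆, Matrix.of_apply, Matrix.cons_val', Matrix.cons_val, Matrix.cons_val_zero,
      Matrix.cons_val_one, Fin.zero_eta, Fin.mk_one, Fin.reduceFinMk, Matrix.empty_val'] <;>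
    first
      | simp only [pow_one, r1 (r1 hR), r1 (r1 hB), r1 hR, r1 hB, hB, hC]
      | exact two (r1 hR) hB a01 | exact two hB (r1 hR) a01.symm
      | exact two (r1 hR) hC cR1.symm | exact two hC (r1 hR) cR1
      | exact two (r1 hR) (r1 (r1 hB)) a04 | exact two (r1 (r1 hB)) (r1 hR) a04.symm
      | exact two (r1 hR) (r1 (r1 hR)) a05 | exact two (r1 (r1 hR)) (r1 hR) a05.symm
      | exact two hB (r1 hB) a12 | exact two (r1 hB) hB a12.symm
      | exact two hB (r1 (r1 hB)) a14 | exact two (r1 (r1 hB)) hB a14.symm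
      | exact two hB (r1 (r1 hR)) a15 | exact two (r1 (r1 hR)) hB a15.symm
      | exact two (r1 hB) (r1 (r1 hB)) a24 | exact two (r1 (r1 hB)) (r1 hB) a24.symm
      | exact two (r1 hB) (r1 (r1 hR)) a25 | exact two (r1 (r1 hR)) (r1 hB) a25.symm
      | exact two hC (r1 (r1 hR)) cR2 | exact two (r1 (r1 hR)) hC cR2.symm
      | exact b02 | exact sym3 (r1 hR) (r1 hB) b02
      | exact b45 | exact sym3 (r1 (r1 hB)) (r1 (r1 hR)) b45
      | exact hS.C_B hc | exact sym3 hC hB (hS.C_B hc)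
      | exact cB1 | exact sym3 hC (r1 hB) cB1
      | exact cB2 | exact sym3 hC (r1 (r1 hB)) cB2

/-- The homomorphism from the Coxeter group. -/
noncomputable def psi (hc : hS.Comm) : CoxeterMatrix.E₆.Group →* G :=
  CoxeterMatrix.E₆.toCoxeterSystem.lift ⟨hS.node, hS.node_liftable hc⟩

theorem psi_simple (hc : hS.Comm) (i : Fin 6) : hS.psi hc (CoxeterMatrix.E₆.simple i) = hS.node i :=
  CoxeterMatrix.E₆.toCoxeterSystem.lift_apply_simple (hS.node_liftable hc) i

end Signed

end Conf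

end Cfsg.Agent.Lie.PSpFourThreeFull
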