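import Cfsg.Agent.Lib.Lie.PSpFourThreeFull.AxisFacts
import Cfsg.Agent.Lib.Lie.PSpFourThreeFull.EightLocal
import Cfsg.Agent.Lib.Lie.PSpFourThreeFull.Nodes
import Cfsg.Agent.Lib.Classical.SymSix

/-!
A labelling of the six points of the centraliser of the third axis.
-/

set_option autoImplicit false
set_option linter.unusedSectionVars false
set_option maxRecDepth 100000
set_option synthInstance.maxSize 4000
set_option synthInstance.maxHeartbeats 400000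

namespace Cfsg.Agent.Lie.PSpFourThreeFull

open Cfsg.Agent.Lie.PSpFourThreeAmalgam
open Cfsg.Agent.Small.ShapeThree (M)

namespace Axis

open Equiv
open Cfsg.Agent.Classical.SymSix (exotic)

theorem conj_exotic : s1 * s2⁻¹ ∈ exotic := by
  show Finset.image _ _ = _
  decide +kernel

theorem conj_double : ∀ σ : P6, σ * σ * σ = 1 → (∀ i, σ i ≠ i) → ∃ h : P6, h * σ * h⁻¹ = s1 * s2⁻¹ := by
  decide +kernel

theorem conj_single : ∀ σ : P6, σ * σ * σ = 1 → σ ≠ 1 → (∃ i, σ i = i) → ∃ h : P6, h * σ * h⁻¹ = s1 := by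
  decide +kernel

theorem conj_second : ∀ σ : P6, σ * s1 = s1 * σ → σ * σ * σ = 1 → (∃ i, σ i = i) →
    σ ≠ 1 → σ ≠ s1 → σ ≠ s1 * s1 → ∃ h : P6, h * s1 * h⁻¹ = s1 ∧ h * σ * h⁻¹ = s2 := by decide +kernel

theorem conj_refl : ∀ x : P6, x * x = 1 → x * s2 = s2 * x → x * s1 * x⁻¹ = s1⁻¹ →
    ∀ y : P6, y * y = 1 → y * s1 = s1 * y → y * s2 * y⁻¹ = s2⁻¹ →
    ∃ h : P6, h * s1 * h⁻¹ = s1 ∧ h * s2 * h⁻¹ = s2 ∧ h * x * h⁻¹ = w1 ∧ h * y * h⁻¹ = w2 := by decide +kernel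

theorem tau_unique : ∀ z : P6, z * z = 1 → z * s1 * z⁻¹ = s2 → z * w1 * z⁻¹ = w2 → z = tau := by decide +kernel

/-- An element of order three is carried to a three-cycle by an automorphism. -/
theorem exists_single (σ : P6) (h3 : σ * σ * σ = 1) (h1 : σ ≠ 1) : ∃ α : P6 ≃* P6, α σ = s1 := by
  suffices h : ∃ α : P6 ≃* P6, ∃ i, (α σ) i = i by
    obtain ⟨α, hi⟩ := h
    obtain ⟨h, hh⟩ := conj_single (α σ) (by rw [← map_mul, ← map_mul, h3, map_one]) (fun e => h1 (by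
      rw [← map_one α] at e
      exact α.injective e)) hi
    exact ⟨α.trans (MulAut.conj h), hh⟩
  by_cases hi : ∃ i, σ i = i
  · exact ⟨MulEquiv.refl _, hi⟩
  push Not at hi
  obtain ⟨φ, hφ⟩ := Cfsg.Agent.Classical.SymSix.exists_auto exotic Cfsg.Agent.Classical.SymSix.index_exotic
  obtain ⟨h, hh⟩ := conj_double σ h3 hi
  have hm : h * σ * h⁻¹ ∈ exotic := hh ▸ conj_exotic
  rw [hφ, Subgroup.mem_comap, MulAction.mem_stabilizer_iff] at hm
  refine ⟨φ, (φ h)⁻¹ 0, ?_⟩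
  change (φ (h * σ * h⁻¹)) 0 = 0 at hm
  rw [map_mul, map_mul, map_inv, Perm.mul_apply, Perm.mul_apply] at hm
  rw [Perm.eq_inv_iff_eq]
  exact hm

end Axis

namespace Conf

variable {G : Type*} [Group G] [Finite G] (T : Conf G)

/-- A vector in the centraliser of the third axis. -/
def qc (v : V3) : T.centQ (0, 0, 1) := ⟨T.q v, T.J_le_centQ _ (T.q_mem v)⟩

theorem qc_add (v w : V3) : T.qc (v + w) = T.qc v * T.qc w := Subtype.ext (T.q_add v w)

/-- The involution in the centraliser of the third axis. -/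
def tc : T.centQ (0, 0, 1) :=
  ⟨T.φ tm, T.mem_centQ.2 ((Acts.comm_iff T T.tm_acts).2 (by decide +kernel))⟩

namespace Signed

variable {T} (hS : T.Signed)
include hS

/-- The first reflection in the centraliser of the third axis. -/
noncomputable def c1 : T.centQ (0, 0, 1) :=
  ⟨T.rot hS.R, T.mem_centQ.2 ((Acts.comm_iff T (Acts.rot T hS.R_acts)).2 axes_fix.1)⟩

/-- The second reflection in the centraliser of the third axis. -/
noncomputable def c2 : T.centQ (0, 0, 1) :=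
  ⟨T.rot (T.rot hS.R), T.mem_centQ.2
    ((Acts.comm_iff T (Acts.rot T (Acts.rot T hS.R_acts))).2 (by decide +kernel))⟩

theorem c1_sq : hS.c1 * hS.c1 = 1 :=
  Subtype.ext (by show T.rot hS.R * T.rot hS.R = 1; rw [← map_mul, hS.R_invol, map_one])

theorem c2_sq : hS.c2 * hS.c2 = 1 :=
  Subtype.ext (by show T.rot (T.rot hS.R) * T.rot (T.rot hS.R) = 1; rw [← map_mul, ← map_mul, hS.R_invol, map_one, map_one])

theorem tc_sq : T.tc * T.tc = 1 := Subtype.ext T.tm_invol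

theorem c1_acts {v w : V3} (h : mU (sgC (mU (mU v))) = w) : hS.c1 * T.qc v * hS.c1⁻¹ = T.qc w :=
  Subtype.ext (by
    show T.rot hS.R * T.q v * (T.rot hS.R)⁻¹ = T.q w
    exact (Acts.rot T hS.R_acts v).trans (congrArg T.q h))

theorem c2_acts {v w : V3} (h : mU (mU (sgC (mU (mU (mU (mU v)))))) = w) : hS.c2 * T.qc v * hS.c2⁻¹ = T.qc w :=
  Subtype.ext (by
    show T.rot (T.rot hS.R) * T.q v * (T.rot (T.rot hS.R))⁻¹ = T.q w
    exact (Acts.rot T (Acts.rot T hS.R_acts) v).trans (congrArg T.q h))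

theorem tc_c1 : T.tc * hS.c1 * T.tc⁻¹ = hS.c2 := Subtype.ext (by
  show T.φ tm * T.rot hS.R * (T.φ tm)⁻¹ = T.rot (T.rot hS.R)
  have h1 : T.φ tm * T.φ sm * (T.φ tm)⁻¹ = (T.φ sm)⁻¹ := by
    rw [← map_inv, ← map_inv, ← map_mul, ← map_mul, tm_sm]
  have h2 : T.φ tm * hS.R * (T.φ tm)⁻¹ = hS.R := by rw [← hS.R_tm, mul_inv_cancel_right]
  have h3 : T.φ sm * T.φ sm = (T.φ sm)⁻¹ := by
    rw [eq_inv_iff_mul_eq_one, ← map_mul, ← map_mul, sm_cube, map_one]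
  simp only [T.rot_apply]
  calc T.φ tm * (T.φ sm * hS.R * (T.φ sm)⁻¹) * (T.φ tm)⁻¹
      = T.φ tm * T.φ sm * (T.φ tm)⁻¹ * (T.φ tm * hS.R * (T.φ tm)⁻¹) *
        (T.φ tm * T.φ sm * (T.φ tm)⁻¹)⁻¹ := by group
    _ = T.φ sm * T.φ sm * hS.R * (T.φ sm * T.φ sm)⁻¹ := by rw [h1, h2, h3]
    _ = _ := by group)

theorem c1_comm_c2 : hS.c1 * hS.c2 = hS.c2 * hS.c1 := Subtype.ext (hS.rot_comm hS.R_rotR).eq

/-- The labelling. -/
structure Label where
  π : T.centQ (0, 0, 1) →* Axis.P6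
  surj : Function.Surjective π
  ker : π.ker = T.lineQ (0, 0, 1)
  e1 : π (T.qc (1, 0, 0)) = Axis.s1
  e2 : π (T.qc (0, 1, 0)) = Axis.s2
  r1 : π hS.c1 = Axis.w1
  r2 : π hS.c2 = Axis.w2
  t : π T.tc = Axis.tau

/-- A homomorphism onto the symmetric group can be labelled. -/
theorem exists_label (π : T.centQ (0, 0, 1) →* Equiv.Perm (Fin 6)) (hs : Function.Surjective π)
    (hk : π.ker = T.lineQ (0, 0, 1)) : Nonempty hS.Label := by
  have hker : ∀ v : V3, π (T.qc v) = 1 → ∃ a : ZMod 3, v = a • ((0, 0, 1) : V3) := fun v hv => by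
    have h : T.qc v ∈ π.ker := hv
    rw [hk] at h
    obtain ⟨a, ha⟩ := T.mem_lineQ.1 h
    exact ⟨a, T.q_inj ha⟩
  have hcube : ∀ v, T.qc v * T.qc v * T.qc v = 1 := fun v => Subtype.ext (by
    show T.q v * T.q v * T.q v = 1
    rw [← T.q_cube v, pow_succ, pow_two])
  have hcomm : ∀ v w, T.qc v * T.qc w = T.qc w * T.qc v := fun v w => Subtype.ext (T.q_comm v w)
  have hneg : ∀ v, (T.qc v)⁻¹ = T.qc (-v) := fun v => Subtype.ext (T.q_neg v).symm
  have hz : ∀ v w : V3, (∀ a : ZMod 3, v - w ≠ a • ((0, 0, 1) : V3)) → π (T.qc v) ≠ π (T.qc w) := fun v w h e => by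
    obtain ⟨a, ha⟩ := hker (v - w) (by
      rw [sub_eq_add_neg, T.qc_add, map_mul, ← hneg, map_inv, e, mul_inv_cancel])
    exact h a ha
  have h10 : π (T.qc (1, 0, 0)) ≠ 1 := fun e => by
    obtain ⟨a, ha⟩ := hker _ e
    revert ha
    revert a
    decide +kernel
  obtain ⟨α, hα⟩ := Axis.exists_single (π (T.qc (1, 0, 0)))
    (by rw [← map_mul, ← map_mul, hcube, map_one]) h10
  set π₁ := α.toMonoidHom.comp π with hπ₁
  have hne : ∀ v w : V3, (∀ a : ZMod 3, v - w ≠ a • ((0, 0, 1) : V3)) → π₁ (T.qc v) ≠ π₁ (T.qc w) :=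
    fun v w h e => hz v w h (α.injective e)
  have he1 : π₁ (T.qc (1, 0, 0)) = Axis.s1 := hα
  have htc : T.tc * T.qc (1, 0, 0) * T.tc⁻¹ = T.qc (0, 1, 0) := Subtype.ext (by
    show T.φ tm * T.q (1, 0, 0) * (T.φ tm)⁻¹ = T.q (0, 1, 0)
    rw [T.tm_acts]
    exact congrArg T.q (by decide +kernel))
  have hfix : ∃ i, (π₁ (T.qc (0, 1, 0))) i = i := by
    refine ⟨π₁ T.tc 3, ?_⟩
    rw [← htc, map_mul, map_mul, map_inv, he1, Equiv.Perm.mul_apply, Equiv.Perm.mul_apply,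
      ← Equiv.Perm.mul_apply (π₁ T.tc)⁻¹, inv_mul_cancel, Equiv.Perm.one_apply]
    congr 1
  obtain ⟨h, hh1, hh2⟩ := Axis.conj_second (π₁ (T.qc (0, 1, 0)))
    (by rw [← he1, ← map_mul, ← map_mul, hcomm]) (by rw [← map_mul, ← map_mul, hcube, map_one]) hfix
    (fun e => hne (0, 1, 0) 0 (by decide +kernel) (by
      rw [e, show T.qc 0 = 1 from Subtype.ext T.q_zero, map_one]))
    (fun e => hne (0, 1, 0) (1, 0, 0) (by decide +kernel) (by rw [e, he1]))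
    (fun e => hne (0, 1, 0) ((1, 0, 0) + (1, 0, 0)) (by decide +kernel) (by rw [e, T.qc_add, map_mul, he1]))
  set π₂ := (MulAut.conj h).toMonoidHom.comp π₁ with hπ₂
  have f1 : π₂ (T.qc (1, 0, 0)) = Axis.s1 := by
    show h * π₁ _ * h⁻¹ = _
    rw [he1, hh1]
  have f2 : π₂ (T.qc (0, 1, 0)) = Axis.s2 := hh2
  have cinv : ∀ c v, c * T.qc v * c⁻¹ = T.qc (-v) → π₂ c * π₂ (T.qc v) * (π₂ c)⁻¹ = (π₂ (T.qc v))⁻¹ := fun c v e => by
    rw [← map_inv, ← map_mul, ← map_mul, e, ← hneg, map_inv]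
  have cfix : ∀ c v, c * T.qc v * c⁻¹ = T.qc v → π₂ c * π₂ (T.qc v) = π₂ (T.qc v) * π₂ c := fun c v e => by
    rw [← map_mul, ← map_mul, mul_inv_eq_iff_eq_mul.1 e]
  obtain ⟨k, k1, k2, k3, k4⟩ := Axis.conj_refl (π₂ hS.c1) (by rw [← map_mul, hS.c1_sq, map_one])
    (by rw [← f2]; exact cfix _ _ (hS.c1_acts (by decide +kernel)))
    (by rw [← f1]; exact cinv _ _ (hS.c1_acts (by decide +kernel)))
    (π₂ hS.c2) (by rw [← map_mul, hS.c2_sq, map_one])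
    (by rw [← f1]; exact cfix _ _ (hS.c2_acts (by decide +kernel)))
    (by rw [← f2]; exact cinv _ _ (hS.c2_acts (by decide +kernel)))
  set π₃ := (MulAut.conj k).toMonoidHom.comp π₂ with hπ₃
  have g1 : π₃ (T.qc (1, 0, 0)) = Axis.s1 := by show k * π₂ _ * k⁻¹ = _; rw [f1, k1]
  have g2 : π₃ (T.qc (0, 1, 0)) = Axis.s2 := by show k * π₂ _ * k⁻¹ = _; rw [f2, k2]
  have g3 : π₃ hS.c1 = Axis.w1 := k3
  have g4 : π₃ hS.c2 = Axis.w2 := k4
  refine ⟨⟨π₃, ?_, ?_, g1, g2, g3, g4, ?_⟩⟩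
  · exact (MulAut.conj k).surjective.comp ((MulAut.conj h).surjective.comp (α.surjective.comp hs))
  · rw [← hk]
    ext x
    simp [hπ₃, hπ₂, hπ₁]
  · refine Axis.tau_unique _ (by rw [← map_mul, tc_sq hS, map_one]) ?_ ?_
    · rw [← g1, ← g2, ← map_inv, ← map_mul, ← map_mul, htc]
    · rw [← g3, ← g4, ← map_inv, ← map_mul, ← map_mul, hS.tc_c1]

end Signed

end Conf

end Cfsg.Agent.Lie.PSpFourThreeFull
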