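import Cfsg.Agent.Lib.Lie.PSpFourThreeFull.WFour

/-!
Finite facts on the signed monomial maps and the subgroups of order nine.
-/

set_option autoImplicit false
set_option maxRecDepth 100000
set_option synthInstance.maxSize 4000
set_option synthInstance.maxHeartbeats 400000
set_option Elab.async false

namespace Cfsg.Agent.Lie.PSpFourThreeFull

open Cfsg.Agent.Lie.PSpFourThreeAmalgam

/-- The forty-eight signed monomial maps. -/
def smap (p : Fin 24 × Bool) (v : V3) : V3 := if p.2 then act p.1 v else -(act p.1 v)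

/-- Independence of two vectors. -/
def indep (v w : V3) : Prop := ∀ a b : ZMod 3, a • v + b • w = 0 → a = 0 ∧ b = 0

instance (v w : V3) : Decidable (indep v w) := inferInstanceAs (Decidable (∀ _ _, _))

theorem smap_add (p : Fin 24 × Bool) (v w : V3) : smap p (v + w) = smap p v + smap p w := by
  unfold smap
  split
  · exact act_add _ v w
  · rw [act_add, neg_add]

/-- The unit vectors. -/
def unitV : Fin 3 → V3 := ![(1, 0, 0), (0, 1, 0), (0, 0, 1)]

theorem smap_inj : ∀ p : Fin 24 × Bool, ∀ v w : V3, smap p v = smap p w → v = w := by decide +kernel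

theorem smap_dia : ∀ u : V3, u.1 ≠ 0 → u.2.1 ≠ 0 → u.2.2 ≠ 0 → ∃ p : Fin 24 × Bool, smap p u = dia := by
  decide +kernel

theorem smap_axes : ∀ i j : Fin 3, i ≠ j →
    ∃ p : Fin 24 × Bool, smap p (unitV i) = (1, 0, 0) ∧ smap p (unitV j) = (0, 1, 0) := by decide +kernel

theorem plane_span : ∀ v w : V3, indep v w →
    (∃ a b : ZMod 3, (a • v + b • w).1 ≠ 0 ∧ (a • v + b • w).2.1 ≠ 0 ∧ (a • v + b • w).2.2 ≠ 0) ∨
    ∃ i j : Fin 3, i ≠ j ∧ (∃ a b : ZMod 3, a • v + b • w = unitV i) ∧ ∃ a b : ZMod 3, a • v + b • w = unitV j := by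
  decide +kernel

theorem smap_second : ∀ v w : V3, indep v w → ∀ u : V3, (v ≠ u ∧ v ≠ -u) ∨ (w ≠ u ∧ w ≠ -u) := by decide +kernel

theorem indep_ne : ∀ v w : V3, indep v w → v ≠ 0 ∧ w ≠ 0 := by decide +kernel

theorem smap_neg : ∀ p : Fin 24 × Bool, smap p (-dia) = -(smap p dia) := by decide +kernel

theorem smap_fix_plane : ∀ p : Fin 24 × Bool, smap p (1, 0, 0) = (1, 0, 0) → smap p (0, 1, 0) = (0, 1, 0) →
    ∀ a b : ZMod 3, smap p (0, 0, 1) = (a, b, 1) → ∀ v, smap p v = v := by decide +kernel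

theorem smap_three : ∀ v w : V3, indep v w → ∀ p : Fin 24 × Bool, smap p v = v → smap p w = w →
    (∀ u, smap p (smap p (smap p u)) = u) → ∀ u, smap p u = u := by decide +kernel

theorem third_split : ∀ v : V3, v = (v.1, v.2.1, 0) + (0, 0, v.2.2) := by decide +kernel

end Cfsg.Agent.Lie.PSpFourThreeFull
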