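import Cfsg.Agent.Lib.Lie.PSpFourThreeFull.ReflFacts
import Cfsg.Agent.Lib.Lie.PSpFourThreeFull.PlaneFacts

/-!
Finite facts for the quaternion subgroup of the model.
-/

set_option autoImplicit false
set_option maxRecDepth 100000
set_option synthInstance.maxSize 4000
set_option synthInstance.maxHeartbeats 400000
set_option Elab.async false

namespace Cfsg.Agent.Lie.PSpFourThreeFull

open Cfsg.Agent.Lie.PSpFourThreeAmalgam
open Cfsg.Agent.Small.ShapeThree (M omega S)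
open scoped Matrix

theorem four_closed : ∀ g h : S, g * g * (g * g) = 1 → h * h * (h * h) = 1 → g * h * (g * h) * (g * h * (g * h)) = 1 := by
  decide +kernel

theorem four_inv : ∀ g : S, g * g * (g * g) = 1 → g⁻¹ * g⁻¹ * (g⁻¹ * g⁻¹) = 1 := by decide +kernel

/-- The quaternion subgroup. -/
def Qm : Subgroup M where
  carrier := {m | m.k = 0 ∧ m.v = 0 ∧ m.g * m.g * (m.g * m.g) = 1}
  one_mem' := ⟨rfl, rfl, by simp [M.one_g]⟩
  mul_mem' := by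
    rintro ⟨k, v, g⟩ ⟨k', v', g'⟩ ⟨hk, hv, hg⟩ ⟨hk', hv', hg'⟩
    obtain rfl : k = 0 := hk
    obtain rfl : v = 0 := hv
    obtain rfl : k' = 0 := hk'
    obtain rfl : v' = 0 := hv'
    exact ⟨by simp [M.mul_k, omega], by simp [M.mul_v], by simpa [M.mul_g] using four_closed g g' hg hg'⟩
  inv_mem' := by
    rintro ⟨k, v, g⟩ ⟨hk, hv, hg⟩
    obtain rfl : k = 0 := hk
    obtain rfl : v = 0 := hv
    exact ⟨by simp [M.inv_k], by simp [M.inv_v], by simpa [M.inv_g] using four_inv g hg⟩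

instance (m : M) : Decidable (m ∈ Qm) :=
  inferInstanceAs (Decidable (m.k = 0 ∧ m.v = 0 ∧ m.g * m.g * (m.g * m.g) = 1))

theorem qe_Qm : ∀ i, qe i ∈ Qm := by decide +kernel

theorem tm_Qm : tm ∈ Qm := by decide +kernel

theorem Qm_cube : ∀ g : S, g * g * (g * g) = 1 → g * g * g = 1 → g = 1 := by decide +kernel

theorem Qm_eight : ∀ g : S, g ^ 8 = 1 → g * g * (g * g) = 1 := by decide +kernel

theorem eight_k : ∀ k : ZMod 3, ∀ g : S, ((⟨k, 0, g⟩ : M) * ⟨k, 0, g⟩ * (⟨k, 0, g⟩ * ⟨k, 0, g⟩)) *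
    ((⟨k, 0, g⟩ : M) * ⟨k, 0, g⟩ * (⟨k, 0, g⟩ * ⟨k, 0, g⟩)) = 1 → k = 0 := by decide +kernel

theorem Qm_pow : ∀ g : S, g * g * (g * g) = 1 →
    (⟨0, 0, g⟩ : M) * ⟨0, 0, g⟩ * (⟨0, 0, g⟩ * ⟨0, 0, g⟩) = 1 := by decide +kernel

theorem tm_cent : ∀ m : M, m * tm = tm * m → m.v = 0 := by decide +kernel

theorem tm_cent' : ∀ m : M, m.v = 0 → m * tm = tm * m ∧ m * M.c = M.c * m := by decide +kernel

theorem Qm_conj : ∀ m : M, m.v = 0 → ∀ g : S, g * g * (g * g) = 1 →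
    m * ⟨0, 0, g⟩ * m⁻¹ ∈ Qm := by decide +kernel

theorem Qm_gen : ∀ g : S, g * g * (g * g) = 1 → g ≠ 1 → (⟨0, 0, g⟩ : M) ≠ tm → ∀ h : S, h * h * (h * h) = 1 →
    ∃ i j : Fin 4, (⟨0, 0, h⟩ : M) = (⟨0, 0, g⟩ : M) ^ i.1 *
      (jc (0, 0, 1) * ⟨0, 0, g⟩ * (jc (0, 0, 1))⁻¹) ^ j.1 := by decide +kernel

theorem Qm_two : ∀ g : S, g * g * (g * g) = 1 → ∀ h : S, h * h * (h * h) = 1 → ∃ i j : Fin 4,
    (⟨0, 0, h⟩ : M) = qm ^ i.1 * qe 1 ^ j.1 := by decide +kernel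

theorem cent_quat : ∀ m : M, m * qm = qm * m → m * qe 1 = qe 1 * m →
    ∃ i : ZMod 3, m = jc (i, i, i) ∨ m = jc (i, i, i) * tm := by decide +kernel

theorem no_inner : ∀ m : M, m.v = 0 →
    ∃ i, m⁻¹ * qe i * m ≠ jc (0, 0, -i) * (m⁻¹ * qm * m) * (jc (0, 0, -i))⁻¹ := by decide +kernel

theorem Qm_root : ∀ g : S, (⟨0, 0, g⟩ : M) * ⟨0, 0, g⟩ = tm → ∃ j, (⟨0, 0, g⟩ : M) = qe j ∨
    (⟨0, 0, g⟩ : M) = qe j * tm := by decide +kernel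

/-- The images of the three roots under an involution inverting the rotation. -/
def fz (x : M) (i : ZMod 3) : M := jc (0, 0, -i) * x * (jc (0, 0, -i))⁻¹

theorem z_orient : ∀ j : ZMod 3, ∀ s : Bool, fz (if s then qe j * tm else qe j) j = (if s then qm * tm else qm) →
    fz (if s then qe j * tm else qe j) 0 * fz (if s then qe j * tm else qe j) 2 *
      fz (if s then qe j * tm else qe j) 1 = qm * qe 2 * qe 1 →
    ∀ i, qe i * fz (if s then qe j * tm else qe j) i ≠ tm := by decide +kernel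

theorem qe_prod' : qm * qe 2 * qe 1 = 1 ∨ qm * qe 2 * qe 1 = tm := by decide +kernel

theorem Qm_cases : ∀ g : S, g * g * (g * g) = 1 → (⟨0, 0, g⟩ : M) = 1 ∨ (⟨0, 0, g⟩ : M) = tm ∨
    ∃ i, (⟨0, 0, g⟩ : M) = qe i ∨ (⟨0, 0, g⟩ : M) = qe i * tm := by decide +kernel

theorem qe_moved : qe 1 ≠ qm ∧ qm ≠ 1 ∧ tm ≠ 1 ∧ jc (0, 0, 1) * qm * (jc (0, 0, 1))⁻¹ = qe 1 := by decide +kernel

theorem fixed_cases : ∀ v : V3, mT v = v → v ≠ 0 → v = dia ∨ v = -dia ∨ v = (1, 1, 2) ∨ v = -((1, 1, 2) : V3) ∨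
    v = (0, 0, 1) ∨ v = -((0, 0, 1) : V3) ∨ v = (1, 1, 0) ∨ v = -((1, 1, 0) : V3) := by decide +kernel

theorem fixed_basic : sgC dia = (1, 1, 2) ∧ mT (0, 0, 1) = ((0, 0, 1) : V3) ∧ mT (1, 1, 2) = ((1, 1, 2) : V3) ∧
    mT dia = dia := by decide +kernel

theorem mT_fixed_nine : Nat.card {v : V3 // mT v = v} = 9 := by
  rw [Nat.card_eq_fintype_card]
  decide +kernel

theorem maps_ne : (∃ v, mT v ≠ v) ∧ (∃ v, sgC v ≠ v) ∧ (∃ v : V3, -v ≠ v) ∧ (∃ v : V3, -(sgC v) ≠ v) ∧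
    (∃ v, sgC v ≠ mT v) ∧ (∃ v : V3, -v ≠ mT v) ∧ (∃ v : V3, -(sgC v) ≠ mT v) ∧ (∃ v : V3, -v ≠ sgC v) ∧
    (∃ v : V3, -(sgC v) ≠ sgC v) ∧ (∃ v : V3, -(sgC v) ≠ -v) := by decide +kernel

theorem aut_pairs : (Finset.univ.filter fun p : S × S => p.1 * p.1 * (p.1 * p.1) = 1 ∧ p.2 * p.2 * (p.2 * p.2) = 1 ∧
    p.1 * p.2 ≠ p.2 * p.1).card = 24 := by decide +kernel

end Cfsg.Agent.Lie.PSpFourThreeFull
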