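import Cfsg.Agent.Lib.Lie.PSpFourThreeFull.Planes
import Cfsg.Agent.Lib.Lie.PSpFourThreeFull.QuatFacts
import Cfsg.Agent.S0058

/-!
The quaternion subgroups of the centraliser of the involution and the subgroups of order prime to three normalised
by the fixed plane.
-/

set_option autoImplicit false
set_option linter.unusedSectionVars false
set_option linter.style.haveILetI false
set_option maxRecDepth 100000

namespace Cfsg.Agent.Lie.PSpFourThreeFull

open Cfsg.Agent.Lie.PSpFourThreeAmalgam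
open Cfsg.Agent.Small.ShapeThree (M omega S)

theorem Qm_mem_form {m : M} (h : m ∈ Qm) : m = ⟨0, 0, m.g⟩ ∧ m.g * m.g * (m.g * m.g) = 1 :=
  ⟨M.ext h.1 h.2.1 rfl, h.2.2⟩

namespace Conf

variable {G : Type*} [Group G] [Finite G] (T : Conf G)

/-- The first quaternion subgroup. -/
def Qg : Subgroup G := Qm.map T.φ

/-- The fixed plane. -/
def Eg : Subgroup G := T.J ⊓ Subgroup.centralizer ({T.φ tm} : Set G)

theorem mem_Eg {x : G} : x ∈ T.Eg ↔ ∃ v, mT v = v ∧ T.q v = x := by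
  constructor
  · rintro ⟨hx, hc⟩
    obtain ⟨v, rfl⟩ := T.mem_J.1 hx
    exact ⟨v, (Acts.comm_iff T T.tm_acts).1 (Subgroup.mem_centralizer_singleton_iff.1 hc).symm, rfl⟩
  · rintro ⟨v, hv, rfl⟩
    exact ⟨T.q_mem v, Subgroup.mem_centralizer_singleton_iff.2 ((Acts.comm_iff T T.tm_acts).2 hv).symm⟩

theorem a_mem_Eg : T.a ∈ T.Eg := T.mem_Eg.2 ⟨dia, fixed_basic.2.2.2, T.q_dia⟩

theorem qe_mem (i : ZMod 3) : T.φ (qe i) ∈ T.Qg := ⟨_, qe_Qm i, rfl⟩

theorem qm_mem : T.φ qm ∈ T.Qg := qe_zero ▸ T.qe_mem 0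

theorem tm_mem_Qg : T.φ tm ∈ T.Qg := ⟨_, tm_Qm, rfl⟩

theorem Qg_comm_a {x : G} (hx : x ∈ T.Qg) : x * T.a = T.a * x := by
  obtain ⟨m, -, rfl⟩ := hx
  exact T.cent_a.2 ⟨m, rfl⟩

theorem Qg_comm_t {x : G} (hx : x ∈ T.Qg) : x * T.φ tm = T.φ tm * x := by
  obtain ⟨m, hm, rfl⟩ := hx
  rw [← map_mul, ← map_mul, (tm_cent' m hm.2.1).1]

/-- Elements of order prime to three commuting with the element of order three and the involution. -/
theorem mem_Qg_of {x : G} (ha : x * T.a = T.a * x) (ht : x * T.φ tm = T.φ tm * x)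
    (h3 : (orderOf x).Coprime 3) : x ∈ T.Qg := by
  obtain ⟨m, rfl⟩ := T.cent_a.1 ha
  have hv := tm_cent m (T.inj (by rw [map_mul, map_mul]; exact ht))
  have hd : orderOf (T.φ m) ∣ 648 := by
    rw [orderOf_injective T.φ T.inj, ← M.card_eq]
    exact orderOf_dvd_natCard m
  have h8 : orderOf (T.φ m) ∣ 8 := by
    refine (Nat.Coprime.pow_right 4 h3).dvd_of_dvd_mul_right (n := 3 ^ 4) ?_
    rw [show 8 * 3 ^ 4 = 648 from rfl]
    exact hd
  have hm8 : m ^ 8 = 1 := T.inj (by rw [map_pow, map_one, orderOf_dvd_iff_pow_eq_one.1 h8])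
  obtain ⟨k, v, g⟩ := m
  obtain rfl : v = 0 := hv
  have hk : k = 0 := eight_k k g (by rw [← hm8]; simp only [pow_succ, pow_zero, one_mul, mul_assoc])
  subst hk
  refine ⟨⟨0, 0, g⟩, ⟨rfl, rfl, Qm_eight g ?_⟩, rfl⟩
  have hg : ∀ n : ℕ, ((⟨0, 0, g⟩ : M) ^ n).g = g ^ n := fun n => by
    induction n with
    | zero => rfl
    | succ n ih => rw [pow_succ, pow_succ, M.mul_g, ih]
  rw [← hg, hm8]
  rfl

theorem Qg_pow_eight {x : G} (hx : x ∈ T.Qg) : x ^ 8 = 1 := by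
  obtain ⟨m, hm, rfl⟩ := hx
  obtain ⟨he, hg⟩ := Qm_mem_form hm
  have hg4 : m * m * (m * m) = 1 := by
    rw [he]
    exact Qm_pow m.g hg
  rw [← map_pow, show m ^ 8 = (m * m * (m * m)) * (m * m * (m * m)) by simp only [pow_succ, pow_zero, one_mul, mul_assoc],
    hg4, one_mul, map_one]

theorem Qg_coprime {x : G} (hx : x ∈ T.Qg) : (orderOf x).Coprime 3 :=
  Nat.Coprime.coprime_dvd_left (orderOf_dvd_iff_pow_eq_one.2 (T.Qg_pow_eight hx)) (by norm_num)

/-- An element of the normaliser of the plane and of the involution normalises the quaternion subgroup when it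
maps the element of order three to itself or its inverse. -/
theorem map_Qg {g : G} (ha : g * T.a * g⁻¹ = T.a ∨ g * T.a * g⁻¹ = T.a⁻¹) (ht : g * T.φ tm = T.φ tm * g)
    {x : G} (hx : x ∈ T.Qg) : g * x * g⁻¹ ∈ T.Qg := by
  refine T.mem_Qg_of ?_ ?_ ?_
  · rcases ha with h | h
    · have h1 : g * x * g⁻¹ * (g * T.a * g⁻¹) = g * T.a * g⁻¹ * (g * x * g⁻¹) := by
        rw [conj_mul, conj_mul, T.Qg_comm_a hx]
      rwa [h] at h1
    · have h1 : g * x * g⁻¹ * (g * T.a * g⁻¹) = g * T.a * g⁻¹ * (g * x * g⁻¹) := by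
        rw [conj_mul, conj_mul, T.Qg_comm_a hx]
      rw [h] at h1
      simpa using (show Commute (g * x * g⁻¹) T.a⁻¹ from h1).inv_right.eq
  · have hg : g * T.φ tm * g⁻¹ = T.φ tm := by rw [ht, mul_inv_cancel_right]
    calc g * x * g⁻¹ * T.φ tm = g * x * g⁻¹ * (g * T.φ tm * g⁻¹) := by rw [hg]
      _ = g * T.φ tm * g⁻¹ * (g * x * g⁻¹) := by rw [conj_mul, conj_mul, T.Qg_comm_t hx]
      _ = _ := by rw [hg]
  · rw [show orderOf (g * x * g⁻¹) = orderOf x from orderOf_injective (MulAut.conj g).toMonoidHom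
      (MulEquiv.injective _) x]
    exact T.Qg_coprime hx

/-- A subgroup normalised by the third axis with a non-central element of the quaternion group contains it. -/
theorem Qg_le {K : Subgroup G} (hK : T.q (0, 0, 1) ∈ Subgroup.normalizer (K : Set G)) {x : G} (hx : x ∈ T.Qg)
    (hxK : x ∈ K) (h1 : x ≠ 1) (ht : x ≠ T.φ tm) : T.Qg ≤ K := by
  obtain ⟨m, hm, rfl⟩ := hx
  rintro _ ⟨n, hn, rfl⟩
  obtain ⟨he, hg⟩ := Qm_mem_form hm
  obtain ⟨hne, hgn⟩ := Qm_mem_form hn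
  obtain ⟨i, j, hij⟩ := Qm_gen m.g hg (fun h => h1 (by rw [he, h]; exact T.φ.map_one))
    (fun h => ht (by rw [he, h])) n.g hgn
  rw [hne, hij, ← he, map_mul, map_pow, map_pow, map_mul, map_mul, map_inv]
  exact K.mul_mem (K.pow_mem hxK _) (K.pow_mem ((Subgroup.mem_normalizer_iff.1 hK _).1 hxK) _)

/-- The generators of the quaternion group. -/
theorem comm_Qg_of {g : G} (h0 : g * T.φ qm = T.φ qm * g) (h1 : g * T.φ (qe 1) = T.φ (qe 1) * g) {x : G}
    (hx : x ∈ T.Qg) : g * x = x * g := by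
  obtain ⟨m, hm, rfl⟩ := hx
  obtain ⟨he, hg⟩ := Qm_mem_form hm
  obtain ⟨i, j, hij⟩ := Qm_two 1 (by simp) m.g hg
  rw [he, hij, map_mul, map_pow, map_pow]
  exact (((show Commute g (T.φ qm) from h0).pow_right _).mul_right ((show Commute g (T.φ (qe 1)) from h1).pow_right _)).eq

namespace Signed

variable {T} (hS : T.Signed)
include hS

/-- The second quaternion subgroup. -/
noncomputable def Qr : Subgroup G := T.Qg.map (MulAut.conj hS.R).toMonoidHom

theorem mem_Qr {x : G} : x ∈ hS.Qr ↔ hS.R * x * hS.R ∈ T.Qg := by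
  constructor
  · rintro ⟨y, hy, rfl⟩
    show hS.R * (hS.R * y * hS.R⁻¹) * hS.R ∈ T.Qg
    rwa [hS.R_inv, ← mul_assoc, ← mul_assoc, hS.R_invol, one_mul, mul_assoc, hS.R_invol, mul_one]
  · intro h
    refine ⟨_, h, ?_⟩
    show hS.R * (hS.R * x * hS.R) * hS.R⁻¹ = x
    rw [hS.R_inv, ← mul_assoc, ← mul_assoc, hS.R_invol, one_mul, mul_assoc, hS.R_invol, mul_one]

theorem R_swap {x : G} (hx : x ∈ T.Qg) : hS.R * x * hS.R ∈ hS.Qr := hS.mem_Qr.2 (by
  rwa [← mul_assoc, ← mul_assoc, hS.R_invol, one_mul, mul_assoc, hS.R_invol, mul_one])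

/-- Elements of order prime to three of the plane's centralisers. -/
theorem cent_mem {x : G} {v : V3} (ht : x * T.φ tm = T.φ tm * x) (h3 : (orderOf x).Coprime 3)
    (hv : v = dia ∨ v = (1, 1, 2)) (h : x * T.q v = T.q v * x) :
    (v = dia → x ∈ T.Qg) ∧ (v = (1, 1, 2) → x ∈ hS.Qr) := by
  refine ⟨fun e => T.mem_Qg_of (by rwa [e, T.q_dia] at h) ht h3, fun e => hS.mem_Qr.2 ?_⟩
  have hinv : hS.R * x * hS.R = hS.R * x * hS.R⁻¹ := by rw [hS.R_inv]
  have hqa : hS.R * T.q v * hS.R⁻¹ = T.a := by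
    rw [hS.R_acts, e, ← fixed_basic.1, sgC_two, T.q_dia]
  rw [hinv]
  refine T.mem_Qg_of ?_ ?_ ?_
  · rw [← hqa, conj_mul, conj_mul, h]
  · have hRt : hS.R * T.φ tm * hS.R⁻¹ = T.φ tm := by rw [hS.R_inv, hS.R_phi_tm]
    calc hS.R * x * hS.R⁻¹ * T.φ tm = hS.R * x * hS.R⁻¹ * (hS.R * T.φ tm * hS.R⁻¹) := by rw [hRt]
      _ = hS.R * T.φ tm * hS.R⁻¹ * (hS.R * x * hS.R⁻¹) := by rw [conj_mul, conj_mul, ht]
      _ = _ := by rw [hRt]
  · rw [show orderOf (hS.R * x * hS.R⁻¹) = orderOf x from orderOf_injective (MulAut.conj hS.R).toMonoidHom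
      (MulEquiv.injective _) x]
    exact h3

/-- An element of such a subgroup normalising the elementary subgroup centralises the central element. -/
theorem comm_a_of_normal {K : Subgroup G} (hK : T.a ∈ Subgroup.normalizer (K : Set G)) (h3 : (Nat.card K).Coprime 3)
    {x : G} (hx : x ∈ K) (hN : x ∈ Subgroup.normalizer (T.J : Set G)) : x * T.a = T.a * x := by
  set c := x * T.a * x⁻¹ * T.a⁻¹ with hc
  have hcK : c ∈ K := by
    rw [hc, show x * T.a * x⁻¹ * T.a⁻¹ = x * (T.a * x⁻¹ * T.a⁻¹) by group]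
    exact K.mul_mem hx ((Subgroup.mem_normalizer_iff.1 hK _).1 (K.inv_mem hx))
  have hcJ : c ∈ T.J :=
    T.J.mul_mem ((Subgroup.mem_normalizer_iff.1 hN _).1 T.a_mem) (T.J.inv_mem T.a_mem)
  obtain ⟨u, hu⟩ := T.mem_J.1 hcJ
  have hd : orderOf c ∣ Nat.gcd (Nat.card K) 3 :=
    Nat.dvd_gcd (Subgroup.orderOf_dvd_natCard K hcK) (orderOf_dvd_iff_pow_eq_one.2 (by rw [← hu, T.q_cube]))
  rw [h3.gcd_eq_one, Nat.dvd_one, orderOf_eq_one_iff] at hd
  exact mul_inv_eq_iff_eq_mul.1 (mul_inv_eq_one.1 hd)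

/-- The generation of a subgroup of order prime to three normalised by the plane, centralising the involution. -/
theorem plane_gen {K : Subgroup G} (ht : K ≤ Subgroup.centralizer ({T.φ tm} : Set G))
    (h3 : (Nat.card K).Coprime 3) (hE : T.Eg ≤ Subgroup.normalizer (K : Set G))
    (hf : Subgroup.centralizer ({T.q (1, 1, 0)} : Set G) ≤ Subgroup.normalizer (T.J : Set G)) {B : Subgroup G} (hA : K ⊓ T.Qg ≤ B)
    (hB : K ⊓ hS.Qr ≤ B) (hC : K ⊓ Subgroup.centralizer ({T.q (0, 0, 1)} : Set G) ≤ B) : K ≤ B := by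
  haveI : Fact (Nat.Prime 3) := ⟨Nat.prime_three⟩
  haveI : IsMulCommutative T.Eg := ⟨⟨fun x y => Subtype.ext (T.J_comm x.2.1 y.2.1)⟩⟩
  let ι : {v : V3 // mT v = v} → T.Eg := fun v => ⟨T.q v.1, T.mem_Eg.2 ⟨v.1, v.2, rfl⟩⟩
  have hE9 : Nat.card T.Eg = 9 := by
    rw [← mT_fixed_nine]
    refine (Nat.card_eq_of_bijective ι ⟨fun v w h => Subtype.ext (T.q_inj (congrArg Subtype.val h)), fun x => ?_⟩).symm
    obtain ⟨v, hv, hvx⟩ := T.mem_Eg.1 x.2
    exact ⟨⟨v, hv⟩, Subtype.ext hvx⟩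
  have hcyc : ¬ IsCyclic T.Eg := fun h => by
    obtain ⟨g, hg⟩ := h.exists_generator
    have h1 := orderOf_eq_card_of_forall_mem_zpowers hg
    have h2 : orderOf g ∣ 3 := orderOf_dvd_iff_pow_eq_one.2 (Subtype.ext (by
      obtain ⟨v, -, hv⟩ := T.mem_Eg.1 g.2
      rw [SubgroupClass.coe_pow, ← hv, T.q_cube]
      rfl))
    rw [h1, hE9] at h2
    norm_num at h2
  rw [← Cfsg.Agent.S0058.result T.Eg K hcyc hE
    (by rw [hE9, show (9 : ℕ) = 3 ^ 2 from rfl]; exact h3.symm.pow_left 2)]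
  refine iSup₂_le fun y hy => ?_
  rintro x ⟨hxK, hxy⟩
  obtain ⟨v, hv, rfl⟩ := T.mem_Eg.1 hy.1
  have hxt := (Subgroup.mem_centralizer_singleton_iff.1 (ht hxK))
  have h3x : (orderOf x).Coprime 3 := h3.coprime_dvd_left (Subgroup.orderOf_dvd_natCard K hxK)
  have hc : x * T.q v = T.q v * x := Subgroup.mem_centralizer_singleton_iff.1 hxy
  have hneg : ∀ {u : V3}, x * T.q (-u) = T.q (-u) * x → x * T.q u = T.q u * x := fun {u} h => by
    have := (show Commute x (T.q (-u)) from h).inv_right.eq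
    rwa [← T.q_neg, neg_neg] at this
  have hQ : x ∈ T.Qg → x ∈ B := fun h => hA ⟨hxK, h⟩
  have hQ' : x ∈ hS.Qr → x ∈ B := fun h => hB ⟨hxK, h⟩
  rcases fixed_cases v hv (fun h => hy.2 (by rw [h, T.q_zero])) with
    rfl | rfl | rfl | rfl | rfl | rfl | rfl | rfl
  · exact hQ ((hS.cent_mem hxt h3x (Or.inl rfl) hc).1 rfl)
  · exact hQ ((hS.cent_mem hxt h3x (Or.inl rfl) (hneg hc)).1 rfl)
  · exact hQ' ((hS.cent_mem hxt h3x (Or.inr rfl) hc).2 rfl)
  · exact hQ' ((hS.cent_mem hxt h3x (Or.inr rfl) (hneg hc)).2 rfl)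
  · exact hC ⟨hxK, Subgroup.mem_centralizer_singleton_iff.2 hc⟩
  · exact hC ⟨hxK, Subgroup.mem_centralizer_singleton_iff.2 (hneg hc)⟩
  · exact hQ (T.mem_Qg_of (hS.comm_a_of_normal (hE T.a_mem_Eg) h3 hxK
      (hf (Subgroup.mem_centralizer_singleton_iff.2 hc))) hxt h3x)
  · exact hQ (T.mem_Qg_of (hS.comm_a_of_normal (hE T.a_mem_Eg) h3 hxK
      (hf (Subgroup.mem_centralizer_singleton_iff.2 (hneg hc)))) hxt h3x)

end Signed

end Conf

end Cfsg.Agent.Lie.PSpFourThreeFull
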