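import Cfsg.Agent.Lib.Lie.PSpFourThreeFull.AxisLabel
import Cfsg.Agent.Lib.Lie.PSpFourThreeFull.Quat

/-!
The involutions over the six points and their behaviour under the reflection.
-/

set_option autoImplicit false
set_option linter.unusedSectionVars false
set_option maxRecDepth 100000
set_option synthInstance.maxSize 4000
set_option synthInstance.maxHeartbeats 400000

namespace Cfsg.Agent.Lie.PSpFourThreeFull

open Cfsg.Agent.Lie.PSpFourThreeAmalgam
open Cfsg.Agent.Small.ShapeThree (M)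

namespace Conf.Signed.Label

variable {G : Type*} [Group G] [Finite G] {T : Conf G} {hS : T.Signed} (hL : hS.Label)
include hL

theorem π_one {x : T.centQ (0, 0, 1)} (h : hL.π x = 1) : ∃ a : ZMod 3, x = T.qc (a • (0, 0, 1)) := by
  have h1 : x ∈ hL.π.ker := h
  rw [hL.ker] at h1
  obtain ⟨a, ha⟩ := T.mem_lineQ.1 h1
  exact ⟨a, Subtype.ext ha⟩

theorem π_line (a : ZMod 3) : hL.π (T.qc (a • (0, 0, 1))) = 1 := by
  have h : T.qc (a • (0, 0, 1)) ∈ hL.π.ker := by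
    rw [hL.ker]
    exact T.mem_lineQ.2 ⟨a, rfl⟩
  exact h

theorem line_comm (a : ZMod 3) (x : T.centQ (0, 0, 1)) : Commute x (T.qc (a • (0, 0, 1))) :=
  Subtype.ext (by
    show (x : G) * T.q _ = T.q _ * (x : G)
    rw [T.q_smul]
    exact ((show Commute (x : G) (T.q (0, 0, 1)) from T.mem_centQ.1 x.2).pow_right _).eq)

theorem line_sq {a : ZMod 3} (h : T.qc (a • (0, 0, 1)) * T.qc (a • (0, 0, 1)) = 1) : T.qc (a • (0, 0, 1)) = 1 := by
  have h3 : T.q (a • (0, 0, 1)) ^ 3 = 1 := T.q_cube _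
  have h2 : T.q (a • (0, 0, 1)) * T.q (a • (0, 0, 1)) = 1 := congrArg Subtype.val h
  rw [pow_succ, pow_two, h2, one_mul] at h3
  exact Subtype.ext h3

/-- Two involutions with the same image are equal. -/
theorem lift_eq {x y : T.centQ (0, 0, 1)} (hx : x * x = 1) (hy : y * y = 1) (h : hL.π x = hL.π y) : x = y := by
  obtain ⟨a, ha⟩ := hL.π_one (x := y * x) (by rw [map_mul, h, ← map_mul, hy, map_one])
  have hxy : x = y * T.qc (a • (0, 0, 1)) := by rw [← ha, ← mul_assoc, hy, one_mul]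
  have h2 : T.qc (a • (0, 0, 1)) * T.qc (a • (0, 0, 1)) = 1 := by
    rw [← hx, hxy, (hL.line_comm a y).symm.mul_mul_mul_comm, hy, one_mul]
  rw [hxy, hL.line_sq h2, mul_one]

theorem exists_lift (σ : Axis.P6) : ∃ x : T.centQ (0, 0, 1), σ * σ = 1 → x * x = 1 ∧ hL.π x = σ := by
  obtain ⟨x, hx⟩ := hL.surj σ
  refine ⟨x * x * x, fun hσ => ?_⟩
  obtain ⟨a, ha⟩ := hL.π_one (x := x * x) (by rw [map_mul, hx, hσ])
  refine ⟨?_, by rw [map_mul, map_mul, hx, hσ, one_mul]⟩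
  calc x * x * x * (x * x * x) = x * x * (x * x) * (x * x) := by simp only [mul_assoc]
    _ = 1 := by
      rw [ha]
      exact Subtype.ext (by
        show T.q _ * T.q _ * T.q _ = 1
        rw [← T.q_cube (a • ((0, 0, 1) : V3)), pow_succ, pow_two])

/-- The involution over a permutation. -/
noncomputable def lift (σ : Axis.P6) : T.centQ (0, 0, 1) := (hL.exists_lift σ).choose

theorem lift_sq {σ : Axis.P6} (h : σ * σ = 1) : hL.lift σ * hL.lift σ = 1 := ((hL.exists_lift σ).choose_spec h).1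

theorem π_lift {σ : Axis.P6} (h : σ * σ = 1) : hL.π (hL.lift σ) = σ := ((hL.exists_lift σ).choose_spec h).2

theorem eq_lift {x : T.centQ (0, 0, 1)} {σ : Axis.P6} (hx : x * x = 1) (h : hL.π x = σ) : x = hL.lift σ := by
  have hσ : σ * σ = 1 := by rw [← h, ← map_mul, hx, map_one]
  exact hL.lift_eq hx (hL.lift_sq hσ) (by rw [h, hL.π_lift hσ])

theorem lift_one : hL.lift 1 = 1 := (hL.eq_lift (mul_one 1) (map_one _)).symm

theorem lift_tau : hL.lift Axis.tau = T.tc := (hL.eq_lift (tc_sq hS) hL.t).symm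

theorem lift_w1 : hL.lift Axis.w1 = hS.c1 := (hL.eq_lift hS.c1_sq hL.r1).symm

theorem lift_w2 : hL.lift Axis.w2 = hS.c2 := (hL.eq_lift hS.c2_sq hL.r2).symm

theorem lift_mul {σ σ' : Axis.P6} (h : σ * σ = 1) (h' : σ' * σ' = 1) (hc : σ * σ' = σ' * σ) :
    hL.lift (σ * σ') = hL.lift σ * hL.lift σ' ∧ Commute (hL.lift σ) (hL.lift σ') := by
  set x := hL.lift σ
  set y := hL.lift σ'
  have hx : x * x = 1 := hL.lift_sq h
  have hy : y * y = 1 := hL.lift_sq h'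
  obtain ⟨a, ha⟩ := hL.π_one (x := x * y * (x * y)) (by
    rw [map_mul, map_mul, hL.π_lift h, hL.π_lift h',
      (show Commute σ' σ from hc.symm).mul_mul_mul_comm, h, h', one_mul])
  set z := x * y * (x * y) with hz
  have hzc : Commute x z := by rw [ha]; exact hL.line_comm a x
  have hz' : x * z * x = z := by rw [hzc.eq, mul_assoc, hx, mul_one]
  have hinv : x * z * x = z⁻¹ := by
    rw [hz, eq_inv_iff_mul_eq_one]
    calc x * (x * y * (x * y)) * x * (x * y * (x * y)) = (x * x) * y * x * y * (x * x) * y * x * y := by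
          simp only [mul_assoc]
      _ = y * x * (y * y) * x * y := by rw [hx]; simp only [one_mul, mul_one, mul_assoc]
      _ = y * (x * x) * y := by rw [hy]; simp only [mul_one, mul_assoc]
      _ = 1 := by rw [hx, mul_one, hy]
  have hz2 : z * z = 1 := by
    have h1 : z = z⁻¹ := hz'.symm.trans hinv
    nth_rewrite 2 [h1]
    exact mul_inv_cancel z
  have hz1 : z = 1 := by rw [ha] at hz2 ⊢; exact hL.line_sq hz2
  refine ⟨(hL.eq_lift hz1 (by rw [map_mul, hL.π_lift h, hL.π_lift h'])).symm, ?_⟩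
  show x * y = y * x
  have h2 : x * y = (x * y)⁻¹ := eq_inv_of_mul_eq_one_left hz1
  rwa [mul_inv_rev, inv_eq_of_mul_eq_one_right hx, inv_eq_of_mul_eq_one_right hy] at h2

theorem lift_conj (g : T.centQ (0, 0, 1)) {σ : Axis.P6} (h : σ * σ = 1) :
    g * hL.lift σ * g⁻¹ = hL.lift (hL.π g * σ * (hL.π g)⁻¹) :=
  hL.eq_lift (by rw [conj_mul, hL.lift_sq h, mul_one, mul_inv_cancel])
    (by rw [map_mul, map_mul, map_inv, hL.π_lift h])

theorem π_qc (v : V3) : hL.π (T.qc v) = Axis.s1 ^ v.1.val * Axis.s2 ^ v.2.1.val := by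
  have hpow : ∀ (n : ℕ) (u : V3), T.qc (n • u) = T.qc u ^ n := by
    intro n u
    induction n with
    | zero => rw [zero_smul, pow_zero]; exact Subtype.ext T.q_zero
    | succ n ih => rw [succ_nsmul, T.qc_add, ih, pow_succ]
  conv_lhs => rw [eq_sum v]
  rw [T.qc_add, T.qc_add, map_mul, map_mul, hpow, hpow, hpow, map_pow, map_pow, map_pow, hL.e1, hL.e2]
  have : hL.π (T.qc (0, 0, 1)) = 1 := by simpa using hL.π_line 1
  rw [this, one_pow, mul_one]

/-- The elementary subgroup of order eight. -/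
def Og : Subgroup G where
  carrier := {x | ∃ σ, Axis.inO σ ∧ ((hL.lift σ : T.centQ (0, 0, 1)) : G) = x}
  one_mem' := ⟨1, Or.inl rfl, by rw [hL.lift_one]; rfl⟩
  mul_mem' := by
    rintro _ _ ⟨σ, hσ, rfl⟩ ⟨σ', hσ', rfl⟩
    obtain ⟨h1, h2⟩ := Axis.inO_mul σ hσ σ' hσ'
    exact ⟨σ * σ', h1, by rw [(hL.lift_mul (Axis.inO_sq σ hσ) (Axis.inO_sq σ' hσ') h2).1]; rfl⟩
  inv_mem' := by
    rintro _ ⟨σ, hσ, rfl⟩
    exact ⟨σ, hσ, (inv_eq_of_mul_eq_one_right (congrArg Subtype.val (hL.lift_sq (Axis.inO_sq σ hσ)))).symm⟩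

theorem mem_Og {x : G} : x ∈ hL.Og ↔ ∃ σ, Axis.inO σ ∧ ((hL.lift σ : T.centQ (0, 0, 1)) : G) = x := Iff.rfl

theorem Og_cent {x : G} (hx : x ∈ hL.Og) : x * T.q (0, 0, 1) = T.q (0, 0, 1) * x := by
  obtain ⟨σ, -, rfl⟩ := hx
  exact T.mem_centQ.1 (hL.lift σ).2

theorem tm_Og : T.φ tm ∈ hL.Og := ⟨Axis.tau, Or.inr (Or.inl rfl), by rw [hL.lift_tau]; rfl⟩

theorem Og_comm {x y : G} (hx : x ∈ hL.Og) (hy : y ∈ hL.Og) : x * y = y * x := by
  obtain ⟨σ, hσ, rfl⟩ := hx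
  obtain ⟨σ', hσ', rfl⟩ := hy
  exact congrArg Subtype.val
    (hL.lift_mul (Axis.inO_sq σ hσ) (Axis.inO_sq σ' hσ') (Axis.inO_mul σ hσ σ' hσ').2).2.eq

theorem Og_sq {x : G} (hx : x ∈ hL.Og) : x * x = 1 := by
  obtain ⟨σ, hσ, rfl⟩ := hx
  exact congrArg Subtype.val (hL.lift_sq (Axis.inO_sq σ hσ))

/-- The fixed plane normalises the elementary subgroup. -/
theorem Eg_Og {g : G} (hg : g ∈ T.Eg) {x : G} (hx : x ∈ hL.Og) : g * x * g⁻¹ ∈ hL.Og := by
  obtain ⟨v, hv, rfl⟩ := T.mem_Eg.1 hg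
  obtain ⟨σ, hσ, rfl⟩ := hx
  refine ⟨_, Axis.pow_inO ⟨v.1.val, ZMod.val_lt _⟩ σ hσ, ?_⟩
  have h1 : v.2.1 = v.1 := (by decide +kernel : ∀ v : V3, mT v = v → v.2.1 = v.1) v hv
  have h2 : hL.π (T.qc v) = (Axis.s1 * Axis.s2) ^ v.1.val := by
    rw [hL.π_qc, h1]
    exact ((show Commute Axis.s1 Axis.s2 from by unfold Commute SemiconjBy; decide +kernel).mul_pow _).symm
  rw [show T.q v = ((T.qc v : T.centQ (0, 0, 1)) : G) from rfl, ← Subgroup.coe_inv, ← Subgroup.coe_mul,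
    ← Subgroup.coe_mul, hL.lift_conj _ (Axis.inO_sq σ hσ), h2]

theorem R_cent {x : G} (hx : x ∈ T.centQ (0, 0, 1)) : hS.R * x * hS.R⁻¹ ∈ T.centQ (0, 0, 1) := by
  have h0 : hS.R * T.q (0, 0, 1) * hS.R⁻¹ = (T.q (0, 0, 1))⁻¹ := by
    rw [hS.R_acts, ← T.q_neg]
    exact congrArg T.q (by decide +kernel)
  have h1 : hS.R * x * hS.R⁻¹ * (T.q (0, 0, 1))⁻¹ = (T.q (0, 0, 1))⁻¹ * (hS.R * x * hS.R⁻¹) := by
    rw [← h0, conj_mul, conj_mul, T.mem_centQ.1 hx]
  exact T.mem_centQ.2 (by simpa using (show Commute _ _ from h1).inv_right.eq)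

/-- The reflection fixes the new transposition. -/
theorem R_rho : hS.R * (hL.lift Axis.rho : G) = (hL.lift Axis.rho : G) * hS.R := by
  let ι : T.centQ (0, 0, 1) →* T.centQ (0, 0, 1) :=
    MonoidHom.mk' (fun x => ⟨hS.R * x * hS.R⁻¹, hL.R_cent x.2⟩) fun x y => Subtype.ext (conj_mul.symm)
  have hι : ∀ x, (ι x : G) = hS.R * x * hS.R⁻¹ := fun x => rfl
  have hfix : ∀ x : T.centQ (0, 0, 1), hS.R * (x : G) = (x : G) * hS.R → ι x = x := fun x h =>
    Subtype.ext (by rw [hι, h, mul_inv_cancel_right])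
  have hker : ∀ x, hL.π x = 1 → hL.π (ι x) = 1 := by
    intro x hx
    obtain ⟨a, rfl⟩ := hL.π_one hx
    have : ι (T.qc (a • (0, 0, 1))) = T.qc ((-a) • (0, 0, 1)) := Subtype.ext (by
      show hS.R * T.q _ * hS.R⁻¹ = T.q _
      rw [hS.R_acts]
      exact congrArg T.q ((by decide +kernel : ∀ a : ZMod 3, sgC (a • ((0, 0, 1) : V3)) = (-a) • ((0, 0, 1) : V3)) a))
    rw [this, hL.π_line]
  have f1 : ι hS.c1 = hS.c1 := hfix _ hS.R_rotR.eq
  have f2 : ι hS.c2 = hS.c2 := hfix _ (by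
    have := hS.rot_comm (hS.rot_comm hS.R_rotR)
    rw [T.rot_three] at this
    exact this.symm.eq)
  have ft : ι T.tc = T.tc := hfix _ hS.R_tm
  have fb : ∀ v, sgC v = v → ι (T.qc v) = T.qc v := fun v hv => hfix _ ((Acts.comm_iff T hS.R_acts).2 hv)
  set ρ' := hL.lift Axis.rho
  obtain ⟨-, -, -, hsq, -⟩ := Axis.basic_sq
  have hr : hL.π ρ' = Axis.rho := hL.π_lift hsq
  obtain ⟨b1, b2, b3, -, b5, b6⟩ := Axis.rho_facts
  have hcomm : ∀ c, ι c = c → Axis.rho * hL.π c = hL.π c * Axis.rho → hL.π (ι ρ') * hL.π c = hL.π c * hL.π (ι ρ') := by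
    intro c hc h
    have h1 : hL.π (ρ' * c * ρ'⁻¹ * c⁻¹) = 1 := by simp only [map_mul, map_inv, hr, h]; group
    have h2 := hker _ h1
    simp only [map_mul, map_inv, hc] at h2
    exact mul_inv_eq_iff_eq_mul.1 (mul_inv_eq_one.1 h2)
  have hcube : ∀ c, ι c = c → (Axis.rho * hL.π c) * (Axis.rho * hL.π c) * (Axis.rho * hL.π c) = 1 →
      (hL.π (ι ρ') * hL.π c) * (hL.π (ι ρ') * hL.π c) * (hL.π (ι ρ') * hL.π c) = 1 := by
    intro c hc h
    have h2 := hker (ρ' * c * (ρ' * c) * (ρ' * c)) (by simp only [map_mul, hr, h])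
    simpa only [map_mul, hc] using h2
  have g1 : hL.π (T.qc (1, 0, 0) * hS.c1) = Equiv.swap 0 1 := by rw [map_mul, hL.e1, hL.r1, Axis.B_images.1]
  have g2 : hL.π (T.qc (0, 1, 0) * hS.c2) = Equiv.swap 3 4 := by rw [map_mul, hL.e2, hL.r2, Axis.B_images.2]
  have hf1 : ι (T.qc (1, 0, 0) * hS.c1) = T.qc (1, 0, 0) * hS.c1 := by rw [map_mul, f1, fb _ (by decide +kernel)]
  have hf2 : ι (T.qc (0, 1, 0) * hS.c2) = T.qc (0, 1, 0) * hS.c2 := by rw [map_mul, f2, fb _ (by decide +kernel)]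
  have hun := Axis.rho_unique (hL.π (ι ρ'))
    (by rw [← hL.r1]; exact hcomm _ f1 (by rw [hL.r1, b1]))
    (by rw [← hL.r2]; exact hcomm _ f2 (by rw [hL.r2, b2]))
    (by rw [← hL.t]; exact hcomm _ ft (by rw [hL.t, b3]))
    (by rw [← map_mul, ← map_mul, hL.lift_sq hsq, map_one, map_one])
    (by rw [← g1]; exact hcube _ hf1 (by rw [g1, b5]))
    (by rw [← g2]; exact hcube _ hf2 (by rw [g2, b6]))
  have heq : ι ρ' = ρ' := hL.eq_lift (by rw [← map_mul, hL.lift_sq hsq, map_one]) hun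
  exact mul_inv_eq_iff_eq_mul.1 (congrArg Subtype.val heq)

/-- The reflection centralises the elementary subgroup. -/
theorem R_Og {x : G} (hx : x ∈ hL.Og) : hS.R * x = x * hS.R := by
  have hf : ∀ σ, Axis.inO σ → hS.R * (hL.lift σ : G) = (hL.lift σ : G) * hS.R →
      hS.R * (hL.lift (Axis.s1 * Axis.s2 * σ * (Axis.s1 * Axis.s2)⁻¹) : G) =
        (hL.lift (Axis.s1 * Axis.s2 * σ * (Axis.s1 * Axis.s2)⁻¹) : G) * hS.R := by
    intro σ hσ h
    have hπ : hL.π (T.qc (1, 1, 0)) = Axis.s1 * Axis.s2 := by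
      rw [hL.π_qc]
      decide +kernel
    rw [← hπ, ← hL.lift_conj _ (Axis.inO_sq σ hσ)]
    have hq : Commute hS.R (T.q (1, 1, 0)) := (Acts.comm_iff T hS.R_acts).2 (by decide +kernel)
    exact ((hq.mul_right h).mul_right hq.inv_right).eq
  have h0 : Axis.inO (Equiv.swap 0 3) := Or.inr (Or.inr (Or.inl rfl))
  have r0 : hS.R * (hL.lift (Equiv.swap 0 3) : G) = (hL.lift (Equiv.swap 0 3) : G) * hS.R := hL.R_rho
  obtain ⟨c1, c2, -⟩ := Axis.eps_conj
  have r1 := hf _ h0 r0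
  rw [c1] at r1
  have r2 := hf _ (by rw [← c1]; exact Axis.eps_inO _ h0) r1
  rw [c2] at r2
  have hmul : ∀ σ σ', Axis.inO σ → Axis.inO σ' → hS.R * (hL.lift σ : G) = (hL.lift σ : G) * hS.R →
      hS.R * (hL.lift σ' : G) = (hL.lift σ' : G) * hS.R →
      hS.R * (hL.lift (σ * σ') : G) = (hL.lift (σ * σ') : G) * hS.R := fun σ σ' hσ hσ' h h' => by
    rw [(hL.lift_mul (Axis.inO_sq σ hσ) (Axis.inO_sq σ' hσ') (Axis.inO_mul σ hσ σ' hσ').2).1, Subgroup.coe_mul]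
    exact ((show Commute hS.R _ from h).mul_right h').eq
  obtain ⟨σ, hσ, rfl⟩ := hx
  rcases hσ with rfl | rfl | rfl | rfl | rfl | rfl | rfl | rfl
  · rw [hL.lift_one, Subgroup.coe_one, one_mul, mul_one]
  · rw [hL.lift_tau]; exact hS.R_tm
  · exact r0
  · exact r1
  · exact r2
  · exact hmul _ _ (by unfold Axis.inO; decide +kernel) (by unfold Axis.inO; decide +kernel) r0 r1
  · exact hmul _ _ (by unfold Axis.inO; decide +kernel) (by unfold Axis.inO; decide +kernel) r1 r2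
  · exact hmul _ _ (by unfold Axis.inO; decide +kernel) (by unfold Axis.inO; decide +kernel) r0 r2

end Conf.Signed.Label

end Cfsg.Agent.Lie.PSpFourThreeFull
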