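import Mathlib.GroupTheory.Transfer

/-!
The transfer of an involution fixing a single coset.
-/

set_option autoImplicit false
set_option linter.unusedSectionVars false
set_option linter.style.haveILetI false

namespace Cfsg.Agent.Lie.PSpFourThreeFull

open MulAction in
/-- The transfer of an involution of the subgroup that fixes only the base coset. -/
theorem transfer_single {G A : Type*} [Group G] [Finite G] [CommGroup A] {H : Subgroup G} (χ : H →* A) {r : G}
    (hr : r * r = 1) (hrH : r ∈ H) (hfix : ∀ g : G, g⁻¹ * r * g ∈ H → g ∈ H) :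
    MonoidHom.transfer χ r = χ ⟨r, hrH⟩ := by
  classical
  haveI := Fintype.ofFinite (G ⧸ H)
  haveI := Fintype.ofFinite (Quotient (orbitRel (Subgroup.zpowers r) (G ⧸ H)))
  rw [MonoidHom.transfer_eq_prod_quotient_orbitRel_zpowers_quot]
  set b : G ⧸ H := QuotientGroup.mk 1 with hb
  have hbfix : r • b = b := by
    show QuotientGroup.mk (r * 1) = b
    rw [mul_one, hb, QuotientGroup.eq, mul_one]
    exact H.inv_mem hrH
  have horb : ∀ c : G ⧸ H, r • c = c → c = b := by
    intro c hc
    induction c using QuotientGroup.induction_on with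
    | H g =>
      rw [hb, QuotientGroup.eq, mul_one]
      refine H.inv_mem (hfix g ?_)
      have h1 : (QuotientGroup.mk (r * g) : G ⧸ H) = QuotientGroup.mk g := hc
      rw [QuotientGroup.eq] at h1
      have h2 := H.inv_mem h1
      simpa [mul_assoc] using h2
  set q₀ : Quotient (orbitRel (Subgroup.zpowers r) (G ⧸ H)) := Quotient.mk _ b with hq₀
  have hout : q₀.out = b := by
    obtain ⟨⟨z, k, rfl⟩, hz⟩ := Quotient.mk_out (s := orbitRel (Subgroup.zpowers r) (G ⧸ H)) b
    rw [hq₀, ← hz]
    exact Subgroup.zpow_mem (stabilizer G b) hbfix k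
  rw [Finset.prod_eq_single q₀ ?_ (fun h => absurd (Finset.mem_univ q₀) h)]
  · have hm : Function.minimalPeriod (r • ·) q₀.out = 1 :=
      Function.minimalPeriod_eq_one_iff_isFixedPt.2 (by rw [hout]; exact hbfix)
    have hbo : q₀.out.out ∈ H := by
      have h1 : (QuotientGroup.mk q₀.out.out : G ⧸ H) = QuotientGroup.mk 1 := by
        rw [QuotientGroup.out_eq', hout]
      rw [QuotientGroup.eq, mul_one] at h1
      simpa using H.inv_mem h1
    have he : (⟨q₀.out.out⁻¹ * r ^ Function.minimalPeriod (r • ·) q₀.out * q₀.out.out,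
        QuotientGroup.out_conj_pow_minimalPeriod_mem H r q₀.out⟩ : H) =
          (⟨q₀.out.out, hbo⟩ : H)⁻¹ * ⟨r, hrH⟩ * ⟨q₀.out.out, hbo⟩ := Subtype.ext (by simp [hm])
    rw [he, map_mul, map_mul, map_inv, mul_comm ((χ ⟨q₀.out.out, hbo⟩)⁻¹), inv_mul_cancel_right]
  · intro q _ hq
    by_cases hc : r • q.out = q.out
    · exact absurd (by rw [hq₀, ← horb _ hc, Quotient.out_eq]) hq
    have h2 : Function.minimalPeriod (r • ·) q.out = 2 := by
      have hd : Function.minimalPeriod (r • ·) q.out ∣ 2 := by
        refine Function.IsPeriodicPt.minimalPeriod_dvd ?_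
        show (r • ·)^[2] q.out = q.out
        rw [Function.iterate_succ_apply, Function.iterate_one, ← mul_smul, hr, one_smul]
      exact ((Nat.dvd_prime Nat.prime_two).1 hd).resolve_left fun h =>
        hc (Function.minimalPeriod_eq_one_iff_isFixedPt.1 h)
    have he : (⟨q.out.out⁻¹ * r ^ Function.minimalPeriod (r • ·) q.out * q.out.out,
        QuotientGroup.out_conj_pow_minimalPeriod_mem H r q.out⟩ : H) = 1 := Subtype.ext (by
      show q.out.out⁻¹ * r ^ Function.minimalPeriod (r • ·) q.out * q.out.out = 1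
      rw [h2, pow_two, hr]
      group)
    rw [he, map_one]

end Cfsg.Agent.Lie.PSpFourThreeFull
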