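import Cfsg.Agent.Lib.Lie.PSpFourThreeFull.CaseAWeyl
import Cfsg.Agent.Lib.Lie.PSpFourThreeFull.PartOne
import Cfsg.Agent.Lib.Lie.PSpFourThreeFull.TransferFix
import Cfsg.Agent.S0814

/-!
An orbit of eight vectors with the axis centralisers in the normaliser gives the automorphism group.
-/

set_option autoImplicit false
set_option linter.unusedSectionVars false
set_option linter.style.haveILetI false
set_option maxRecDepth 100000
set_option synthInstance.maxSize 4000
set_option synthInstance.maxHeartbeats 400000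

namespace Cfsg.Agent.Lie.PSpFourThreeFull

open Cfsg.Agent.Lie.PSpFourThreeAmalgam
open Cfsg.Agent.Small.ShapeThree (M)

theorem high_refl : ∃ ω ∈ W6.refls, W6.model.img W6.high = W6.model.img ω := by decide +kernel

theorem pair_moves : sgC (mU (sgC (mU (mU dia)))) ≠ dia ∧
    (∀ v, sgC (mU (sgC (mU (mU v)))) = v → sgC (mU (mU (sgC (mU v)))) = v → v = 0) ∧
    ∀ v, sgC (mU (sgC (mU (mU (mU (mU (sgC (mU v)))))))) = -v := by decide +kernel

theorem mU_back : ∀ v, mU (mU (mU (mU v))) = mU v := by decide +kernel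

theorem cube_two : ∀ x : Multiplicative (ZMod 2), x * x * x = 1 → x = 1 := by decide +kernel

theorem two_facts : (∀ x : Multiplicative (ZMod 2), x ≠ 1 → x = Multiplicative.ofAdd 1) ∧
    Multiplicative.ofAdd (1 : ZMod 2) * Multiplicative.ofAdd (1 : ZMod 2) = 1 ∧
    Multiplicative.ofAdd (1 : ZMod 2) ≠ 1 := by decide +kernel

namespace Conf.Signed

variable {G : Type*} [Group G] [Finite G] {T : Conf G} (hS : T.Signed)
include hS

theorem rot_R_conj : T.rot hS.R = T.φ sm * hS.R * (T.φ sm)⁻¹ := T.rot_apply _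

theorem sm_mem (hc : hS.Comm) : T.φ sm ∈ (hS.psi hc).range := hS.range_le hc ⟨sm, rfl⟩

/-- The centraliser of the first node lies in the image. -/
theorem node_cent (hA : T.centQ (0, 0, 1) ≤ Subgroup.normalizer (T.J : Set G)) (hc : hS.Comm) :
    Subgroup.centralizer ({T.rot hS.R} : Set G) ≤ (hS.psi hc).range := by
  haveI := W6.finite
  set C₀ := Subgroup.centralizer ({W6.model.s 0} : Set W6G)
  have hC₀ : Nat.card C₀ = 1440 := by
    have h := C₀.card_mul_index
    rw [W6.index_centralizer, W6.card_eq] at h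
    omega
  have hnode : hS.psi hc (W6.model.s 0) = T.rot hS.R := hS.psi_simple hc 0
  have hle : C₀.map (hS.psi hc) ≤ Subgroup.centralizer ({T.rot hS.R} : Set G) := by
    rintro _ ⟨w, hw, rfl⟩
    rw [← hnode, Subgroup.mem_centralizer_singleton_iff, ← map_mul, ← map_mul,
      Subgroup.mem_centralizer_singleton_iff.1 hw]
  have hcard : Nat.card (Subgroup.centralizer ({T.rot hS.R} : Set G)) ≤ 1440 := by
    refine le_trans (le_of_eq ?_) (hS.card_cent_R hA)
    rw [← Subgroup.card_map_of_injective (K := Subgroup.centralizer ({hS.R} : Set G))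
      (f := (MulAut.conj (T.φ sm)).toMonoidHom) (MulEquiv.injective _)]
    congr 2
    ext y
    rw [Subgroup.mem_centralizer_singleton_iff, Subgroup.mem_map]
    constructor
    · intro hy
      refine ⟨(T.φ sm)⁻¹ * y * T.φ sm, Subgroup.mem_centralizer_singleton_iff.2 ?_,
        show T.φ sm * ((T.φ sm)⁻¹ * y * T.φ sm) * (T.φ sm)⁻¹ = y by group⟩
      rw [T.rot_apply] at hy
      calc (T.φ sm)⁻¹ * y * T.φ sm * hS.R = (T.φ sm)⁻¹ * (y * (T.φ sm * hS.R * (T.φ sm)⁻¹)) * T.φ sm := by group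
        _ = _ := by rw [hy]; group
    · rintro ⟨x, hx, rfl⟩
      show T.φ sm * x * (T.φ sm)⁻¹ * T.rot hS.R = T.rot hS.R * (T.φ sm * x * (T.φ sm)⁻¹)
      rw [T.rot_apply, conj_mul, conj_mul, Subgroup.mem_centralizer_singleton_iff.1 hx]
  have heq := Subgroup.eq_of_le_of_card_ge hle (by
    rw [Subgroup.card_map_of_injective (hS.psi_inj hc), hC₀]; exact hcard)
  rw [← heq]
  exact Subgroup.map_le_range _ _

/-- The reflection fixes a single coset of the image. -/
theorem node_fix (hA : T.centQ (0, 0, 1) ≤ Subgroup.normalizer (T.J : Set G)) (hc : hS.Comm) {g : G}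
    (hg : g⁻¹ * T.rot hS.R * g ∈ (hS.psi hc).range) : g ∈ (hS.psi hc).range := by
  haveI := W6.finite
  obtain ⟨w, hw⟩ := hg
  have hR0 : T.rot hS.R * T.rot hS.R = 1 := by rw [← map_mul, hS.R_invol, map_one]
  have hw2 : w * w = 1 := hS.psi_inj hc (by
    rw [map_mul, hw, map_one]
    calc g⁻¹ * T.rot hS.R * g * (g⁻¹ * T.rot hS.R * g) = g⁻¹ * (T.rot hS.R * T.rot hS.R) * g := by group
      _ = 1 := by rw [hR0]; group)
  have hw1 : w ≠ 1 := fun h => by
    rw [h, map_one] at hw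
    have : T.rot hS.R = 1 := by
      calc T.rot hS.R = g * (g⁻¹ * T.rot hS.R * g) * g⁻¹ := by group
        _ = 1 := by rw [← hw]; group
    rw [T.rot_apply] at this
    exact hS.R_ne (conj_eq_one_iff.1 this)
  obtain ⟨x, ω, hω, hx⟩ := W6.involution_conj hw2 hw1
  obtain ⟨k, rfl⟩ := W6.reps_cases ω hω
  have hconj : hS.psi hc x * g⁻¹ * T.rot hS.R * (hS.psi hc x * g⁻¹)⁻¹ = hS.wimg hc (W6.reps.getD k.val []) := by
    rw [wimg, ← hx, map_mul, map_mul, map_inv, hw]
    group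
  by_cases hk : k = 0
  · subst hk
    rw [show W6.reps.getD (0 : Fin 4).val [] = [0] from W6.reps_zero, hS.wimg_single hc] at hconj
    have hmem : hS.psi hc x * g⁻¹ ∈ (hS.psi hc).range :=
      hS.node_cent hA hc (Subgroup.mem_centralizer_singleton_iff.2 (mul_inv_eq_iff_eq_mul.1 hconj))
    have h3 := Subgroup.mul_mem _ (Subgroup.inv_mem _ hmem) (⟨x, rfl⟩ : hS.psi hc x ∈ (hS.psi hc).range)
    rwa [show (hS.psi hc x * g⁻¹)⁻¹ * hS.psi hc x = g by group] at h3
  exfalso
  obtain ⟨hv, hcomm⟩ := W6.rep_comm k hk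
  set c := (W6.repCert.getD k.val ([], 0)).1
  set v := (W6.repCert.getD k.val ([], 0)).2
  have hu := congrArg (hS.psi hc) (W6.model.pr_eq hcomm)
  change hS.wimg hc _ = hS.wimg hc _ at hu
  simp only [hS.wimg_append hc, hS.wimg_reverse hc, hS.wimg_qw hc, ← hconj] at hu
  set y := (hS.wimg hc c)⁻¹ * (hS.psi hc x * g⁻¹) * T.φ sm with hy
  have hyR : y * hS.R * y⁻¹ = (hS.wimg hc c)⁻¹ *
      (hS.psi hc x * g⁻¹ * T.rot hS.R * (hS.psi hc x * g⁻¹)⁻¹) * hS.wimg hc c := by
    rw [hy, T.rot_apply]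
    group
  obtain ⟨n, hn, hnR⟩ := hS.refl_conj hA hv (g := y) (by rw [hyR]; exact hu)
  obtain ⟨z, hz⟩ := hS.normalizer_le hc hn
  obtain ⟨ω₀, hω₀, hhigh⟩ := high_refl
  obtain ⟨ω', hω', hconj'⟩ := W6.model.conj_mem W6.closed (W6.model.pr c * z) ω₀ hω₀
  refine W6.rep_not_refl k hk ω' hω' (by
    by_contra hne
    refine hS.wimg_ne hc hne ?_
    rw [show hS.wimg hc ω' = hS.psi hc (W6.model.pr ω') from rfl, ← hconj', ← W6.model.pr_eq hhigh, map_mul, map_mul,
      map_inv, map_mul, hz, show hS.psi hc (W6.model.pr W6.high) = hS.R from hS.high_eq hc, mul_inv_rev]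
    rw [hyR] at hnR
    calc hS.wimg hc (W6.reps.getD k.val []) = hS.wimg hc c * ((hS.wimg hc c)⁻¹ *
          (hS.psi hc x * g⁻¹ * T.rot hS.R * (hS.psi hc x * g⁻¹)⁻¹) * hS.wimg hc c) * (hS.wimg hc c)⁻¹ := by
          rw [← hconj]; group
      _ = _ := by rw [hnR]; simp only [wimg]; group)

/-- The automorphism group case. -/
theorem case_A (hA : T.centQ (0, 0, 1) ≤ Subgroup.normalizer (T.J : Set G))
    (hR : Cfsg.IsExtraspecial 3 (Cfsg.pCore 3 T.φ.range))
    (F : Type*) [Field F] [Fintype F] (hF : Fintype.card F = 3) : Nonempty (G ≃* MulAut (Cfsg.PSp 2 F)) := by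
  classical
  haveI : Fact (Nat.Prime 3) := ⟨Nat.prime_three⟩
  have hc := hS.comm_A hA
  set H := (hS.psi hc).range with hH
  let χ : H →* Multiplicative (ZMod 2) :=
    (CoxeterMatrix.E₆.toCoxeterSystem.lengthParity).comp
      (MonoidHom.ofInjective (hS.psi_inj hc)).symm.toMonoidHom
  have hR0H : T.rot hS.R ∈ H := ⟨W6.model.s 0, hS.psi_simple hc 0⟩
  have hR0 : T.rot hS.R * T.rot hS.R = 1 := by rw [← map_mul, hS.R_invol, map_one]
  set V := MonoidHom.transfer χ with hV
  have hVR0 : V (T.rot hS.R) = Multiplicative.ofAdd 1 := by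
    rw [hV, transfer_single χ hR0 hR0H fun g hg => hS.node_fix hA hc hg]
    show CoxeterMatrix.E₆.toCoxeterSystem.lengthParity ((MonoidHom.ofInjective (hS.psi_inj hc)).symm ⟨_, hR0H⟩) = _
    rw [show (⟨T.rot hS.R, hR0H⟩ : H) = MonoidHom.ofInjective (hS.psi_inj hc) (W6.model.s 0) from
      Subtype.ext (hS.psi_simple hc 0).symm, MulEquiv.symm_apply_apply]
    exact CoxeterMatrix.E₆.toCoxeterSystem.lengthParity_simple 0
  have hVrot : ∀ x, V (T.rot x) = V x := fun x => by
    rw [T.rot_apply, map_mul, map_mul, map_inv, mul_comm (V (T.φ sm)), mul_inv_cancel_right]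
  have hVR : V hS.R = Multiplicative.ofAdd 1 := (hVrot _).symm.trans hVR0
  set G₀ := V.ker with hG₀
  have hrng : T.φ.range ≤ G₀ := by
    rintro _ ⟨m, rfl⟩
    obtain ⟨a, b, c, d, ea, eb, ec, ed, rfl⟩ := model_three_gen m
    have h3 : ∀ z : M, z * z * z = 1 → V (T.φ z) = 1 := fun z hz => cube_two _ (by
      rw [← map_mul, ← map_mul, ← map_mul, ← map_mul, hz, map_one, map_one])
    rw [MonoidHom.mem_ker, map_mul, map_mul, map_mul, map_mul, map_mul, map_mul, h3 a ea, h3 b eb, h3 c ec, h3 d ed]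
    simp
  have hJ₀ : T.J ≤ G₀ := fun x hx => hrng (T.cent_a.1 (T.J_comm hx T.a_mem))
  have hp1 : hS.R * T.rot hS.R ∈ G₀ := by
    rw [MonoidHom.mem_ker, map_mul, hVrot, hVR]
    exact two_facts.2.1
  have hp2 : hS.R * T.rot (T.rot hS.R) ∈ G₀ := by
    rw [MonoidHom.mem_ker, map_mul, hVrot, hVrot, hVR]
    exact two_facts.2.1
  have ha1 : T.Acts (hS.R * T.rot hS.R) fun v => sgC (mU (sgC (mU (mU v)))) :=
    Acts.mul T hS.R_acts (Acts.rot T hS.R_acts)
  have ha2 : T.Acts (hS.R * T.rot (T.rot hS.R)) fun v => sgC (mU (mU (sgC (mU v)))) := fun v => by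
    rw [Acts.mul T hS.R_acts (Acts.rot T (Acts.rot T hS.R_acts)) v]
    exact congrArg T.q (congrArg (fun z => sgC (mU (mU (sgC z)))) (mU_back v))
  -- the local data of the kernel
  let φ₀ : M →* G₀ := T.φ.codRestrict G₀ fun m => hrng ⟨m, rfl⟩
  have hφ₀ : ∀ m, ((φ₀ m : G₀) : G) = T.φ m := fun m => rfl
  have hrange₀ : φ₀.range = Subgroup.centralizer ({φ₀ M.c} : Set G₀) := by
    ext x
    rw [Subgroup.mem_centralizer_singleton_iff]
    constructor
    · rintro ⟨m, rfl⟩
      exact Subtype.ext (T.cent_a.2 ⟨m, rfl⟩)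
    · intro hx
      obtain ⟨m, hm⟩ := T.cent_a.1 (congrArg Subtype.val hx)
      exact ⟨m, Subtype.ext hm⟩
  let T₀ : Conf G₀ := ⟨φ₀, fun a b h => T.inj (congrArg Subtype.val h), hrange₀, fun K hK hJK => by
    rw [← Subgroup.map_eq_bot_iff_of_injective K G₀.subtype_injective]
    refine T.sig _ (by rwa [Subgroup.card_map_of_injective G₀.subtype_injective]) fun j hj => ?_
    obtain ⟨m, hm, rfl⟩ := hj
    exact Subgroup.le_normalizer_map G₀.subtype ⟨φ₀ m, hJK ⟨m, hm, rfl⟩, rfl⟩⟩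
  have hq₀ : ∀ v, ((T₀.q v : G₀) : G) = T.q v := fun v => rfl
  have hn₀ : ¬ ∃ g : G₀, g * T₀.a * g⁻¹ = T₀.a⁻¹ := by
    rintro ⟨g, hg⟩
    set x := hS.R * T.rot hS.R * T.rot (T.rot hS.R)
    have hx : T.Acts x fun v => -v := fun v => by
      rw [Acts.mul T ha1 (Acts.rot T (Acts.rot T hS.R_acts)) v]
      refine congrArg T.q ?_
      show sgC (mU (sgC (mU (mU (mU (mU (sgC (mU (mU (mU (mU v))))))))))) = -v
      rw [mU_back]
      exact pair_moves.2.2 v
    have hgx : (g : G) * x * T.a = T.a * ((g : G) * x) := by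
      have hg' : (g : G) * T.a * (g : G)⁻¹ = T.a⁻¹ := congrArg Subtype.val hg
      have h1 : (g : G) * (x * T.a * x⁻¹) * (g : G)⁻¹ = T.a := by
        rw [← T.q_dia, hx, T.q_neg, T.q_dia, ← conj_inv, hg', inv_inv]
      calc (g : G) * x * T.a = (g : G) * (x * T.a * x⁻¹) * (g : G)⁻¹ * ((g : G) * x) := by group
        _ = _ := by rw [h1]
    have h2 := hrng (T.cent_a.1 hgx)
    rw [MonoidHom.mem_ker, map_mul, (g.2 : V (g : G) = 1), one_mul, map_mul, map_mul, hVrot, hVrot, hVrot, hVR,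
      two_facts.2.1, one_mul] at h2
    exact two_facts.2.2 h2
  have h4 : T₀.wdata.orb.card = 4 := by
    rcases T₀.wdata.card_cases with ⟨-, h1 | h4⟩ | ⟨hneg, -⟩
    · exfalso
      have hN₀ : (⟨_, hp1⟩ : G₀) ∈ Subgroup.normalizer (T₀.J : Set G₀) :=
        Acts.mem_normalizer T₀ (f := fun v => sgC (mU (sgC (mU (mU v))))) fun v => Subtype.ext (ha1 v)
      have hm : sgC (mU (sgC (mU (mU dia)))) ∈ T₀.wdata.orb :=
        T₀.wdata.mem_orb.2 ⟨_, ⟨⟨_, hN₀⟩, rfl⟩, T₀.conjPerm_eq (Subtype.ext (ha1 dia))⟩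
      exact pair_moves.1 (Finset.card_le_one.1 h1.le _ hm dia T₀.wdata.dia_mem)
    · exact h4
    · exact absurd (T₀.neg_mem_orb_iff.1 hneg) hn₀
  have hR₀ : Cfsg.IsExtraspecial 3 (Cfsg.pCore 3 T₀.φ.range) := by
    let e : T.φ.range ≃* T₀.φ.range :=
      (MonoidHom.ofInjective T.inj).symm.trans (MonoidHom.ofInjective T₀.inj)
    exact extraspecial_equiv ((((Cfsg.pCore 3 T.φ.range).equivMapOfInjective e.toMonoidHom e.injective)).trans
      (MulEquiv.subgroupCongr (Cfsg.Agent.Fusion.map_pCore_equiv e))) hR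
  obtain ⟨e₀⟩ := T₀.psp_of_four hn₀ h4 hR₀ F hF
  -- the group embeds in the automorphisms of the kernel
  let ρ : G →* MulAut G₀ := MulAut.conjNormal
  have hinj : Function.Injective ρ := by
    rw [injective_iff_map_eq_one]
    intro g hg
    have hcen : ∀ y : G, y ∈ G₀ → g * y = y * g := fun y hy => by
      have h1 := congrArg (fun f : MulAut G₀ => ((f ⟨y, hy⟩ : G₀) : G)) hg
      simp only [ρ, MulAut.conjNormal_apply, MulAut.one_apply] at h1
      exact mul_inv_eq_iff_eq_mul.1 h1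
    obtain ⟨v, rfl⟩ := T.mem_J.1 (T.cent_J fun y hy => hcen y (hJ₀ hy))
    have hv : v = 0 := pair_moves.2.1 v ((Acts.comm_iff T ha1).1 (hcen _ hp1).symm)
      ((Acts.comm_iff T ha2).1 (hcen _ hp2).symm)
    rw [hv, T.q_zero]
  have hidx : G₀.index = 2 := by
    have hne : G₀.index ≠ 1 := fun h => by
      have h2 : hS.R ∈ G₀ := by rw [Subgroup.index_eq_one.1 h]; exact Subgroup.mem_top _
      rw [MonoidHom.mem_ker, hVR] at h2
      exact two_facts.2.2 h2
    have hle : G₀.index ≤ 2 := by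
      rw [hG₀, Subgroup.index_ker]
      refine (Nat.card_le_card_of_injective _ Subtype.val_injective).trans (le_of_eq ?_)
      rw [Nat.card_congr Multiplicative.toAdd, Nat.card_zmod]
    have := G₀.index_ne_zero_of_finite
    omega
  have hcard : Nat.card G = Nat.card (MulAut G₀) := by
    rw [Nat.card_congr (MulAut.congr e₀).toEquiv,
      Cfsg.Agent.S0814.result (F := F) 3 1 le_rfl (by rw [hF]; rfl) 2 le_rfl (fun _ => by norm_num),
      ← Nat.card_congr e₀.toEquiv, ← G₀.card_mul_index, hidx]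
    norm_num
    ring
  haveI : Finite (MulAut G₀) := inferInstance
  exact ⟨(MulEquiv.ofBijective ρ ((Nat.bijective_iff_injective_and_card _).2 ⟨hinj, hcard⟩)).trans (MulAut.congr e₀)⟩

end Conf.Signed

end Cfsg.Agent.Lie.PSpFourThreeFull
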