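import Cfsg.Agent.Lib.Lie.PSpFourThreeFull.QuatCent

/-!
Either the two quaternion subgroups commute or a further subgroup centralises the first one.
-/

set_option autoImplicit false
set_option linter.unusedSectionVars false
set_option linter.style.haveILetI false
set_option maxRecDepth 100000
set_option synthInstance.maxSize 4000
set_option synthInstance.maxHeartbeats 400000

namespace Cfsg.Agent.Lie.PSpFourThreeFull

open Cfsg.Agent.Lie.PSpFourThreeAmalgam
open Cfsg.Agent.Small.ShapeThree (M omega S)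

theorem Qm_center : ∀ g : S, g * g * (g * g) = 1 → (⟨0, 0, g⟩ : M) * qm = qm * ⟨0, 0, g⟩ →
    (⟨0, 0, g⟩ : M) * qe 1 = qe 1 * ⟨0, 0, g⟩ → (⟨0, 0, g⟩ : M) = 1 ∨ (⟨0, 0, g⟩ : M) = tm := by decide +kernel

theorem Qm_card : Nat.card Qm = 8 := by
  rw [Nat.card_congr (show Qm ≃ {g : S // g * g * (g * g) = 1} from
    ⟨fun m => ⟨m.1.g, m.2.2.2⟩, fun g => ⟨⟨0, 0, g.1⟩, rfl, rfl, g.2⟩,
      fun m => Subtype.ext (Qm_mem_form m.2).1.symm, fun _ => rfl⟩), Nat.card_eq_fintype_card]
  decide +kernel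

theorem sq_root : ∀ g : S, (g * g * (g * g) = 1 ∧ (⟨0, 0, g⟩ : M) * ⟨0, 0, g⟩ ≠ tm) →
    (⟨0, 0, g⟩ : M) = 1 ∨ (⟨0, 0, g⟩ : M) = tm := by decide +kernel

theorem quat_noncomm : qm.g * (qe 1).g ≠ (qe 1).g * qm.g := by decide +kernel

theorem fixed_axis : mT (0, 0, -1) = ((0, 0, -1) : V3) := by decide +kernel

theorem five_maps_ne : ∀ i j : Fin 5, i ≠ j → ∃ v : V3,
    (![id, mT, sgC, fun v => -v, fun v => sgC (-v)] : Fin 5 → V3 → V3) i v ≠
      (![id, mT, sgC, fun v => -v, fun v => sgC (-v)] : Fin 5 → V3 → V3) j v := by decide +kernel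

/-- A set of five commuting involutions and the identity does not fit into such a group. -/
theorem five_fit {G : Type*} [Group G] {X : Type*} [Fintype X] (Q : Subgroup G) {z t : G} (f : X → G)
    (hf : Function.Injective f) (hsq : ∀ i, f i * f i = 1) (hcomm : ∀ i j, f i * f j = f j * f i)
    (hP : ∀ i, f i ∈ Q ∨ f i * z ∈ Q) (hz : ∀ q ∈ Q, z * q * z⁻¹ ∈ Q) (hz2 : z * z = 1)
    (hQ : ∀ q ∈ Q, q * q = 1 → q = 1 ∨ q = t) : Fintype.card X ≤ 4 := by
  classical
  by_cases hall : ∀ i, f i ∈ Q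
  · have : Finset.univ.image f ⊆ ({1, t} : Finset G) := fun x hx => by
      obtain ⟨i, -, rfl⟩ := Finset.mem_image.1 hx
      rcases hQ _ (hall i) (hsq i) with h | h <;> rw [h] <;> simp
    have h := (Finset.card_le_card this).trans Finset.card_le_two
    rw [Finset.card_image_of_injective _ hf, Finset.card_univ] at h
    omega
  · push Not at hall
    obtain ⟨o, ho⟩ := hall
    have : Finset.univ.image f ⊆ ({1, t} : Finset G) ∪ {f o, f o * t} := fun x hx => by
      obtain ⟨i, -, rfl⟩ := Finset.mem_image.1 hx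
      by_cases hi : f i ∈ Q
      · rcases hQ _ hi (hsq i) with h | h <;> rw [h] <;> simp
      · have h1 := (hP i).resolve_left hi
        have h2 := (hP o).resolve_left ho
        have h3 : f o * f i ∈ Q := by
          have h4 := hz _ h1
          rw [show f o * f i = f o * z * (z * (f i * z) * z⁻¹) by
            calc f o * f i = f o * (z * z) * f i := by rw [hz2, mul_one]
              _ = _ := by group]
          exact Q.mul_mem h2 h4
        have h5 : f o * f i * (f o * f i) = 1 := by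
          rw [(show Commute (f i) (f o) from hcomm i o).mul_mul_mul_comm, hsq, hsq, one_mul]
        have h6 : f i = f o * (f o * f i) := by rw [← mul_assoc, hsq, one_mul]
        rcases hQ _ h3 h5 with h | h <;> rw [h6, h] <;> simp
    have h := (Finset.card_le_card this).trans ((Finset.card_union_le _ _).trans
      (Nat.add_le_add Finset.card_le_two Finset.card_le_two))
    rw [Finset.card_image_of_injective _ hf, Finset.card_univ] at h
    omega

namespace Conf

variable {G : Type*} [Group G] [Finite G] (T : Conf G)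

theorem Qg_invol {q : G} (hq : q ∈ T.Qg) (h : q * q = 1) : q = 1 ∨ q = T.φ tm := by
  obtain ⟨m, hm, rfl⟩ := hq
  obtain ⟨he, hg⟩ := Qm_mem_form hm
  rcases sq_root m.g ⟨hg, fun e => qe_moved.2.2.1 (T.inj (by
      rw [← e, ← he, map_mul, h, map_one]))⟩ with e | e <;> rw [← he] at e <;> subst e
  · exact Or.inl T.φ.map_one
  · exact Or.inr rfl

theorem card_Qg : Nat.card T.Qg = 8 := by rw [Qg, Subgroup.card_map_of_injective T.inj, Qm_card]

theorem aut_Qg : Nat.card (MulAut T.Qg) ≤ 24 := by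
  classical
  rw [← aut_pairs, ← Fintype.card_coe, ← Nat.card_eq_fintype_card]
  have hpre : ∀ x : T.Qg, ∃ m : M, m ∈ Qm ∧ T.φ m = x := fun x => x.2
  choose pre hpre1 hpre2 using hpre
  let qa : T.Qg := ⟨_, T.qm_mem⟩
  let qb : T.Qg := ⟨_, T.qe_mem 1⟩
  have hne : ∀ α : MulAut T.Qg, (pre (α qa)).g * (pre (α qb)).g ≠ (pre (α qb)).g * (pre (α qa)).g := by
    intro α h
    have h1 : α qa * α qb = α qb * α qa := Subtype.ext (by
      rw [Subgroup.coe_mul, Subgroup.coe_mul, ← hpre2, ← hpre2, ← map_mul, ← map_mul]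
      congr 1
      rw [(Qm_mem_form (Qm.mul_mem (hpre1 (α qa)) (hpre1 (α qb)))).1,
        (Qm_mem_form (Qm.mul_mem (hpre1 (α qb)) (hpre1 (α qa)))).1, M.mul_g, M.mul_g, h])
    rw [← map_mul, ← map_mul] at h1
    have h2 := congrArg Subtype.val (α.injective h1)
    simp only [Subgroup.coe_mul, qa, qb, ← map_mul] at h2
    exact quat_noncomm (by rw [← M.mul_g, ← M.mul_g, T.inj h2])
  refine Nat.card_le_card_of_injective (fun α => (⟨((pre (α qa)).g, (pre (α qb)).g),
    Finset.mem_filter.2 ⟨Finset.mem_univ _, (Qm_mem_form (hpre1 _)).2, (Qm_mem_form (hpre1 _)).2, hne α⟩⟩ :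
      {p : SL23 × SL23 // p ∈ Finset.univ.filter fun p : SL23 × SL23 => p.1 * p.1 * (p.1 * p.1) = 1 ∧
        p.2 * p.2 * (p.2 * p.2) = 1 ∧ p.1 * p.2 ≠ p.2 * p.1})) fun α β h => ?_
  simp only [Subtype.mk.injEq, Prod.mk.injEq] at h
  have ha : α qa = β qa := Subtype.ext (by
    rw [← hpre2, ← hpre2, (Qm_mem_form (hpre1 (α qa))).1, (Qm_mem_form (hpre1 (β qa))).1, h.1])
  have hb : α qb = β qb := Subtype.ext (by
    rw [← hpre2, ← hpre2, (Qm_mem_form (hpre1 (α qb))).1, (Qm_mem_form (hpre1 (β qb))).1, h.2])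
  ext x
  obtain ⟨m, hm, hmx⟩ := x.2
  obtain ⟨he, hg⟩ := Qm_mem_form hm
  obtain ⟨i, j, hij⟩ := Qm_two 1 (by simp) m.g hg
  have hx : x = qa ^ i.1 * qb ^ j.1 := Subtype.ext (by
    rw [← hmx, he, hij, map_mul, map_pow, map_pow]
    rfl)
  rw [hx, map_mul, map_mul, map_pow, map_pow, map_pow, map_pow, ha, hb]

namespace Signed

variable {T} (hS : T.Signed)
include hS

/-- The semidihedral group. -/
noncomputable def semi : Subgroup G where
  carrier := {x | x ∈ T.Qg ∨ x * hS.Z ∈ T.Qg}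
  one_mem' := Or.inl T.Qg.one_mem
  mul_mem' := by
    rintro x y (hx | hx) (hy | hy)
    · exact Or.inl (T.Qg.mul_mem hx hy)
    · exact Or.inr (by rw [mul_assoc]; exact T.Qg.mul_mem hx hy)
    · refine Or.inr ?_
      rw [show x * y * hS.Z = x * hS.Z * (hS.Z * y * hS.Z⁻¹) by
        rw [hS.Z_inv]
        calc x * y * hS.Z = x * (hS.Z * hS.Z) * y * hS.Z := by rw [hS.Z_invol, mul_one]
          _ = _ := by group]
      exact T.Qg.mul_mem hx (hS.Z_Qg hy)
    · refine Or.inl ?_
      rw [show x * y = x * hS.Z * (hS.Z * (y * hS.Z) * hS.Z⁻¹) by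
        calc x * y = x * (hS.Z * hS.Z) * y := by rw [hS.Z_invol, mul_one]
          _ = _ := by group]
      exact T.Qg.mul_mem hx (hS.Z_Qg hy)
  inv_mem' := by
    rintro x (hx | hx)
    · exact Or.inl (T.Qg.inv_mem hx)
    · refine Or.inr ?_
      rw [show x⁻¹ * hS.Z = hS.Z * (x * hS.Z)⁻¹ * hS.Z⁻¹ by
        rw [mul_inv_rev, hS.Z_inv, ← mul_assoc, hS.Z_invol, one_mul]]
      exact hS.Z_Qg (T.Qg.inv_mem hx)

theorem mem_semi {x : G} : x ∈ hS.semi ↔ x ∈ T.Qg ∨ x * hS.Z ∈ T.Qg := Iff.rfl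

theorem semi_t {x : G} (hx : x ∈ hS.semi) : x * T.φ tm = T.φ tm * x := by
  rcases hS.mem_semi.1 hx with h | h
  · exact T.Qg_comm_t h
  · have h1 : x = x * hS.Z * hS.Z := by rw [mul_assoc, hS.Z_invol, mul_one]
    rw [h1]
    exact ((show Commute (x * hS.Z) (T.φ tm) from T.Qg_comm_t h).mul_left
      (show Commute hS.Z (T.φ tm) from hS.Z_tm)).eq

theorem Z_not_Qg : hS.Z ∉ T.Qg := fun h => T.a_ne (by
  have h1 := T.Qg_comm_a h
  have h2 : hS.Z * T.a * hS.Z⁻¹ = T.a := by rw [h1, mul_inv_cancel_right]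
  rw [hS.Z_a] at h2
  have h3 : T.a * T.a = 1 := by
    calc T.a * T.a = T.a * T.a⁻¹ := by rw [h2]
      _ = 1 := mul_inv_cancel _
  have h4 := T.a_cube
  rwa [pow_succ, pow_two, h3, one_mul] at h4)

theorem semi_pgroup : IsPGroup 2 hS.semi := fun x => ⟨4, Subtype.ext (by
  rw [SubgroupClass.coe_pow]
  rcases hS.mem_semi.1 x.2 with h | h
  · rw [show 2 ^ 4 = 8 * 2 from rfl, pow_mul, T.Qg_pow_eight h, one_pow]
    rfl
  · have h1 : (x : G) = (x : G) * hS.Z * hS.Z := by rw [mul_assoc, hS.Z_invol, mul_one]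
    have h2 : (x : G) ^ 2 ∈ T.Qg := by
      rw [pow_two, show (x : G) * (x : G) = (x : G) * hS.Z * (hS.Z * ((x : G) * hS.Z) * hS.Z⁻¹) by
        calc (x : G) * (x : G) = (x : G) * (hS.Z * hS.Z) * (x : G) := by rw [hS.Z_invol, mul_one]
          _ = _ := by group]
      exact T.Qg.mul_mem h (hS.Z_Qg h)
    rw [show 2 ^ 4 = 2 * 8 from rfl, pow_mul, T.Qg_pow_eight h2]
    rfl)⟩

theorem semi_card : 16 ≤ Nat.card hS.semi := by
  rw [show 16 = Nat.card (T.Qg × Bool) by rw [Nat.card_prod, T.card_Qg, Nat.card_eq_fintype_card, Fintype.card_bool]]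
  refine Nat.card_le_card_of_injective (fun p => (⟨if p.2 then (p.1 : G) * hS.Z else p.1, hS.mem_semi.2 (by
    split
    · exact Or.inr (by rw [mul_assoc, hS.Z_invol, mul_one]; exact p.1.2)
    · exact Or.inl p.1.2)⟩ : hS.semi)) ?_
  rintro ⟨x, a⟩ ⟨y, b⟩ h
  have h1 := congrArg Subtype.val h
  simp only at h1
  cases a <;> cases b <;> simp only [Bool.false_eq_true, if_false, if_true] at h1
  · rw [Subtype.ext h1]
  · exact absurd (by
      have := T.Qg.mul_mem (T.Qg.inv_mem y.2) x.2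
      rwa [h1, inv_mul_cancel_left] at this) hS.Z_not_Qg
  · exact absurd (by
      have := T.Qg.mul_mem (T.Qg.inv_mem x.2) y.2
      rwa [← h1, inv_mul_cancel_left] at this) hS.Z_not_Qg
  · rw [Subtype.ext (mul_right_cancel h1)]

/-- The contradiction from a small centraliser of the quaternion subgroup. -/
theorem small_false (hsmall : Nat.card (Subgroup.centralizer (T.Qg : Set G)) ∣ 6) : False := by
  classical
  haveI : Fact (Nat.Prime 2) := ⟨Nat.prime_two⟩
  set X := Subgroup.centralizer ({T.φ tm} : Set G)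
  set N := Subgroup.normalizer (T.Qg : Set G) with hN
  have hQ2 : ∀ S : Subgroup G, S ≤ N → IsPGroup 2 S → Nat.card S ≤ 16 := by
    intro S hS' hS2
    let f : N →* MulAut T.Qg := Subgroup.normalizerMonoidHom T.Qg
    let g : S →* MulAut T.Qg := f.comp (Subgroup.inclusion hS')
    have hker : f.ker = (Subgroup.centralizer (T.Qg : Set G)).subgroupOf N :=
      Subgroup.normalizerMonoidHom_ker T.Qg
    have hk2 : Nat.card g.ker ≤ 2 := by
      obtain ⟨k, hk⟩ := IsPGroup.iff_card.1 (hS2.to_subgroup g.ker)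
      have hle : g.ker.map S.subtype ≤ Subgroup.centralizer (T.Qg : Set G) := by
        rintro _ ⟨x, hx, rfl⟩
        have : Subgroup.inclusion hS' x ∈ f.ker := hx
        rw [hker] at this
        exact Subgroup.mem_subgroupOf.1 this
      have hd := (Subgroup.card_dvd_of_le hle).trans hsmall
      rw [Subgroup.card_map_of_injective S.subtype_injective, hk] at hd
      have hk1 : k ≤ 1 := by
        by_contra h
        have := (pow_dvd_pow 2 (by omega : 2 ≤ k)).trans hd
        norm_num at this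
      calc _ = 2 ^ k := hk
        _ ≤ 2 ^ 1 := Nat.pow_le_pow_right (by norm_num) hk1
    have hgr : g.range = ((⊤ : Subgroup S).map (Subgroup.inclusion hS')).map f := by
      rw [Subgroup.map_map, ← MonoidHom.range_eq_map]
    have he3 : T.q (0, 0, 1) ∈ N := by
      rw [hN, Subgroup.mem_normalizer_iff_map_conj_eq]
      refine Subgroup.eq_of_le_of_card_ge ?_ (Subgroup.card_map_of_injective (MulEquiv.injective _)).ge
      rintro _ ⟨x, hx, rfl⟩
      refine T.map_Qg (Or.inl ?_) ((Acts.comm_iff T T.tm_acts).2 fixed_basic.2.1).symm hx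
      rw [← T.q_dia, T.q_comm, mul_inv_cancel_right]
    have hrng : Nat.card g.range * 3 ∣ Nat.card f.range := by
      refine Nat.Coprime.mul_dvd_of_dvd_of_dvd ?_ (Subgroup.card_dvd_of_le ?_) ?_
      · obtain ⟨i, hi⟩ := IsPGroup.iff_card.1 (show IsPGroup 2 g.range from hgr ▸ ((hS2.to_subgroup ⊤).map _).map f)
        rw [hi]
        exact Nat.Coprime.pow_left _ (by norm_num)
      · rw [MonoidHom.range_comp]
        exact Subgroup.map_le_range _ _
      · have h3 : orderOf (f ⟨_, he3⟩) = 3 := by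
          haveI : Fact (Nat.Prime 3) := ⟨Nat.prime_three⟩
          refine orderOf_eq_prime ?_ ?_
          · rw [← map_pow, show (⟨_, he3⟩ : N) ^ 3 = 1 from Subtype.ext (T.q_cube _), map_one]
          · intro h
            have h1 : (⟨_, he3⟩ : N) ∈ f.ker := h
            rw [hker, Subgroup.mem_subgroupOf, Subgroup.mem_centralizer_iff] at h1
            have h2 := h1 _ T.qm_mem
            refine qe_moved.1 (T.inj ?_)
            rw [← qe_moved.2.2.2, map_mul, map_mul, map_inv]
            show T.q (0, 0, 1) * T.φ qm * (T.q (0, 0, 1))⁻¹ = _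
            rw [← h2, mul_inv_cancel_right]
        rw [← h3]
        exact Subgroup.orderOf_dvd_natCard _ (MonoidHom.mem_range.2 ⟨_, rfl⟩)
    have hle24 : Nat.card f.range ≤ 24 :=
      (Nat.card_le_card_of_injective _ Subtype.val_injective).trans T.aut_Qg
    have h8 : Nat.card g.range ≤ 8 := by
      have := Nat.le_of_dvd Nat.card_pos hrng
      omega
    have := g.ker.card_mul_index
    rw [Subgroup.index_ker] at this
    have h16 := Nat.mul_le_mul hk2 h8
    omega
  -- the semidihedral group is a Sylow subgroup of the centraliser of the involution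
  have hsX : hS.semi ≤ X := fun x hx => Subgroup.mem_centralizer_singleton_iff.2 (hS.semi_t hx)
  obtain ⟨P, hP⟩ := (hS.semi_pgroup.of_injective ((Subgroup.subgroupOfEquivOfLe hsX).toMonoidHom)
    (MulEquiv.injective _) : IsPGroup 2 (hS.semi.subgroupOf X)).exists_le_sylow
  have hPe : (P : Subgroup X) = hS.semi.subgroupOf X := by
    by_contra hne
    haveI : Group.IsNilpotent (P : Subgroup X) := P.2.isNilpotent
    have hlt : (hS.semi.subgroupOf X).subgroupOf P < ⊤ := lt_top_iff_ne_top.2 fun e =>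
      hne (le_antisymm (Subgroup.subgroupOf_eq_top.1 e) hP)
    obtain ⟨x, hxN, hxS⟩ := SetLike.exists_of_lt (Group.normalizerCondition_of_isNilpotent _ hlt)
    have hconj : ∀ y ∈ hS.semi, (((x : X) : G)) * y * ((x : X) : G)⁻¹ ∈ hS.semi := fun y hy =>
      Subgroup.mem_subgroupOf.1 ((Subgroup.mem_normalizer_iff.1 hxN
        ⟨⟨y, hsX hy⟩, hP (Subgroup.mem_subgroupOf.2 hy)⟩).1 (Subgroup.mem_subgroupOf.2 hy))
    have hxN' : ((x : X) : G) ∈ N := by
      rw [hN, Subgroup.mem_normalizer_iff_map_conj_eq]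
      refine Subgroup.eq_of_le_of_card_ge ?_ (Subgroup.card_map_of_injective (MulEquiv.injective _)).ge
      rintro _ ⟨q, hq, rfl⟩
      show ((x : X) : G) * q * ((x : X) : G)⁻¹ ∈ T.Qg
      have hxt : ((x : X) : G) * T.φ tm * ((x : X) : G)⁻¹ = T.φ tm := by
        rw [Subgroup.mem_centralizer_singleton_iff.1 (x : X).2, mul_inv_cancel_right]
      obtain ⟨m, hm, rfl⟩ := hq
      obtain ⟨he, hg⟩ := Qm_mem_form hm
      by_cases hsq : m * m = tm
      · refine (hS.mem_semi.1 (hconj _ (hS.mem_semi.2 (Or.inl ⟨m, hm, rfl⟩)))).resolve_right fun h => ?_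
        refine hS.Z_out h ?_
        rw [mul_assoc _ hS.Z hS.Z, hS.Z_invol, mul_one, conj_mul, ← map_mul, hsq, hxt]
      · rcases sq_root m.g ⟨hg, by rwa [← he]⟩ with e | e <;> rw [← he] at e <;> subst e
        · simp only [map_one, mul_one, mul_inv_cancel]
          exact T.Qg.one_mem
        · rw [hxt]
          exact T.tm_mem_Qg
    have hsub : hS.semi ≤ N := by
      intro y hy
      rw [hN, Subgroup.mem_normalizer_iff_map_conj_eq]
      refine Subgroup.eq_of_le_of_card_ge ?_ (Subgroup.card_map_of_injective (MulEquiv.injective _)).ge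
      rintro _ ⟨q, hq, rfl⟩
      show y * q * y⁻¹ ∈ T.Qg
      rcases hS.mem_semi.1 hy with h | h
      · exact T.Qg.mul_mem (T.Qg.mul_mem h hq) (T.Qg.inv_mem h)
      · rw [show y * q * y⁻¹ = y * hS.Z * (hS.Z⁻¹ * q * hS.Z) * (y * hS.Z)⁻¹ by group]
        refine T.Qg.mul_mem (T.Qg.mul_mem h ?_) (T.Qg.inv_mem h)
        rw [hS.Z_inv]
        have := hS.Z_Qg hq
        rwa [hS.Z_inv] at this
    set U := hS.semi ⊔ Subgroup.zpowers ((x : X) : G)
    have hU2 : IsPGroup 2 U := (P.2.map X.subtype).to_le (sup_le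
      (fun y hy => ⟨⟨y, hsX hy⟩, hP (Subgroup.mem_subgroupOf.2 hy), rfl⟩)
      (Subgroup.zpowers_le.2 ⟨(x : X), x.2, rfl⟩))
    have h1 := hQ2 U (sup_le hsub (Subgroup.zpowers_le.2 hxN')) hU2
    have heq := Subgroup.eq_of_le_of_card_ge (le_sup_left : hS.semi ≤ U) (h1.trans hS.semi_card)
    exact hxS (Subgroup.mem_subgroupOf.2 (Subgroup.mem_subgroupOf.2
      (heq ▸ Subgroup.mem_sup_right (Subgroup.mem_zpowers _))))
  -- five commuting involutions
  let w : Fin 5 → G := ![1, T.φ tm, hS.R, hS.Z, hS.R * hS.Z]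
  have cRZ : Commute hS.R hS.Z := hS.Z_R.symm
  have cRt : Commute hS.R (T.φ tm) := hS.R_tm
  have cZt : Commute hS.Z (T.φ tm) := hS.Z_tm
  have hwsq : ∀ i, w i * w i = 1 := by
    intro i
    fin_cases i
    · exact one_mul 1
    · exact T.tm_invol
    · exact hS.R_invol
    · exact hS.Z_invol
    · show hS.R * hS.Z * (hS.R * hS.Z) = 1
      rw [cRZ.symm.mul_mul_mul_comm, hS.R_invol, hS.Z_invol, one_mul]
  have hwc : ∀ i j, Commute (w i) (w j) := by
    intro i j
    fin_cases i <;> fin_cases j <;> simp only [w] <;>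
      first
        | exact Commute.one_left _ | exact Commute.one_right _ | exact Commute.refl _
        | exact cRZ | exact cRZ.symm | exact cRt | exact cRt.symm | exact cZt | exact cZt.symm
        | exact cRt.mul_left cZt | exact (cRt.mul_left cZt).symm
        | exact (Commute.refl _).mul_left cRZ.symm | exact ((Commute.refl _).mul_left cRZ.symm).symm
        | exact cRZ.mul_left (Commute.refl _) | exact (cRZ.mul_left (Commute.refl _)).symm
  have hwinj : Function.Injective w := by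
    let act : Fin 5 → V3 → V3 := ![id, mT, sgC, fun v => -v, fun v => sgC (-v)]
    have hact : ∀ i, T.Acts (w i) (act i) := by
      intro i
      fin_cases i
      · exact fun v => by simp [w, act]
      · exact T.tm_acts
      · exact hS.R_acts
      · exact hS.Z_acts
      · exact fun v => Acts.mul T hS.R_acts hS.Z_acts v
    intro i j h
    by_contra hij
    obtain ⟨v, hv⟩ := five_maps_ne i j hij
    exact hv (T.q_inj (((hact i) v).symm.trans ((congrArg (fun g => g * T.q v * g⁻¹) h).trans (hact j v))))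
  have hV : IsPGroup 2 (Subgroup.closure (Set.range w)) := by
    have hle : ∀ x ∈ Subgroup.closure (Set.range w), x * x = 1 ∧ ∀ i, Commute x (w i) := by
      intro x hx
      induction hx using Subgroup.closure_induction with
      | mem x hx =>
        obtain ⟨i, rfl⟩ := hx
        exact ⟨hwsq i, hwc i⟩
      | one => exact ⟨one_mul 1, fun i => Commute.one_left _⟩
      | mul a b ha hb iha ihb =>
        have hab : Commute b a := by
          have : b ∈ Subgroup.centralizer ({a} : Set G) := (Subgroup.closure_le _).2 (by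
            rintro _ ⟨i, rfl⟩
            exact Subgroup.mem_centralizer_singleton_iff.2 (iha.2 i).symm.eq) hb
          exact Subgroup.mem_centralizer_singleton_iff.1 this
        exact ⟨by rw [hab.mul_mul_mul_comm, iha.1, ihb.1, one_mul], fun i => (iha.2 i).mul_left (ihb.2 i)⟩
      | inv a _ iha => exact ⟨by rw [← mul_inv_rev, iha.1, inv_one], fun i => (iha.2 i).inv_left⟩
    exact fun x => ⟨1, Subtype.ext (by rw [SubgroupClass.coe_pow, pow_one, pow_two]; exact (hle x x.2).1)⟩
  have hVX : Subgroup.closure (Set.range w) ≤ X := (Subgroup.closure_le _).2 (by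
    rintro _ ⟨i, rfl⟩
    exact Subgroup.mem_centralizer_singleton_iff.2 (hwc i 1).eq)
  obtain ⟨P', hP'⟩ := (hV.of_injective ((Subgroup.subgroupOfEquivOfLe hVX).toMonoidHom) (MulEquiv.injective _) :
    IsPGroup 2 ((Subgroup.closure (Set.range w)).subgroupOf X)).exists_le_sylow
  obtain ⟨g, hg⟩ := MulAction.exists_smul_eq X P' P
  have hin : ∀ i, ((g : X) : G) * w i * ((g : X) : G)⁻¹ ∈ hS.semi := by
    intro i
    have hwX : w i ∈ X := hVX (Subgroup.subset_closure ⟨i, rfl⟩)
    have h1 : (MulAut.conj g) ⟨w i, hwX⟩ ∈ ((g • P' : Sylow 2 X) : Subgroup X) := by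
      rw [Sylow.coe_subgroup_smul]
      exact Subgroup.smul_mem_pointwise_smul _ (MulAut.conj g) _
        (hP' (Subgroup.mem_subgroupOf.2 (Subgroup.subset_closure ⟨i, rfl⟩)))
    rw [hg, hPe] at h1
    exact Subgroup.mem_subgroupOf.1 h1
  have := five_fit T.Qg (z := hS.Z) (t := T.φ tm) (fun i => ((g : X) : G) * w i * ((g : X) : G)⁻¹)
    (fun i j h => hwinj (mul_left_cancel (mul_right_cancel h)))
    (fun i => by rw [conj_mul, hwsq, mul_one, mul_inv_cancel])
    (fun i j => by rw [conj_mul, conj_mul, (hwc i j).eq])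
    (fun i => hS.mem_semi.1 (hin i)) (fun q hq => hS.Z_Qg hq) hS.Z_invol (fun q hq h => T.Qg_invol hq h)
  rw [Fintype.card_fin] at this
  omega

/-- The two quaternion subgroups commute or a further subgroup centralises the first. -/
theorem comm_or_big (hf : Subgroup.centralizer ({T.q (1, 1, 0)} : Set G) ≤ Subgroup.normalizer (T.J : Set G)) :
    hS.Comm ∨ ∃ K : Subgroup G, (∀ x ∈ K, ∀ y ∈ T.Qg, x * y = y * x) ∧ (Nat.card K).Coprime 3 ∧
      T.Eg ≤ Subgroup.normalizer (K : Set G) ∧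
      ∃ x ∈ K, x * T.q (0, 0, 1) = T.q (0, 0, 1) * x ∧ x ≠ 1 ∧ x ≠ T.φ tm := by
  classical
  obtain ⟨K, hK, hK3, hKc⟩ := hS.exists_core
  have hKQ : ∀ x ∈ K, ∀ y ∈ T.Qg, x * y = y * x := fun x hx y hy =>
    (Subgroup.mem_centralizer_iff.1 ((hK x).1 hx).1 y hy).symm
  have hE : T.Eg ≤ Subgroup.normalizer (K : Set G) := by
    intro g hg
    obtain ⟨v, hv, rfl⟩ := T.mem_Eg.1 hg
    rw [Subgroup.mem_normalizer_iff_map_conj_eq]
    refine Subgroup.eq_of_le_of_card_ge ?_ (Subgroup.card_map_of_injective (MulEquiv.injective _)).ge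
    rintro _ ⟨x, hx, rfl⟩
    refine (hK _).2 ⟨Subgroup.mem_centralizer_iff.2 fun y hy => ?_, ?_⟩
    · have hy' : (T.q v)⁻¹ * y * T.q v ∈ T.Qg := by
        have h := T.map_Qg (g := (T.q v)⁻¹) (Or.inl (by
          rw [← T.q_dia, ← T.q_neg, T.q_comm, mul_inv_cancel_right]))
          ((show Commute (T.q v) (T.φ tm) from ((Acts.comm_iff T T.tm_acts).2 hv).symm).inv_left.eq) hy
        rwa [inv_inv] at h
      show y * (T.q v * x * (T.q v)⁻¹) = T.q v * x * (T.q v)⁻¹ * y
      have h1 := hKQ x hx _ hy'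
      calc y * (T.q v * x * (T.q v)⁻¹) = T.q v * ((T.q v)⁻¹ * y * T.q v * x) * (T.q v)⁻¹ := by group
        _ = _ := by rw [← h1]; group
    · show (orderOf (T.q v * x * (T.q v)⁻¹)).Coprime 3
      rw [show orderOf (T.q v * x * (T.q v)⁻¹) = orderOf x from orderOf_injective (MulAut.conj (T.q v)).toMonoidHom
        (MulEquiv.injective _) x]
      exact ((hK x).1 hx).2
  by_cases hA : ∃ x ∈ K, x ∈ hS.Qr ∧ x ≠ 1 ∧ x ≠ T.φ tm
  · left
    obtain ⟨x, hxK, hxR, h1, ht⟩ := hA
    have hq : T.q (0, 0, 1) ∈ Subgroup.normalizer ((K.map (MulAut.conj hS.R).toMonoidHom : Subgroup G) : Set G) := by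
      refine Subgroup.le_normalizer_map _ ⟨T.q (0, 0, -1), hE (T.mem_Eg.2 ⟨_, fixed_axis, rfl⟩), ?_⟩
      show hS.R * T.q (0, 0, -1) * hS.R⁻¹ = _
      rw [hS.R_acts]
      exact congrArg T.q (by simp [sgC])
    have hle := T.Qg_le hq (hS.mem_Qr.1 hxR)
      ⟨x, hxK, by show hS.R * x * hS.R⁻¹ = _; rw [hS.R_inv]⟩
      (fun h => h1 (by
        have h2 : x = hS.R * (hS.R * x * hS.R) * hS.R := by
          rw [← mul_assoc, ← mul_assoc, hS.R_invol, one_mul, mul_assoc, hS.R_invol, mul_one]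
        rw [h2, h, mul_one, hS.R_invol]))
      (fun h => ht (by
        have h2 : x = hS.R * (hS.R * x * hS.R) * hS.R := by
          rw [← mul_assoc, ← mul_assoc, hS.R_invol, one_mul, mul_assoc, hS.R_invol, mul_one]
        rw [h2, h, hS.R_phi_tm]))
    intro i
    obtain ⟨y, hy, hyq⟩ := hle T.qm_mem
    have hy' : hS.R * T.φ qm * hS.R = y := by
      rw [← hyq]
      show hS.R * (hS.R * y * hS.R⁻¹) * hS.R = y
      rw [hS.R_inv, ← mul_assoc, ← mul_assoc, hS.R_invol, one_mul, mul_assoc, hS.R_invol, mul_one]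
    rw [hy']
    exact (hKQ y hy _ (T.qe_mem i)).symm
  by_cases hB : ∃ x ∈ K, x * T.q (0, 0, 1) = T.q (0, 0, 1) * x ∧ x ≠ 1 ∧ x ≠ T.φ tm
  · exact Or.inr ⟨K, hKQ, hK3, hE, hB⟩
  exfalso
  push Not at hA hB
  have hsub : ∀ x, x = 1 ∨ x = T.φ tm → x ∈ Subgroup.zpowers (T.φ tm) := by
    rintro x (rfl | rfl)
    · exact Subgroup.one_mem _
    · exact Subgroup.mem_zpowers _
  have hKt : K ≤ Subgroup.centralizer ({T.φ tm} : Set G) := fun x hx =>
    Subgroup.mem_centralizer_singleton_iff.2 (hKQ x hx _ T.tm_mem_Qg)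
  have hK2 : K ≤ Subgroup.zpowers (T.φ tm) := hS.plane_gen hKt hK3 hE hf
    (fun x ⟨hx, hxQ⟩ => hsub x (by
      obtain ⟨m, hm, rfl⟩ := hxQ
      obtain ⟨he, hg⟩ := Qm_mem_form hm
      rcases Qm_center m.g hg
        (by rw [← he]; exact T.inj (by rw [map_mul, map_mul]; exact hKQ _ hx _ T.qm_mem))
        (by rw [← he]; exact T.inj (by rw [map_mul, map_mul]; exact hKQ _ hx _ (T.qe_mem 1))) with e | e <;>
        rw [← he] at e <;> subst e
      · exact Or.inl T.φ.map_one
      · exact Or.inr rfl))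
    (fun x ⟨hx, hxR⟩ => hsub x ((em (x = 1)).imp_right fun h => hA x hx hxR h))
    (fun x ⟨hx, hxe⟩ => hsub x ((em (x = 1)).imp_right fun h =>
      hB x hx (Subgroup.mem_centralizer_singleton_iff.1 hxe) h))
  refine hS.small_false ?_
  rw [hKc]
  show _ ∣ 3 * 2
  refine Nat.mul_dvd_mul_left 3 ((Subgroup.card_dvd_of_le hK2).trans ?_)
  rw [Nat.card_zpowers]
  exact orderOf_dvd_iff_pow_eq_one.2 (by rw [pow_two]; exact T.tm_invol)

end Signed

end Conf

end Cfsg.Agent.Lie.PSpFourThreeFull
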