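import Cfsg.Agent.Lib.Lie.PSpFourThreeFull.TwoCent
import Cfsg.Agent.S0058

/-!
An orbit of two vectors: the centraliser of the central involution and the isolation of this involution.
-/

set_option autoImplicit false
set_option linter.unusedSectionVars false
set_option linter.style.haveILetI false

namespace Cfsg.Agent.Lie.PSpFourThreeFull

open Cfsg.Agent.Lie.PSpFourThreeAmalgam
open Cfsg.Agent.Small.ShapeThree (M)

/-- Every element of the model is a product of four elements of order dividing three. -/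
theorem model_three_gen (m : M) : ∃ a b c d : M, a * a * a = 1 ∧ b * b * b = 1 ∧ c * c * c = 1 ∧ d * d * d = 1 ∧
    a * b * c * d = m := by
  obtain ⟨x, y, z, hx, hy, hz, hxyz⟩ := sl_three_gen m.g
  have hmul : ∀ s s' : SL23, (⟨0, 0, s⟩ : M) * ⟨0, 0, s'⟩ = ⟨0, 0, s * s'⟩ := fun s s' =>
    M.ext (by simp [M.mul_k, Cfsg.Agent.Small.ShapeThree.omega]) (by simp [M.mul_v]) rfl
  have h3 : ∀ s : SL23, s ^ 3 = 1 → (⟨0, 0, s⟩ : M) * ⟨0, 0, s⟩ * ⟨0, 0, s⟩ = 1 := fun s hs => by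
    rw [hmul, hmul, ← pow_two, ← pow_succ, hs]
    rfl
  refine ⟨⟨m.k, m.v, 1⟩, ⟨0, 0, x⟩, ⟨0, 0, y⟩, ⟨0, 0, z⟩, core_cube _ _, h3 x hx, h3 y hy, h3 z hz, ?_⟩
  rw [mul_assoc (⟨m.k, m.v, 1⟩ : M), hmul, mul_assoc, hmul, hxyz]
  exact M.ext (by simp [M.mul_k, Cfsg.Agent.Small.ShapeThree.omega]) (by simp [M.mul_v]) (by simp [M.mul_g])

namespace Conf

variable {G : Type*} [Group G] [Finite G] {T : Conf G} (h2 : T.Two)

/-- The normaliser of the central subgroup. -/
theorem mem_Na {g : G} : g ∈ Subgroup.normalizer (Subgroup.zpowers T.a : Set G) ↔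
    g * T.a * g⁻¹ = T.a ∨ g * T.a * g⁻¹ = T.a⁻¹ := by
  constructor
  · intro hg
    have h := (Subgroup.mem_normalizer_iff.1 hg T.a).1 (Subgroup.mem_zpowers _)
    obtain ⟨k, hk⟩ := Subgroup.mem_zpowers_iff.1 h
    have hk2 : T.a ^ k = T.a ^ (k % 3) := by
      conv_lhs => rw [← Int.mul_ediv_add_emod k 3, zpow_add, zpow_mul, show T.a ^ (3 : ℤ) = 1 from by
        exact_mod_cast T.a_cube, one_zpow, one_mul]
    rw [hk2] at hk
    have := Int.emod_nonneg k (show (3 : ℤ) ≠ 0 by norm_num)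
    have := Int.emod_lt_of_pos k (show (0 : ℤ) < 3 by norm_num)
    rcases (by omega : k % 3 = 0 ∨ k % 3 = 1 ∨ k % 3 = 2) with e | e | e <;> rw [e] at hk
    · exact absurd (conj_eq_one_iff.1 (hk.symm.trans (zpow_zero _))) T.a_ne
    · exact Or.inl (hk.symm.trans (zpow_one _))
    · refine Or.inr (hk.symm.trans (eq_inv_of_mul_eq_one_left ?_))
      rw [← zpow_add_one]
      exact_mod_cast T.a_cube
  · intro h
    rw [Subgroup.mem_normalizer_iff_map_conj_eq, MonoidHom.map_zpowers]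
    show Subgroup.zpowers (g * T.a * g⁻¹) = _
    rcases h with h | h <;> rw [h]
    exact Subgroup.zpowers_inv

theorem Na_odd {g : G} (hg : g ∈ Subgroup.normalizer (Subgroup.zpowers T.a : Set G)) (ho : Odd (orderOf g)) :
    g * T.a = T.a * g :=
  comm_of_odd ho T.a_cube (mem_Na.1 hg)

include h2

/-- The centraliser of a conjugate in the centraliser of the centre lies in the normaliser. -/
theorem Two.cent_three {y : G} (hy : y * T.a = T.a * y) (hy3 : y ^ 3 = 1) (hy1 : y ≠ 1) {g : G}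
    (hg : g * y = y * g) : g ∈ Subgroup.normalizer (Subgroup.zpowers T.a : Set G) := by
  haveI : Fact (Nat.Prime 3) := ⟨Nat.prime_three⟩
  obtain ⟨m, rfl⟩ := T.cent_a.1 hy
  have hidx : ¬ 3 ∣ M.P.index := fun h => by
    have := M.P.card_mul_index
    rw [M.card_P, M.card_eq] at this
    omega
  obtain ⟨Q, hQ⟩ := (IsPGroup.of_card (n := 1) (by
    rw [Nat.card_zpowers, orderOf_eq_prime (T.inj (by rw [map_pow, hy3, map_one])) fun h => hy1 (by rw [h, map_one]),
      pow_one]) : IsPGroup 3 (Subgroup.zpowers m)).exists_le_sylow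
  obtain ⟨k, hk⟩ := MulAction.exists_smul_eq M Q
    ((IsPGroup.of_card (n := 4) (by rw [M.card_P]; norm_num) : IsPGroup 3 M.P).toSylow hidx)
  have hmS : T.φ k * T.φ m * (T.φ k)⁻¹ ∈ T.S := by
    refine ⟨k * m * k⁻¹, ?_, by rw [map_mul, map_mul, map_inv]⟩
    show _ ∈ (((IsPGroup.of_card (n := 4) (by rw [M.card_P]; norm_num) : IsPGroup 3 M.P).toSylow hidx) : Subgroup M)
    rw [← hk, Sylow.coe_subgroup_smul]
    exact Subgroup.smul_mem_pointwise_smul m (MulAut.conj k) _ (hQ (Subgroup.mem_zpowers m))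
  obtain ⟨h, hh, hJ⟩ := T.three_in_J hmS (by rw [conj_pow, hy3, mul_one, mul_inv_cancel])
  obtain ⟨v, hv⟩ := T.mem_J.1 hJ
  have hv0 : v ≠ 0 := fun e => hy1 (by
    rw [e, T.q_zero] at hv
    exact conj_eq_one_iff.1 (conj_eq_one_iff.1 hv.symm))
  set c := h * T.φ k
  have hcN : c ∈ Subgroup.normalizer (Subgroup.zpowers T.a : Set G) := mem_Na.2 (Or.inl (by
    have hc : Commute c T.a := (show Commute h T.a from hh).mul_left (T.cent_a.2 ⟨k, rfl⟩)
    rw [hc.eq, mul_inv_cancel_right]))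
  have hcy : c * T.φ m * c⁻¹ = T.q v := by
    rw [hv]
    simp only [c]
    group
  have h1 := Two.cent_le h2 hv0 (g := c * g * c⁻¹) (by
    rw [← hcy]
    calc c * g * c⁻¹ * (c * T.φ m * c⁻¹) = c * (g * T.φ m) * c⁻¹ := by group
      _ = _ := by rw [hg]; group)
  have h2' := Subgroup.mul_mem _ (Subgroup.mul_mem _ (Subgroup.inv_mem _ hcN) h1) hcN
  rwa [show c⁻¹ * (c * g * c⁻¹) * c = g by group] at h2'

/-- The central involution has its centraliser in the normaliser of the central subgroup. -/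
theorem Two.cent_tm {g : G} (hg : g * T.φ tm = T.φ tm * g) :
    g ∈ Subgroup.normalizer (Subgroup.zpowers T.a : Set G) ∧
      ∀ y : G, y * T.φ tm = T.φ tm * y → y ^ 3 = 1 →
        ∃ h, h * T.φ tm = T.φ tm * h ∧ ∃ v, mT v = v ∧ h * y * h⁻¹ = T.q v := by
  classical
  haveI : Fact (Nat.Prime 3) := ⟨Nat.prime_three⟩
  set X := Subgroup.centralizer ({T.φ tm} : Set G)
  have hmX : ∀ x, x ∈ X ↔ x * T.φ tm = T.φ tm * x := fun x => Subgroup.mem_centralizer_singleton_iff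
  have hqX : ∀ {v : V3}, mT v = v → T.q v ∈ X := fun {v} hv =>
    (hmX _).2 ((Acts.comm_iff T T.tm_acts).2 hv).symm
  set PG := X ⊓ T.J with hPG
  have hmP : ∀ x : G, x ∈ PG ↔ ∃ v, mT v = v ∧ T.q v = x := fun x => by
    constructor
    · rintro ⟨hxX, hxJ⟩
      obtain ⟨v, rfl⟩ := T.mem_J.1 hxJ
      exact ⟨v, (Acts.comm_iff T T.tm_acts).1 ((hmX _).1 hxX).symm, rfl⟩
    · rintro ⟨v, hv, rfl⟩
      exact ⟨hqX hv, T.q_mem v⟩
  have hPc : Nat.card PG = 9 := by
    have hset : (PG : Set G) = T.q '' {v | mT v = v} := by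
      ext x
      exact (hmP x).trans ⟨fun ⟨v, h, e⟩ => ⟨v, h, e⟩, fun ⟨v, h, e⟩ => ⟨v, h, e⟩⟩
    show Nat.card ((PG : Set G) : Type _) = 9
    rw [hset, Nat.card_image_of_injective (fun _ _ h => T.q_inj h), Nat.card_eq_fintype_card, Fintype.card_subtype]
    exact mT_fixed_card
  have hPnorm : ∀ {n : G}, (∀ x ∈ PG, n * x * n⁻¹ ∈ T.J) → n ∈ Subgroup.normalizer (T.J : Set G) := fun h =>
    Two.le_normalizer_of_big h2 inf_le_right (by rw [hPc]) h
  set PX := PG.subgroupOf X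
  have hPXc : Nat.card PX = 9 := by
    rw [Nat.card_congr (Subgroup.subgroupOfEquivOfLe (inf_le_left : PG ≤ X)).toEquiv, hPc]
  have hnorm : ∀ x : X, x ∈ Subgroup.normalizer (PX : Set X) → (x : G) ∈ Subgroup.normalizer (T.J : Set G) :=
    fun x hx => hPnorm fun y hy =>
      ((Subgroup.mem_subgroupOf.1 ((Subgroup.mem_normalizer_iff.1 hx ⟨y, hy.1⟩).1
        (Subgroup.mem_subgroupOf.2 hy))) : _ ∈ PG).2
  have hcases : ∀ x : X, (x : G) ∈ Subgroup.normalizer (T.J : Set G) → ∃ p, T.Acts (x : G) (smap2 p) ∧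
      ((∀ u, smap2 p u = u) ∨ (∀ u, smap2 p u = mT u) ∨ (∀ u, smap2 p u = -u) ∨ ∀ u, smap2 p u = -(mT u)) := by
    intro x hx
    obtain ⟨p, hp⟩ := Two.acts h2 hx
    refine ⟨p, hp, tm_plane p fun u => T.q_inj ?_⟩
    rw [← Acts.mul T hp T.tm_acts u, ← Acts.mul T T.tm_acts hp u, (hmX _).1 x.2]
  -- Sylow
  have hP3 : IsPGroup 3 PX := IsPGroup.of_card (n := 2) (by rw [hPXc]; norm_num)
  obtain ⟨P, hP⟩ : ∃ P : Sylow 3 X, (P : Subgroup X) = PX := by
    obtain ⟨Q, hQ⟩ := hP3.exists_le_sylow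
    refine ⟨Q, le_antisymm ?_ hQ⟩
    by_contra hne
    haveI : Group.IsNilpotent (Q : Subgroup X) := Q.2.isNilpotent
    have hlt : PX.subgroupOf Q < ⊤ := lt_top_iff_ne_top.2 fun e => hne (Subgroup.subgroupOf_eq_top.1 e)
    obtain ⟨x, hxN, hxP⟩ := SetLike.exists_of_lt (Group.normalizerCondition_of_isNilpotent _ hlt)
    have hxN' : ((x : X) : G) ∈ Subgroup.normalizer (T.J : Set G) := hPnorm fun y hy =>
      ((Subgroup.mem_subgroupOf.1 (Subgroup.mem_subgroupOf.1 ((Subgroup.mem_normalizer_iff.1 hxN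
        ⟨⟨y, hy.1⟩, hQ (Subgroup.mem_subgroupOf.2 hy)⟩).1
        (Subgroup.mem_subgroupOf.2 (Subgroup.mem_subgroupOf.2 hy))))) : _ ∈ PG).2
    obtain ⟨p, hp, hpc⟩ := hcases _ hxN'
    have hx2 : ((x : X) : G) * ((x : X) : G) ∈ T.J := T.mem_J_of_acts fun u =>
      (Acts.mul T hp hp u).trans (congrArg T.q (by
        rcases hpc with h | h | h | h <;> simp only [h]
        · rfl
        · exact two_v3_1 u
        · exact neg_neg u
        · exact two_v3_2 u))
    obtain ⟨n, hn⟩ := Q.2 x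
    have hxn : ((x : X) : G) ^ 3 ^ n = 1 := by simpa using congrArg (fun y : (Q : Subgroup X) => ((y : X) : G)) hn
    obtain ⟨j, hj⟩ : Odd (3 ^ n) := Odd.pow (by decide)
    refine hxP (Subgroup.mem_subgroupOf.2 (Subgroup.mem_subgroupOf.2 ⟨(x : X).2, ?_⟩))
    rw [hj, pow_succ, pow_mul, pow_two] at hxn
    rw [eq_inv_of_mul_eq_one_right hxn]
    exact T.J.inv_mem (T.J.pow_mem hx2 j)
  have hsyl : ∀ y : G, y * T.φ tm = T.φ tm * y → y ^ 3 = 1 →
      ∃ h, h * T.φ tm = T.φ tm * h ∧ ∃ v, mT v = v ∧ h * y * h⁻¹ = T.q v := by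
    intro y hy hy3
    have h3 : IsPGroup 3 (Subgroup.zpowers (⟨y, (hmX y).2 hy⟩ : X)) := by
      intro z
      refine ⟨1, ?_⟩
      obtain ⟨z, k, rfl⟩ := z
      refine Subtype.ext ?_
      show ((⟨y, _⟩ : X) ^ k) ^ (3 ^ 1) = 1
      rw [pow_one, ← zpow_natCast, zpow_comm,
        show (⟨y, (hmX y).2 hy⟩ : X) ^ ((3 : ℕ) : ℤ) = 1 from Subtype.ext (by simpa using hy3), one_zpow]
    obtain ⟨Q, hQ⟩ := h3.exists_le_sylow
    obtain ⟨h, hh⟩ := MulAction.exists_smul_eq X Q P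
    have hmem : h * ⟨y, (hmX y).2 hy⟩ * h⁻¹ ∈ PX := by
      rw [← hP, ← hh, Sylow.coe_subgroup_smul]
      exact Subgroup.smul_mem_pointwise_smul _ (MulAut.conj h) _ (hQ (Subgroup.mem_zpowers _))
    obtain ⟨v, hv, hvy⟩ := (hmP _).1 (Subgroup.mem_subgroupOf.1 hmem)
    exact ⟨h, (hmX _).1 h.2, v, hv, hvy.symm⟩
  refine ⟨?_, hsyl⟩
  -- the elements inverting the plane
  obtain ⟨n₀, hn₀⟩ := Two.neg_elt h2
  set n := T.φ tm * n₀⁻¹ * T.φ tm * n₀
  obtain ⟨w, hw⟩ : ∃ w, T.q w = n₀⁻¹ * T.φ tm * n₀ * T.φ tm := by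
    refine T.mem_J.1 (T.mem_J_of_acts fun v => ?_)
    have e1 : T.Acts n₀⁻¹ fun v => -v := fun u => by
      have := hn₀ (-u)
      simp only [neg_neg] at this
      rw [← this]
      group
    rw [Acts.mul T (Acts.mul T (Acts.mul T e1 T.tm_acts) hn₀) T.tm_acts v]
    exact congrArg T.q (two_v3_3 v)
  have hr0 : ∃ r : G, T.Acts r (fun v => -v) ∧ r * T.φ tm = T.φ tm * r := by
    have ht := T.tm_invol
    have hti : (T.φ tm)⁻¹ = T.φ tm := inv_eq_of_mul_eq_one_right ht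
    -- conjugating by the involution
    have h1 : T.φ tm * n₀ * T.φ tm = n₀ * T.q w := by rw [hw]; group
    have h3 : T.φ tm * T.q w * T.φ tm = T.q (mT w) := by
      have := T.tm_acts w
      rwa [hti] at this
    have h4 : n₀ = n₀ * T.q (w + mT w) := by
      calc n₀ = T.φ tm * (T.φ tm * n₀ * T.φ tm) * T.φ tm := by
            calc n₀ = (T.φ tm * T.φ tm) * n₀ * (T.φ tm * T.φ tm) := by rw [ht]; group
              _ = _ := by group
        _ = T.φ tm * (n₀ * T.q w) * T.φ tm := by rw [h1]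
        _ = (T.φ tm * n₀ * T.φ tm) * (T.φ tm * T.q w * T.φ tm) := by
            calc T.φ tm * (n₀ * T.q w) * T.φ tm = T.φ tm * n₀ * 1 * T.q w * T.φ tm := by group
              _ = _ := by rw [← ht]; group
        _ = _ := by rw [h1, h3, T.q_add]; group
    have hwt : mT w = -w := eq_neg_of_add_eq_zero_right (T.q_eq_one.1 (left_eq_mul.1 h4))
    refine ⟨n₀ * T.q (-w), fun v => (Acts.mul T hn₀ (T.acts_of_mem (T.q_mem (-w))) v).trans rfl, ?_⟩
    have h5 : T.φ tm * T.q (-w) * T.φ tm = T.q w := by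
      have := T.tm_acts (-w)
      rw [hti] at this
      rw [this, two_v3_4 w hwt]
    have h6 : T.φ tm * (n₀ * T.q (-w)) * T.φ tm = n₀ * T.q (-w) := by
      calc T.φ tm * (n₀ * T.q (-w)) * T.φ tm = T.φ tm * n₀ * 1 * T.q (-w) * T.φ tm := by group
        _ = (T.φ tm * n₀ * T.φ tm) * (T.φ tm * T.q (-w) * T.φ tm) := by rw [← ht]; group
        _ = n₀ * T.q (w + w) := by rw [h1, h5, T.q_add]; group
        _ = _ := by rw [two_v3_5 w]
    calc n₀ * T.q (-w) * T.φ tm = (T.φ tm * T.φ tm) * (n₀ * T.q (-w)) * T.φ tm := by rw [ht, one_mul]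
      _ = T.φ tm * (T.φ tm * (n₀ * T.q (-w)) * T.φ tm) := by group
      _ = _ := by rw [h6]
  obtain ⟨r, hr, hrt⟩ := hr0
  have hr2 : r * r ∈ T.J := T.mem_J_of_acts fun u => (Acts.mul T hr hr u).trans (congrArg T.q (neg_neg u))
  have hr6 : r ^ 6 = 1 := by
    obtain ⟨u, hu⟩ := T.mem_J.1 hr2
    rw [show 6 = 2 * 3 by rfl, pow_mul, pow_two, ← hu, T.q_cube]
  have hr' : T.Acts (r ^ 3) fun v => -v := fun v => by
    rw [pow_succ, pow_two, Acts.mul T (T.acts_of_mem hr2) hr v]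
    rfl
  have hr3X : r ^ 3 ∈ X := X.pow_mem ((hmX r).2 hrt) 3
  have hcentP : ∀ x : X, x ∈ Subgroup.centralizer (PX : Set X) ↔
      ∃ p, T.Acts (x : G) (smap2 p) ∧ ((∀ u, smap2 p u = u) ∨ ∀ u, smap2 p u = mT u) := by
    intro x
    constructor
    · intro hx
      obtain ⟨p, hp, hpc⟩ := hcases x (hnorm x (Subgroup.centralizer_le_normalizer _ hx))
      have hfix : ∀ v, mT v = v → smap2 p v = v := fun v hv => (Acts.comm_iff T hp).1
        (congrArg Subtype.val (Subgroup.mem_centralizer_iff.1 hx ⟨T.q v, hqX hv⟩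
          (Subgroup.mem_subgroupOf.2 ((hmP _).2 ⟨v, hv, rfl⟩)))).symm
      refine ⟨p, hp, ?_⟩
      have hd := hfix dia mT_facts.2.2.1
      rcases hpc with h | h | h | h
      · exact Or.inl h
      · exact Or.inr h
      · exact absurd ((h dia).symm.trans hd) neg_dia_ne
      · rw [h dia, mT_facts.2.2.1] at hd
        exact absurd hd neg_dia_ne
    · rintro ⟨p, hp, h⟩
      refine Subgroup.mem_centralizer_iff.2 fun y hy => Subtype.ext ?_
      obtain ⟨v, hv, hvy⟩ := (hmP _).1 (Subgroup.mem_subgroupOf.1 hy)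
      show (y : G) * x = x * y
      rw [← hvy]
      refine ((Acts.comm_iff T hp).2 ?_).symm
      rcases h with h | h <;> rw [h v]
      exact hv
  have hnormP : ∀ x : X, (x : G) ∈ Subgroup.normalizer (T.J : Set G) → x ∈ Subgroup.normalizer (PX : Set X) := by
    intro x hx
    rw [Subgroup.mem_normalizer_iff]
    intro y
    simp only [Subgroup.mem_subgroupOf, PX, hPG, Subgroup.mem_inf, Subgroup.coe_mul, Subgroup.coe_inv]
    exact ⟨fun h => ⟨(x * y * x⁻¹).2, (Subgroup.mem_normalizer_iff.1 hx _).1 h.2⟩,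
      fun h => ⟨y.2, (Subgroup.mem_normalizer_iff.1 hx _).2 h.2⟩⟩
  set R : X := ⟨r ^ 3, hr3X⟩
  have hRN : R ∈ Subgroup.normalizer (PX : Set X) := hnormP R (Acts.mem_normalizer T hr')
  have hRC : R ∉ Subgroup.centralizer (PX : Set X) := fun hc => by
    obtain ⟨p, hp, h⟩ := (hcentP R).1 hc
    have h1 : T.q (smap2 p dia) = T.q (-dia) := (hp dia).symm.trans (hr' dia)
    rcases h with h | h <;> rw [h dia] at h1
    · exact neg_dia_ne (T.q_inj h1).symm
    · rw [mT_facts.2.2.1] at h1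
      exact neg_dia_ne (T.q_inj h1).symm
  have hidx : ((Subgroup.centralizer ((P : Subgroup X) : Set X)).subgroupOf
      (Subgroup.normalizer ((P : Subgroup X) : Set X))).index = 2 := by
    rw [hP, Subgroup.index_eq_two_iff]
    refine ⟨⟨R, hRN⟩, fun b => ?_⟩
    simp only [Subgroup.mem_subgroupOf, Subgroup.coe_mul]
    obtain ⟨p, hp, hpc⟩ := hcases b.1 (hnorm b.1 b.2)
    have hbr : T.Acts (((b.1 * R : X)) : G) fun u => smap2 p (-u) := Acts.mul T hp hr'
    have hsm : ∀ q : V3 → V3, T.Acts (((b.1 * R : X)) : G) q →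
        ((∀ u, q u = u) ∨ ∀ u, q u = mT u) → b.1 * R ∈ Subgroup.centralizer (PX : Set X) := by
      intro q hq h
      obtain ⟨p', hp', h'⟩ : ∃ p', T.Acts (((b.1 * R : X)) : G) (smap2 p') ∧
          ((∀ u, smap2 p' u = u) ∨ ∀ u, smap2 p' u = mT u) := by
        rcases h with h | h
        · exact ⟨(0, true), fun u => (hq u).trans (congrArg T.q (by rw [h u]; rfl)), Or.inl fun u => rfl⟩
        · exact ⟨(3, true), fun u => (hq u).trans (congrArg T.q (by rw [h u]; rfl)), Or.inr fun u => rfl⟩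
      exact (hcentP _).2 ⟨p', hp', h'⟩
    rcases hpc with h | h | h | h
    · refine Or.inr ⟨(hcentP _).2 ⟨p, hp, Or.inl h⟩, fun h' => hRC ?_⟩
      have := Subgroup.mul_mem _ (Subgroup.inv_mem _ ((hcentP b.1).2 ⟨p, hp, Or.inl h⟩)) h'
      rwa [inv_mul_cancel_left] at this
    · refine Or.inr ⟨(hcentP _).2 ⟨p, hp, Or.inr h⟩, fun h' => hRC ?_⟩
      have := Subgroup.mul_mem _ (Subgroup.inv_mem _ ((hcentP b.1).2 ⟨p, hp, Or.inr h⟩)) h'
      rwa [inv_mul_cancel_left] at this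
    · have h1 := hsm _ hbr (Or.inl fun u => by rw [h, neg_neg])
      refine Or.inl ⟨h1, fun h' => hRC ?_⟩
      have := Subgroup.mul_mem _ (Subgroup.inv_mem _ h') h1
      rwa [inv_mul_cancel_left] at this
    · have h1 := hsm _ hbr (Or.inr fun u => by rw [h]; exact two_v3_6 u)
      refine Or.inl ⟨h1, fun h' => hRC ?_⟩
      have := Subgroup.mul_mem _ (Subgroup.inv_mem _ h') h1
      rwa [inv_mul_cancel_left] at this
  have hab : IsMulCommutative (P : Subgroup X) := hP ▸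
    ⟨⟨fun x y => Subtype.ext (Subtype.ext (T.J_comm (show ((x : X) : G) ∈ PG from x.2).2
      (show ((y : X) : G) ∈ PG from y.2).2))⟩⟩
  have hnc : ¬ IsCyclic (P : Subgroup X) := by
    intro hc
    rw [hP] at hc
    obtain ⟨x, hx⟩ := hc.exists_generator
    have h1 : Nat.card PX = orderOf x := (orderOf_eq_card_of_forall_mem_zpowers hx).symm
    obtain ⟨v, hv⟩ := T.mem_J.1 (show ((x : X) : G) ∈ PG from x.2).2
    have h3 : x ^ 3 = 1 := Subtype.ext (Subtype.ext (by simp [← hv, T.q_cube]))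
    have := Nat.le_of_dvd (by norm_num) (orderOf_dvd_of_pow_eq_one h3)
    omega
  rcases Cfsg.Agent.S3347.result 3 (by norm_num) P hab hnc hidx with hres | hlen
  · refine absurd ?_ hres
    set K := Cfsg.pResidual 3 X
    have hRK : R ∈ K := mem_pResidual (Nat.Coprime.coprime_dvd_left (orderOf_dvd_of_pow_eq_one
      (show R ^ 2 = 1 from Subtype.ext (by simp [R, ← pow_mul, hr6]))) (by norm_num))
    refine eq_top_iff.2 ((Cfsg.Agent.Fusion.pResidual_sup_sylow P) ▸ sup_le le_rfl fun y hy => ?_)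
    rw [hP] at hy
    obtain ⟨v, hv, hvy⟩ := (hmP _).1 (Subgroup.mem_subgroupOf.1 hy)
    have h1 : R * y * R⁻¹ * y⁻¹ ∈ K := by
      rw [mul_assoc, mul_assoc]
      refine K.mul_mem hRK ?_
      rw [← mul_assoc]
      exact (inferInstance : K.Normal).conj_mem _ (K.inv_mem hRK) _
    have h3 : R * y * R⁻¹ * y⁻¹ = y := Subtype.ext (by
      simp only [Subgroup.coe_mul, Subgroup.coe_inv, R, ← hvy]
      rw [hr' v, ← T.q_neg, ← T.q_add, two_v3_7 v])
    rwa [h3] at h1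
  · set Q := Cfsg.pPrimeCore 3 X
    have hgen := Cfsg.Agent.S0058.result (A := (P : Subgroup X)) (K := Q) (hA := hnc)
      (hAK := fun x _ => Subgroup.normalizer_eq_top_iff.2 (inferInstance : Q.Normal) ▸ Subgroup.mem_top x)
      (hcop := by
        rw [hP, hPXc, show 9 = 3 ^ 2 by rfl]
        exact ((Cfsg.Agent.Fusion.card_pPrimeCore_coprime 3 X).symm).pow_left 2)
    have hQN : Q ≤ (Subgroup.normalizer (Subgroup.zpowers T.a : Set G)).subgroupOf X := by
      rw [← hgen]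
      refine iSup₂_le fun y hy x hx => Subgroup.mem_subgroupOf.2 ?_
      obtain ⟨hyP, hy1⟩ := hy
      rw [hP] at hyP
      obtain ⟨v, hv, hvy⟩ := (hmP _).1 (Subgroup.mem_subgroupOf.1 hyP)
      refine Two.cent_le h2 (v := v) (fun e => hy1 (Subtype.ext ?_)) ?_
      · rw [← hvy, e, T.q_zero]
        rfl
      · rw [hvy]
        exact congrArg Subtype.val (Subgroup.mem_centralizer_singleton_iff.1 hx.2)
    have htop : (⊤ : Subgroup X) ≤ (Subgroup.normalizer (Subgroup.zpowers T.a : Set G)).subgroupOf X := by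
      rw [← length_one hlen P]
      refine sup_le hQN fun x hx => Subgroup.mem_subgroupOf.2 (Two.normalizer_le h2 (hnorm x ?_))
      rwa [hP] at hx
    exact Subgroup.mem_subgroupOf.1 (htop (Subgroup.mem_top (⟨g, (hmX g).2 hg⟩ : X)))

end Conf

end Cfsg.Agent.Lie.PSpFourThreeFull
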