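import Mathlib.Data.Fin.Basic

/-!
Words for the signed monomial maps in the Weyl group of type E6.
-/

set_option autoImplicit false
set_option maxRecDepth 100000

namespace Cfsg.Agent.Lie.PSpFourThreeFull.W6

/-- Words inducing the forty-eight signed monomial maps on the axes. -/
def nWords : List (List (Fin 6)) := [
  [3, 2, 1, 3, 4, 5, 4, 3, 2, 1, 3, 4, 3, 2, 1, 3, 1, 0],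
  [3, 2, 1, 3, 4, 5, 4, 3, 2, 1, 3, 4, 3, 2, 1, 3, 0],
  [3, 2, 1, 3, 4, 5, 3, 2, 1, 3, 4, 3, 2, 1, 3, 1, 0],
  [3, 2, 1, 3, 4, 5, 3, 2, 1, 3, 4, 3, 2, 1, 3, 0],
  [3, 2, 1, 3, 4, 5, 0, 2, 3, 4, 1, 3],
  [3, 2, 1, 3, 4, 5, 0, 2, 3, 4, 1, 3, 1],
  [3, 2, 1, 3, 4, 5, 0, 2, 1, 3, 4, 1, 3],
  [3, 2, 1, 3, 4, 5, 0, 2, 1, 3, 4, 1, 3, 1],
  [3, 2, 1, 3, 4, 5, 4, 3, 2, 1, 3, 4, 3, 2, 1, 3, 1],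
  [3, 2, 1, 3, 4, 5, 4, 3, 2, 1, 3, 4, 3, 2, 1, 3],
  [3, 2, 1, 3, 4, 5, 3, 2, 1, 3, 4, 3, 2, 1, 3, 1],
  [3, 2, 1, 3, 4, 5, 3, 2, 1, 3, 4, 3, 2, 1, 3],
  [3, 2, 1, 3, 4, 5, 0, 2, 3, 4, 1, 3, 0],
  [3, 2, 1, 3, 4, 5, 0, 2, 3, 4, 1, 3, 1, 0],
  [3, 2, 1, 3, 4, 5, 0, 2, 1, 3, 4, 1, 3, 0],
  [3, 2, 1, 3, 4, 5, 0, 2, 1, 3, 4, 1, 3, 1, 0],
  [3, 4, 5, 1, 3, 4, 2, 3, 0, 2, 1, 3],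
  [3, 4, 5, 1, 3, 4, 2, 3, 0, 2, 1, 3, 1],
  [1, 3, 4, 5, 1, 3, 4, 2, 3, 0, 2, 1, 3],
  [1, 3, 4, 5, 1, 3, 4, 2, 3, 0, 2, 1, 3, 1],
  [3, 4, 5, 0, 2, 3, 4, 0, 2, 3, 1, 0],
  [3, 4, 5, 0, 2, 3, 4, 0, 2, 3, 0],
  [3, 4, 5, 2, 3, 4, 0, 2, 3, 1, 0],
  [3, 4, 5, 2, 3, 4, 0, 2, 3, 0],
  [3, 4, 5, 1, 3, 4, 2, 3, 0, 2, 1, 3, 0],
  [3, 4, 5, 1, 3, 4, 2, 3, 0, 2, 1, 3, 1, 0],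
  [1, 3, 4, 5, 1, 3, 4, 2, 3, 0, 2, 1, 3, 0],
  [1, 3, 4, 5, 1, 3, 4, 2, 3, 0, 2, 1, 3, 1, 0],
  [3, 4, 5, 0, 2, 3, 4, 0, 2, 3, 1],
  [3, 4, 5, 0, 2, 3, 4, 0, 2, 3],
  [3, 4, 5, 2, 3, 4, 0, 2, 3, 1],
  [3, 4, 5, 2, 3, 4, 0, 2, 3],
  [1, 3, 4, 2, 3, 0, 2, 1, 3, 4, 2, 3, 0, 2, 1, 3, 1, 0],
  [1, 3, 4, 2, 3, 0, 2, 1, 3, 4, 2, 3, 0, 2, 1, 3, 0],
  [3, 4, 2, 3, 0, 2, 1, 3, 4, 2, 3, 0, 2, 1, 3, 1, 0],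
  [3, 4, 2, 3, 0, 2, 1, 3, 4, 2, 3, 0, 2, 1, 3, 0],
  [],
  [1],
  [4],
  [4, 1],
  [1, 3, 4, 2, 3, 0, 2, 1, 3, 4, 2, 3, 0, 2, 1, 3, 1],
  [1, 3, 4, 2, 3, 0, 2, 1, 3, 4, 2, 3, 0, 2, 1, 3],
  [3, 4, 2, 3, 0, 2, 1, 3, 4, 2, 3, 0, 2, 1, 3, 1],
  [3, 4, 2, 3, 0, 2, 1, 3, 4, 2, 3, 0, 2, 1, 3],
  [0],
  [1, 0],
  [4, 0],
  [4, 1, 0]]

/-- A word centralising the product of the axes that leaves the normaliser. -/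
def caWord : List (Fin 6) := [3, 4, 5, 2, 1, 3, 1, 0]

end Cfsg.Agent.Lie.PSpFourThreeFull.W6
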