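import Cfsg.Agent.Lib.Lie.PSpFourThreeFull.W6
import Cfsg.Agent.Lib.Lie.PSpFourThreeFull.W6WordData
import Cfsg.Agent.Lib.Lie.PSpFourThreeFull.PlaneFacts

/-!
The elementary subgroup and its normaliser as words in the Weyl group of type E6.
-/

set_option autoImplicit false
set_option maxRecDepth 1000000
set_option synthInstance.maxSize 4000
set_option Elab.async false

namespace Cfsg.Agent.Lie.PSpFourThreeFull.W6

open Cfsg.Agent.Lie Cfsg.Agent.Lie.PSpFourThreeAmalgam

/-- The words of the axes. -/
def ew : Fin 3 → List (Fin 6) := ![[2, 0], [4, 5], 1 :: high]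

/-- The word of a vector. -/
def qw (v : V3) : List (Fin 6) :=
  (List.replicate v.1.val (ew 0)).flatten ++ (List.replicate v.2.1.val (ew 1)).flatten ++
    (List.replicate v.2.2.val (ew 2)).flatten

theorem nWords_ok : ∀ p : Fin 24 × Bool, (nWords.any fun w => (List.finRange 3).all fun i =>
    model.img (w ++ qw (unitV i) ++ w.reverse) == model.img (qw (smap p (unitV i)))) = true := by decide +kernel

theorem high_comm : ∀ i : Fin 6, i ∈ ([0, 2, 3, 4, 5] : List (Fin 6)) →
    model.img (high ++ [i]) = model.img ([i] ++ high) := by decide +kernel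

theorem high_sq : model.img (high ++ high) = model.img [] ∧ model.img high ≠ model.img [] := by decide +kernel

theorem distinct : model.img [1] ≠ model.img [3] ∧ model.img [0, 2] ≠ model.img [] := by decide +kernel

theorem ca_comm : model.img (caWord ++ qw (1, 1, 1)) = model.img (qw (1, 1, 1) ++ caWord) := by decide +kernel

theorem ca_out : ∀ v : V3, model.img (caWord ++ qw (0, 0, 1) ++ caWord.reverse) ≠ model.img (qw v) := by
  decide +kernel

/-- A conjugator and a vector for each representative of an involution. -/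
def repCert : List (List (Fin 6) × V3) := [([], (1, 1, 1)), ([], (0, 0, 1)), ([2, 3, 4, 0, 2, 1, 3], (0, 1, 2)),
  ([2, 1, 3], (0, 1, 0))]

theorem rep_comm : ∀ k : Fin 4, k ≠ 0 →
    (repCert.getD k.val ([], 0)).2 ≠ 0 ∧
    model.img ((repCert.getD k.val ([], 0)).1.reverse ++ reps.getD k.val [] ++ (repCert.getD k.val ([], 0)).1 ++
        qw (repCert.getD k.val ([], 0)).2) =
      model.img (qw (repCert.getD k.val ([], 0)).2 ++ ((repCert.getD k.val ([], 0)).1.reverse ++
        reps.getD k.val [] ++ (repCert.getD k.val ([], 0)).1)) := by decide +kernel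

theorem rep_not_refl : ∀ k : Fin 4, k ≠ 0 → ∀ ω ∈ refls, model.img (reps.getD k.val []) ≠ model.img ω := by
  decide +kernel

theorem reps_cases : ∀ ω ∈ reps, ∃ k : Fin 4, ω = reps.getD k.val [] := by decide +kernel

theorem reps_zero : reps.getD 0 [] = [0] := by decide +kernel

end Cfsg.Agent.Lie.PSpFourThreeFull.W6
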