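import Cfsg.Agent.Lib.Lie.PSpFourThreeFull.ReflOrder
import Cfsg.Agent.Lib.Lie.PSpFourThreeFull.QuatSmall
import Cfsg.Agent.Lib.Lie.PSpFourThreeFull.Nodes
import Cfsg.Agent.Lib.Lie.PSpFourThreeFull.W6Words
import Cfsg.Agent.Lib.Lie.PSpFourThreeFull.TwoInvol

/-!
The image of the Weyl group when the centralisers of the axes normalise the elementary subgroup.
-/

set_option autoImplicit false
set_option linter.unusedSectionVars false
set_option linter.style.haveILetI false
set_option maxRecDepth 100000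
set_option synthInstance.maxSize 4000
set_option synthInstance.maxHeartbeats 400000

namespace Cfsg.Agent.Lie.PSpFourThreeFull

open Cfsg.Agent.Lie.PSpFourThreeAmalgam
open Cfsg.Agent.Small.ShapeThree (M)

theorem mU_axes : mU (0, 0, 1) = ((1, 0, 0) : V3) ∧ mU (1, 0, 0) = ((0, 1, 0) : V3) := by decide +kernel

theorem one_third : ∀ i : ZMod 3, (0, 0, i) + sgC ((0, 0, i) : V3) = 0 := by decide +kernel

theorem invert_third : ∀ i : ZMod 3, i ≠ 0 → i = 1 ∨ -i = 1 := by decide +kernel

theorem third_of_sum : ∀ u : V3, u + sgC u = 0 → u = (0, 0, u.2.2) := by decide +kernel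

/-- The six coset representatives. -/
def six_lift (k : Fin 6) : M := if k.1 < 3 then sm ^ k.1 else tm * sm ^ (k.1 - 3)

theorem six_lift_inj : ∀ u w : V3, ∀ i j : Fin 6, jc u * six_lift i = jc w * six_lift j → u = w ∧ i = j := by
  decide +kernel

/-- The simple reflections' group of type E6. -/
abbrev W6G : Type := (CoxeterMatrix.E₆ : CoxeterMatrix (Fin 6)).Group

namespace Conf.Signed

variable {G : Type*} [Group G] [Finite G] {T : Conf G} (hS : T.Signed)
include hS

/-- The quaternion subgroups commute when the axis centraliser normalises the subgroup. -/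
theorem comm_A (hA : T.centQ (0, 0, 1) ≤ Subgroup.normalizer (T.J : Set G)) : hS.Comm := by
  rcases hS.comm_or_big (fun x hx => hS.pair_cent hx) with h | ⟨K, hKQ, hK3, hE, x, hx, hxe, h1, ht⟩
  · exact h
  exfalso
  have hxa := hS.comm_a_of_normal (hE T.a_mem_Eg) hK3 hx (hA (T.mem_centQ.2 hxe))
  obtain ⟨m, hm, rfl⟩ := T.mem_Qg_of hxa (hKQ x hx _ T.tm_mem_Qg)
    (hK3.coprime_dvd_left (Subgroup.orderOf_dvd_natCard K hx))
  obtain ⟨he, hg⟩ := Qm_mem_form hm
  rcases Qm_center m.g hg
    (by rw [← he]; exact T.inj (by rw [map_mul, map_mul]; exact hKQ _ hx _ T.qm_mem))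
    (by rw [← he]; exact T.inj (by rw [map_mul, map_mul]; exact hKQ _ hx _ (T.qe_mem 1))) with e | e <;>
    rw [← he] at e <;> subst e
  · exact h1 T.φ.map_one
  · exact ht rfl

variable (hc : hS.Comm)
include hc

/-- The image of a word. -/
noncomputable def wimg (ω : List (Fin 6)) : G := hS.psi hc (W6.model.pr ω)

theorem wimg_single (i : Fin 6) : hS.wimg hc [i] = hS.node i := by
  rw [wimg, show W6.model.pr [i] = (CoxeterMatrix.E₆ : CoxeterMatrix (Fin 6)).simple i by
    simp [WordModel.pr]; rfl]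
  exact hS.psi_simple hc i

theorem wimg_append (ω ω' : List (Fin 6)) : hS.wimg hc (ω ++ ω') = hS.wimg hc ω * hS.wimg hc ω' := by
  rw [wimg, W6.model.pr_append, map_mul]
  rfl

theorem wimg_nil : hS.wimg hc [] = 1 := by rw [wimg, W6.model.pr_nil, map_one]

theorem wimg_reverse (ω : List (Fin 6)) : hS.wimg hc ω.reverse = (hS.wimg hc ω)⁻¹ := by
  rw [wimg, W6.model.pr_reverse, map_inv]
  rfl

theorem wimg_congr {ω ω' : List (Fin 6)} (h : W6.model.img ω = W6.model.img ω') : hS.wimg hc ω = hS.wimg hc ω' := by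
  rw [wimg, wimg, W6.model.pr_eq h]

theorem wimg_mem (ω : List (Fin 6)) : hS.wimg hc ω ∈ (hS.psi hc).range := ⟨_, rfl⟩

theorem ew_zero : hS.wimg hc (W6.ew 0) = T.q (1, 0, 0) := by
  show hS.wimg hc ([2] ++ [0]) = _
  rw [hS.wimg_append hc, hS.wimg_single hc, hS.wimg_single hc]
  show T.rot hS.B * T.rot hS.R = _
  rw [← map_mul, B, mul_assoc, hS.R_invol, mul_one, T.rot_q, mU_axes.1]

theorem ew_one : hS.wimg hc (W6.ew 1) = T.q (0, 1, 0) := by
  show hS.wimg hc ([4] ++ [5]) = _
  rw [hS.wimg_append hc, hS.wimg_single hc, hS.wimg_single hc]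
  show T.rot (T.rot hS.B) * T.rot (T.rot hS.R) = _
  rw [← map_mul, ← map_mul, B, mul_assoc, hS.R_invol, mul_one, T.rot_q, T.rot_q, mU_axes.1, mU_axes.2]

/-- The homomorphism is injective. -/
theorem psi_inj : Function.Injective (hS.psi hc) := by
  rw [← MonoidHom.ker_eq_bot_iff]
  by_contra h
  have h1 := W6.rot_mem _ h
  rw [MonoidHom.mem_ker, map_mul] at h1
  change hS.psi hc (CoxeterMatrix.E₆.simple 0) * hS.psi hc (CoxeterMatrix.E₆.simple 2) = 1 at h1
  rw [hS.psi_simple, hS.psi_simple] at h1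
  change T.rot hS.R * T.rot hS.B = 1 at h1
  rw [← map_mul] at h1
  have h2 : hS.R * hS.B = 1 := by
    have := congrArg (fun x => T.rot (T.rot x)) h1
    simpa [T.rot_three] using this
  have h3 : T.q (0, 0, 1) = 1 := by
    have h4 : hS.B = hS.R := by rw [eq_inv_of_mul_eq_one_right h2, hS.R_inv]
    calc T.q (0, 0, 1) = hS.B * hS.R := by rw [B, mul_assoc, hS.R_invol, mul_one]
      _ = 1 := by rw [h4, hS.R_invol]
  exact axis_facts.1 (T.q_eq_one.1 h3)

theorem wimg_ne {ω ω' : List (Fin 6)} (h : W6.model.img ω ≠ W6.model.img ω') : hS.wimg hc ω ≠ hS.wimg hc ω' :=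
  fun e => W6.model.pr_ne h (hS.psi_inj hc e)

/-- The highest root gives the reflection. -/
theorem high_eq : hS.wimg hc W6.high = hS.R := by
  have hcm : ∀ i : Fin 6, i ∈ ([0, 2, 3, 4, 5] : List (Fin 6)) →
      hS.wimg hc W6.high * hS.node i = hS.node i * hS.wimg hc W6.high := fun i hi => by
    rw [← hS.wimg_single hc i, ← hS.wimg_append hc, ← hS.wimg_append hc, hS.wimg_congr hc (W6.high_comm i hi)]
  have hsq : hS.wimg hc W6.high * hS.wimg hc W6.high = 1 := by
    rw [← hS.wimg_append hc, hS.wimg_congr hc W6.high_sq.1, hS.wimg_nil hc]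
  have hne : hS.wimg hc W6.high ≠ 1 := hS.wimg_nil hc ▸ hS.wimg_ne hc W6.high_sq.2
  set x := hS.wimg hc W6.high
  have h1 : x * T.q (1, 0, 0) = T.q (1, 0, 0) * x := by
    rw [← hS.ew_zero hc, show W6.ew 0 = [2] ++ [0] from rfl, hS.wimg_append hc, hS.wimg_single hc, hS.wimg_single hc]
    exact ((show Commute x (hS.node 2) from hcm 2 (by simp)).mul_right (hcm 0 (by simp))).eq
  have h2 : x * T.q (0, 1, 0) = T.q (0, 1, 0) * x := by
    rw [← hS.ew_one hc, show W6.ew 1 = [4] ++ [5] from rfl, hS.wimg_append hc, hS.wimg_single hc, hS.wimg_single hc]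
    exact ((show Commute x (hS.node 4) from hcm 4 (by simp)).mul_right (hcm 5 (by simp))).eq
  obtain ⟨p, hp⟩ := hS.acts_smap (hS.axes_cent h1 h2)
  rcases plane_fix p ((Acts.comm_iff T hp).1 h1) ((Acts.comm_iff T hp).1 h2) with h | h
  · exfalso
    obtain ⟨u, hu⟩ := T.mem_J.1 (T.mem_J_of_acts (fun v => by rw [hp v, h v]; rfl : T.Acts x id))
    have h3 := T.q_pow_eq hu
    rw [pow_succ, pow_two, hsq, one_mul] at h3
    exact hne h3
  · obtain ⟨u, hu⟩ := T.mem_J.1 (T.mem_J_of_acts (show T.Acts (x * hS.R) id from fun v => by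
      rw [Acts.mul T hp hS.R_acts v]
      show T.q (smap p (sgC v)) = _
      rw [h, sgC_two]
      rfl))
    have hxu : x = T.q u * hS.R := by rw [hu, mul_assoc, hS.R_invol, mul_one]
    have hu3 : u = (0, 0, u.2.2) := by
      refine third_of_sum u (T.q_inj ?_)
      rw [T.q_zero, ← hsq, hxu, T.q_add,
        show T.q u * hS.R * (T.q u * hS.R) = T.q u * (hS.R * T.q u * hS.R) by group,
        show hS.R * T.q u * hS.R = hS.R * T.q u * hS.R⁻¹ by rw [hS.R_inv], hS.R_acts]
    by_cases hi : u.2.2 = 0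
    · rw [hi] at hu3
      rw [hxu, hu3, show ((0, 0, 0) : V3) = 0 from rfl, T.q_zero, one_mul]
    exfalso
    have hC : Commute hS.C (T.q u) := by
      rw [show T.q u = x * hS.R by rw [hu]]
      exact (show Commute hS.C x from (hcm 3 (by simp)).symm).mul_right (hS.C_R hc)
    have hCe : Commute hS.C (T.q (0, 0, 1)) := by
      rcases invert_third _ hi with h' | h'
      · rwa [hu3, h'] at hC
      · have := hC.inv_right
        rwa [← T.q_neg, hu3, show (-(0, 0, u.2.2) : V3) = (0, 0, -u.2.2) by simp, h'] at this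
    have hCB : Commute hS.C hS.B := hCe.mul_right (hS.C_R hc)
    have h3 := hS.C_B hc
    rw [hCB.mul_pow, pow_succ, pow_two, hS.C_invol, one_mul, pow_succ, pow_two, hS.B_invol, one_mul] at h3
    have h4 : hS.wimg hc [1] = hS.wimg hc [3] := by
      rw [hS.wimg_single hc, hS.wimg_single hc]
      show hS.B = hS.C
      exact (eq_inv_of_mul_eq_one_left h3).trans (inv_eq_of_mul_eq_one_right hS.B_invol) |>.symm
    exact hS.wimg_ne hc W6.distinct.1 h4

theorem ew_two : hS.wimg hc (W6.ew 2) = T.q (0, 0, 1) := by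
  show hS.wimg hc ([1] ++ W6.high) = _
  rw [hS.wimg_append hc, hS.high_eq hc, hS.wimg_single hc]
  show hS.B * hS.R = _
  rw [B, mul_assoc, hS.R_invol, mul_one]

theorem wimg_replicate (k : ℕ) (ω : List (Fin 6)) :
    hS.wimg hc (List.replicate k ω).flatten = hS.wimg hc ω ^ k := by
  induction k with
  | zero => simpa using hS.wimg_nil hc
  | succ k ih => rw [List.replicate_succ, List.flatten_cons, hS.wimg_append hc, ih, pow_succ']

theorem wimg_qw (v : V3) : hS.wimg hc (W6.qw v) = T.q v := by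
  rw [W6.qw, hS.wimg_append hc, hS.wimg_append hc, hS.wimg_replicate hc, hS.wimg_replicate hc,
    hS.wimg_replicate hc, hS.ew_zero hc, hS.ew_one hc, hS.ew_two hc, ← T.q_smul, ← T.q_smul, ← T.q_smul,
    ← T.q_add, ← T.q_add]
  congr 1
  simp

theorem R_mem : hS.R ∈ (hS.psi hc).range := hS.high_eq hc ▸ hS.wimg_mem hc _

theorem J_le : T.J ≤ (hS.psi hc).range := fun x hx => by
  obtain ⟨v, rfl⟩ := T.mem_J.1 hx
  exact hS.wimg_qw hc v ▸ hS.wimg_mem hc _

/-- The normaliser of the subgroup lies in the image. -/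
theorem normalizer_le : Subgroup.normalizer (T.J : Set G) ≤ (hS.psi hc).range := by
  intro g hg
  obtain ⟨p, hp⟩ := hS.acts_smap hg
  obtain ⟨w, -, hw⟩ := List.any_eq_true.1 (W6.nWords_ok p)
  simp only [List.all_eq_true, List.mem_finRange, beq_iff_eq, forall_true_left] at hw
  set x := hS.wimg hc w
  have hx : ∀ i : Fin 3, x * T.q (unitV i) * x⁻¹ = T.q (smap p (unitV i)) := fun i => by
    rw [← hS.wimg_qw hc, ← hS.wimg_qw hc, ← hS.wimg_reverse hc, ← hS.wimg_append hc, ← hS.wimg_append hc,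
      hS.wimg_congr hc (hw i)]
  have hall : T.Acts x (smap p) := by
    intro v
    have hadd : ∀ a b : V3, x * T.q (a + b) * x⁻¹ = x * T.q a * x⁻¹ * (x * T.q b * x⁻¹) := fun a b => by
      rw [conj_mul, T.q_add]
    have hn : ∀ (n : ℕ) (i : Fin 3), x * T.q (n • unitV i) * x⁻¹ = T.q (smap p (n • unitV i)) := by
      intro n i
      induction n with
      | zero =>
        have hz : smap p 0 = 0 := by
          have := smap_add p 0 0
          rwa [add_zero, left_eq_add] at this
        rw [zero_smul, hz, T.q_zero, mul_one, mul_inv_cancel]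
      | succ n ih => rw [succ_nsmul, hadd, ih, hx, smap_add, T.q_add]
    rw [eq_sum v, hadd, hadd, smap_add, smap_add, T.q_add, T.q_add]
    exact congrArg₂ (· * ·) (congrArg₂ (· * ·) (hn _ 0) (hn _ 1)) (hn _ 2)
  have hxN := Acts.mem_normalizer T hall
  have hJ : x⁻¹ * g ∈ T.J := T.mem_J_of_acts fun v => by
    calc x⁻¹ * g * T.q v * (x⁻¹ * g)⁻¹ = x⁻¹ * (g * T.q v * g⁻¹) * x := by group
      _ = x⁻¹ * (x * T.q v * x⁻¹) * x := by rw [hp v, hall v]
      _ = T.q v := by group
  have : g = x * (x⁻¹ * g) := by group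
  rw [this]
  exact Subgroup.mul_mem _ (hS.wimg_mem hc _) (hS.J_le hc hJ)

/-- The centraliser of the element of order three lies in the image. -/
theorem range_le : T.φ.range ≤ (hS.psi hc).range := by
  haveI : Finite M := Finite.of_injective _ T.inj
  set A := (hS.psi hc).range.comap T.φ with hA
  set x := hS.wimg hc W6.caWord
  obtain ⟨m, hm⟩ := T.cent_a.1 (show x * T.a = T.a * x by
    rw [← T.q_dia, ← hS.wimg_qw hc, ← hS.wimg_append hc, ← hS.wimg_append hc]
    exact hS.wimg_congr hc W6.ca_comm)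
  have hmA : m ∈ A := ⟨_, hm.symm⟩
  have hout : x ∉ Subgroup.normalizer (T.J : Set G) := by
    intro hxN
    obtain ⟨p, hp⟩ := hS.acts_smap hxN
    refine hS.wimg_ne hc (W6.ca_out (smap p (0, 0, 1))) ?_
    rw [hS.wimg_append hc, hS.wimg_append hc, hS.wimg_reverse hc, hS.wimg_qw hc, hS.wimg_qw hc]
    exact hp _
  set A₀ := (Subgroup.normalizer (T.J : Set G)).comap T.φ
  have hA₀ : A₀ ≤ A := Subgroup.comap_mono (hS.normalizer_le hc)
  have hlt : A₀ < A := lt_of_le_of_ne hA₀ fun h => hout (hm ▸ (show m ∈ A₀ from h ▸ hmA))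
  have h162 : 162 ≤ Nat.card A₀ := by
    let f : Jm × Fin 6 → A₀ := fun p => ⟨(p.1 : M) * six_lift p.2, by
      show T.φ ((p.1 : M) * six_lift p.2) ∈ Subgroup.normalizer (T.J : Set G)
      rw [map_mul]
      refine Subgroup.mul_mem _ (Subgroup.le_normalizer ⟨_, p.1.2, rfl⟩) ?_
      unfold six_lift
      split
      · rw [map_pow]; exact Subgroup.pow_mem _ T.sm_normal _
      · rw [map_mul, map_pow]; exact Subgroup.mul_mem _ T.tm_normal (Subgroup.pow_mem _ T.sm_normal _)⟩
    have := Nat.card_le_card_of_injective f fun p q h => by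
      obtain ⟨⟨a, ha⟩, i⟩ := p
      obtain ⟨⟨b, hb⟩, j⟩ := q
      obtain ⟨u, rfl⟩ := (inJ_iff a).1 (mem_Jm.1 ha)
      obtain ⟨w, rfl⟩ := (inJ_iff b).1 (mem_Jm.1 hb)
      obtain ⟨rfl, rfl⟩ := six_lift_inj u w i j (congrArg Subtype.val h)
      rfl
    rwa [Nat.card_prod, card_Jm, Nat.card_fin] at this
  have hd : Nat.card A₀ ∣ Nat.card A := Subgroup.card_dvd_of_le hA₀
  have hne : Nat.card A₀ ≠ Nat.card A := fun h => hlt.ne (Subgroup.eq_of_le_of_card_ge hA₀ h.ge)
  have h2 : A.index ≤ 2 := by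
    have h1 := A.card_mul_index
    rw [M.card_eq] at h1
    obtain ⟨k, hk⟩ := hd
    have hk2 : 2 ≤ k := by
      have := Nat.card_pos (α := A)
      rcases k with _ | _ | k <;> simp_all
    have : 324 ≤ Nat.card A := by
      rw [hk]
      exact Nat.le_trans (by norm_num) (Nat.mul_le_mul h162 hk2)
    by_contra hcon
    have := Nat.mul_le_mul this (show 3 ≤ A.index by omega)
    omega
  have htop : A = ⊤ := by
    rw [eq_top_iff]
    intro y _
    have hn : A.Normal := by
      rcases Nat.lt_or_eq_of_le h2 with h | h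
      · rw [Subgroup.index_eq_one.1 (by have := A.index_ne_zero_of_finite; omega : A.index = 1)]
        infer_instance
      · exact Subgroup.normal_of_index_eq_two h
    obtain ⟨a, b, c, d, ea, eb, ec, ed, rfl⟩ := model_three_gen y
    have h3 : ∀ z : M, z * z * z = 1 → z ∈ A := fun z hz => by
      have h4 := Subgroup.pow_index_mem A z
      rcases Nat.lt_or_eq_of_le h2 with h | h
      · rw [show A.index = 1 by have := A.index_ne_zero_of_finite; omega, pow_one] at h4
        exact h4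
      · rw [h, pow_two] at h4
        have h5 := A.inv_mem h4
        rwa [inv_eq_of_mul_eq_one_right hz] at h5
    exact A.mul_mem (A.mul_mem (A.mul_mem (h3 a ea) (h3 b eb)) (h3 c ec)) (h3 d ed)
  rintro _ ⟨y, rfl⟩
  exact (htop ▸ Subgroup.mem_top y : y ∈ A)

end Conf.Signed

end Cfsg.Agent.Lie.PSpFourThreeFull
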