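import Cfsg.Agent.Lib.Lie.PSpFourThreeFull.OgFacts

/-!
Finite facts for the triples of commuting reflections.
-/

set_option autoImplicit false
set_option maxRecDepth 100000
set_option synthInstance.maxSize 4000
set_option synthInstance.maxHeartbeats 400000
set_option Elab.async false

namespace Cfsg.Agent.Lie.PSpFourThreeFull

open Cfsg.Agent.Lie.PSpFourThreeAmalgam
open Cfsg.Agent.Small.ShapeThree (M omega S)

theorem qe_sep : ∀ i j x y : ZMod 3, (qe i)⁻¹ * qe j = jc (x, y, 0) ∨ (qe i)⁻¹ * qe j = jc (x, y, 0) * tm → i = j := by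
  decide +kernel

theorem qe_out : ∀ i x y : ZMod 3, qe i ≠ jc (x, y, 0) ∧ qe i ≠ jc (x, y, 0) * tm := by decide +kernel

theorem qe_swap : ∀ i j : ZMod 3, ∃ e : M, (e = 1 ∨ e = tm) ∧ qe i * qe j = qe j * qe i * e ∧
    (qe i)⁻¹ * (qe j)⁻¹ = (qe j)⁻¹ * (qe i)⁻¹ * e := by decide +kernel

theorem qe_triple : (qe 0 * qe 2 * qe 1 = 1 ∨ qe 0 * qe 2 * qe 1 = tm) ∧
    ((qe 0)⁻¹ * (qe 2)⁻¹ * (qe 1)⁻¹ = 1 ∨ (qe 0)⁻¹ * (qe 2)⁻¹ * (qe 1)⁻¹ = tm) := by decide +kernel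

theorem triple_perm : ∀ j : ZMod 3 → ZMod 3, (∀ a b, j a = j b → a = b) →
    (∀ i, j i = i) ∨ (∀ i, j (-i) = i) ∨ ∃ c : ZMod 3, c ≠ 0 ∧ ((∀ i, j i = i + c) ∨ ∀ i, j (-i) = i + c) := by
  decide +kernel

theorem zmod_nonzero : ∀ a c : ZMod 3, a ≠ 0 → c ≠ 0 → a * c ≠ 0 := by decide +kernel

namespace Axis

/-- The three transpositions. -/
def swp (i : ZMod 3) : P6 := if i = 0 then rho else if i = 1 then Equiv.swap 1 4 else Equiv.swap 2 5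

theorem swp_facts : (∀ i, inO (swp i) ∧ swp i ≠ 1) ∧ (∀ i j, swp i = swp j → i = j) ∧
    (∀ i, ∃ h : P6, h * w1 * h⁻¹ = swp i) ∧ (∀ i, w1 * w2 * swp i * (w1 * w2)⁻¹ = swp (-i)) ∧
    (∀ σ, σ = rho ∨ σ = Equiv.swap 1 4 ∨ σ = Equiv.swap 2 5 → ∃ i, σ = swp i) ∧
    (∀ j : ZMod 3 → ZMod 3, (∀ a b, j a = j b → a = b) → swp (j 0) * swp (j 2) * swp (j 1) = tau) := by
  decide +kernel

theorem swp_gen : ∀ σ, inO σ → σ = 1 ∨ (∃ i, σ = swp i) ∨ (∃ i j, σ = swp i * swp j) ∨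
    σ = swp 0 * swp 1 * swp 2 := by decide +kernel

end Axis

end Cfsg.Agent.Lie.PSpFourThreeFull
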