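import Cfsg.Agent.Lib.Lie.PSpFourThreeFull.CommB
import Cfsg.Agent.Lib.Lie.PSpFourThreeFull.CentLeftFacts

/-!
The quaternion group centralises the elementary subgroup of order eight.
-/

set_option autoImplicit false
set_option linter.unusedSectionVars false
set_option linter.style.haveILetI false
set_option maxRecDepth 100000
set_option synthInstance.maxSize 4000
set_option synthInstance.maxHeartbeats 400000

namespace Cfsg.Agent.Lie.PSpFourThreeFull

open Cfsg.Agent.Lie.PSpFourThreeAmalgam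
open Cfsg.Agent.Small.ShapeThree (M)

theorem two_ne : (2 : ZMod 3) ≠ 0 := by decide

/-- An element of two-power order does not move three points cyclically. -/
theorem no_cycle {G : Type*} [Group G] {y : G} {n : ℕ} (hy : y ^ 2 ^ n = 1) (f : ZMod 3 → G)
    (hf : ∀ a b, f a = f b → a = b) {c : ZMod 3} (hc : c ≠ 0) (h : ∀ i, y * f i * y⁻¹ = f (i + c)) : False := by
  have hit : ∀ (k : ℕ) (i : ZMod 3), y ^ k * f i * (y ^ k)⁻¹ = f (i + (k : ZMod 3) * c) := by
    intro k
    induction k with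
    | zero => intro i; simp
    | succ k ih =>
      intro i
      rw [show y ^ (k + 1) * f i * (y ^ (k + 1))⁻¹ = y ^ k * (y * f i * y⁻¹) * (y ^ k)⁻¹ by rw [pow_succ]; group,
        h, ih]
      congr 1
      push_cast
      ring
  have h1 := hit (2 ^ n) 0
  rw [hy, one_mul, inv_one, mul_one] at h1
  have h2 := hf _ _ h1
  rw [zero_add] at h2
  haveI : Fact (Nat.Prime 3) := ⟨Nat.prime_three⟩
  refine zmod_nonzero _ c ?_ hc h2.symm
  push_cast
  exact pow_ne_zero _ two_ne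

namespace Conf

variable {G : Type*} [Group G] [Finite G] (T : Conf G)

theorem qe_sq (i : ZMod 3) : T.φ (qe i) * T.φ (qe i) = T.φ tm := by
  rw [← map_mul]
  exact congrArg T.φ ((by decide +kernel : ∀ i, qe i * qe i = tm) i)

namespace Signed

variable {T} (hS : T.Signed)
include hS

/-- The conjugates of the reflection by the roots. -/
noncomputable def Cn (i : ZMod 3) : G := T.φ (qe i) * hS.R * (T.φ (qe i))⁻¹

theorem Cn_sq (i : ZMod 3) : hS.Cn i * hS.Cn i = 1 := by
  rw [Cn, conj_mul, hS.R_invol, mul_one, mul_inv_cancel]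

theorem Cn_tm (i : ZMod 3) : hS.Cn i * T.φ tm = T.φ tm * hS.Cn i := by
  have h : Commute (T.φ (qe i)) (T.φ tm) := T.Qg_comm_t (T.qe_mem i)
  exact ((h.mul_left hS.R_tm).mul_left h.inv_left).eq

theorem Cn_not_R (i : ZMod 3) : hS.Cn i ≠ hS.R := fun h => by
  obtain ⟨x, y, h1 | h1⟩ := hS.cent_R (T.Qg_comm_a (T.qe_mem i)) (mul_inv_eq_iff_eq_mul.1 h)
  · exact (qe_out i x y).1 (T.inj h1)
  · exact (qe_out i x y).2 (T.inj (h1.trans (map_mul T.φ _ _).symm))

theorem Cn_inj {i j : ZMod 3} (h : hS.Cn i = hS.Cn j) : i = j := by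
  set w := (T.φ (qe i))⁻¹ * T.φ (qe j) with hw
  have hR : w * hS.R = hS.R * w := by
    calc w * hS.R = (T.φ (qe i))⁻¹ * hS.Cn j * T.φ (qe j) := by rw [hw, Cn]; group
      _ = _ := by rw [← h, hw, Cn]; group
  have ha : w * T.a = T.a * w :=
    ((show Commute (T.φ (qe i)) T.a from T.Qg_comm_a (T.qe_mem i)).inv_left.mul_left (T.Qg_comm_a (T.qe_mem j))).eq
  obtain ⟨x, y, h1 | h1⟩ := hS.cent_R ha hR
  · exact qe_sep i j x y (Or.inl (T.inj (by rw [map_mul, map_inv]; exact h1)))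
  · exact qe_sep i j x y (Or.inr (T.inj (by rw [map_mul, map_inv, map_mul]; exact h1)))

/-- The product of a root with its image. -/
theorem Cn_form (i : ZMod 3) : hS.Cn i = T.φ (qe i) * (hS.R * (T.φ (qe i))⁻¹ * hS.R) * hS.R := by
  rw [Cn, mul_assoc (T.φ (qe i)) (hS.R * (T.φ (qe i))⁻¹ * hS.R), mul_assoc (hS.R * (T.φ (qe i))⁻¹),
    hS.R_invol, mul_one, mul_assoc]

theorem comm_inv (hc : hS.Comm) (i j : ZMod 3) :
    Commute (T.φ (qe i)) (hS.R * (T.φ (qe j))⁻¹ * hS.R) := by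
  have h := (hS.comm_shift hc i j).inv_right
  rwa [show (hS.R * T.φ (qe j) * hS.R)⁻¹ = hS.R * (T.φ (qe j))⁻¹ * hS.R by
    simp only [mul_inv_rev, hS.R_inv, mul_assoc]] at h

theorem Cn_R (hc : hS.Comm) (i : ZMod 3) : Commute (T.φ (qe i) * (hS.R * (T.φ (qe i))⁻¹ * hS.R)) hS.R := by
  set u := T.φ (qe i)
  have h0 : u * u = T.φ tm := T.qe_sq i
  have hu : u⁻¹ = u * T.φ tm := by
    rw [inv_eq_iff_mul_eq_one, ← mul_assoc, h0, T.tm_invol]
  have ht : Commute hS.R (T.φ tm) := hS.R_tm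
  have hut : Commute u (T.φ tm) := T.Qg_comm_t (T.qe_mem i)
  have hP : Commute u (hS.R * u * hS.R) := hS.comm_shift hc i i
  have key : hS.R * (u * (hS.R * u⁻¹ * hS.R)) * hS.R = u * (hS.R * u⁻¹ * hS.R) := by
    calc hS.R * (u * (hS.R * u⁻¹ * hS.R)) * hS.R = hS.R * u * hS.R * u⁻¹ * (hS.R * hS.R) := by group
      _ = hS.R * u * hS.R * u * T.φ tm := by rw [hS.R_invol, mul_one, hu, ← mul_assoc]
      _ = u * (hS.R * u * hS.R) * T.φ tm := by rw [hP.eq]
      _ = u * (hS.R * (u * T.φ tm) * hS.R) := by simp only [mul_assoc, ht.eq]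
      _ = _ := by rw [hu]
  show u * (hS.R * u⁻¹ * hS.R) * hS.R = hS.R * (u * (hS.R * u⁻¹ * hS.R))
  nth_rewrite 1 [← key]
  rw [mul_assoc _ hS.R hS.R, hS.R_invol, mul_one]

theorem Cn_comm (hc : hS.Comm) (i j : ZMod 3) : hS.Cn i * hS.Cn j = hS.Cn j * hS.Cn i := by
  set w : ZMod 3 → G := fun k => T.φ (qe k) * (hS.R * (T.φ (qe k))⁻¹ * hS.R) with hw
  obtain ⟨e, he, e1, e2⟩ := qe_swap i j
  have hpair : ∀ i j, w i * w j = T.φ (qe i * qe j) * (hS.R * T.φ ((qe i)⁻¹ * (qe j)⁻¹) * hS.R) := fun i j => by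
    simp only [hw]
    rw [(hS.comm_inv hc j i).symm.mul_mul_mul_comm, map_mul, map_mul, map_inv, map_inv]
    congr 1
    calc hS.R * (T.φ (qe i))⁻¹ * hS.R * (hS.R * (T.φ (qe j))⁻¹ * hS.R)
        = hS.R * (T.φ (qe i))⁻¹ * (hS.R * hS.R) * (T.φ (qe j))⁻¹ * hS.R := by group
      _ = _ := by rw [hS.R_invol]; group
  have heR : Commute hS.R (T.φ e) := by
    rcases he with rfl | rfl
    · rw [map_one]; exact Commute.one_right _
    · exact hS.R_tm
  have hee : T.φ e * T.φ e = 1 := by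
    rcases he with rfl | rfl
    · rw [map_one, one_mul]
    · exact T.tm_invol
  have hec : ∀ z : G, z ∈ T.Qg → Commute z (T.φ e) := fun z hz => by
    rcases he with rfl | rfl
    · rw [map_one]; exact Commute.one_right _
    · exact T.Qg_comm_t hz
  have hw2 : w i * w j = w j * w i := by
    rw [hpair, hpair, e1, e2, map_mul, map_mul _ _ e]
    set A := T.φ (qe j * qe i)
    set B := T.φ ((qe j)⁻¹ * (qe i)⁻¹)
    have hB : B ∈ T.Qg := ⟨_, Qm.mul_mem (Qm.inv_mem (qe_Qm j)) (Qm.inv_mem (qe_Qm i)), rfl⟩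
    have h1 : hS.R * (B * T.φ e) * hS.R = hS.R * B * hS.R * T.φ e := by
      simp only [mul_assoc, heR.eq]
    have h2 : Commute (hS.R * B * hS.R) (T.φ e) := (heR.mul_left (hec B hB)).mul_left heR
    rw [h1, h2.eq, ← mul_assoc, mul_assoc A, hee, mul_one]
  have hi : Commute (w i) hS.R := hS.Cn_R hc i
  have hj : Commute (w j) hS.R := hS.Cn_R hc j
  rw [hS.Cn_form, hS.Cn_form]
  show w i * hS.R * (w j * hS.R) = w j * hS.R * (w i * hS.R)
  rw [hj.symm.mul_mul_mul_comm, hi.symm.mul_mul_mul_comm, hw2]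

theorem Cn_comm_R (hc : hS.Comm) (i : ZMod 3) : Commute (hS.Cn i) hS.R := by
  rw [hS.Cn_form]
  exact (hS.Cn_R hc i).mul_left (Commute.refl _)

theorem Cn_prod (hc : hS.Comm) :
    hS.Cn 0 * hS.Cn 2 * hS.Cn 1 = hS.R ∨ hS.Cn 0 * hS.Cn 2 * hS.Cn 1 = hS.R * T.φ tm := by
  set w : ZMod 3 → G := fun k => T.φ (qe k) * (hS.R * (T.φ (qe k))⁻¹ * hS.R) with hw
  have hwR : ∀ k, Commute (w k) hS.R := hS.Cn_R hc
  have h1 : hS.Cn 0 * hS.Cn 2 * hS.Cn 1 = w 0 * w 2 * w 1 * hS.R := by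
    rw [hS.Cn_form, hS.Cn_form, hS.Cn_form]
    show w 0 * hS.R * (w 2 * hS.R) * (w 1 * hS.R) = _
    rw [(hwR 2).symm.mul_mul_mul_comm, hS.R_invol, mul_one, ← mul_assoc]
  have h2 : w 0 * w 2 * w 1 = T.φ (qe 0 * qe 2 * qe 1) *
      (hS.R * T.φ ((qe 0)⁻¹ * (qe 2)⁻¹ * (qe 1)⁻¹) * hS.R) := by
    simp only [hw]
    rw [(hS.comm_inv hc 2 0).symm.mul_mul_mul_comm]
    rw [((hS.comm_inv hc 1 0).mul_right (hS.comm_inv hc 1 2)).symm.mul_mul_mul_comm, map_mul, map_mul, map_mul,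
      map_mul, map_inv, map_inv, map_inv]
    congr 1
    calc hS.R * (T.φ (qe 0))⁻¹ * hS.R * (hS.R * (T.φ (qe 2))⁻¹ * hS.R) * (hS.R * (T.φ (qe 1))⁻¹ * hS.R)
        = hS.R * (T.φ (qe 0))⁻¹ * (hS.R * hS.R) * (T.φ (qe 2))⁻¹ * (hS.R * hS.R) * (T.φ (qe 1))⁻¹ * hS.R := by group
      _ = _ := by rw [hS.R_invol]; group
  have hp : T.φ (qe 0 * qe 2 * qe 1) = 1 ∨ T.φ (qe 0 * qe 2 * qe 1) = T.φ tm :=
    qe_triple.1.imp (fun h => by rw [h, map_one]) fun h => by rw [h]
  have hs : hS.R * T.φ ((qe 0)⁻¹ * (qe 2)⁻¹ * (qe 1)⁻¹) * hS.R = 1 ∨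
      hS.R * T.φ ((qe 0)⁻¹ * (qe 2)⁻¹ * (qe 1)⁻¹) * hS.R = T.φ tm :=
    qe_triple.2.imp (fun h => by rw [h, map_one, mul_one, hS.R_invol]) fun h => by rw [h, hS.R_phi_tm]
  rw [h1, h2]
  rcases hp with hp | hp <;> rcases hs with hs | hs <;> rw [hp, hs]
  · left; rw [one_mul, one_mul]
  · right; rw [one_mul, hS.R_tm]
  · right; rw [mul_one, hS.R_tm]
  · left; rw [T.tm_invol, one_mul]

end Signed

namespace Signed.Label

variable {T} {hS : T.Signed} (hL : hS.Label)
include hL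

/-- The quaternion group centralises the subgroup. -/
theorem Qg_cent : T.Qg ≤ Subgroup.centralizer (hL.Og : Set G) := by
  classical
  by_contra hfail
  rcases hS.comm_or_big (fun x hx => hS.pair_cent hx) with hc | ⟨K, hKQ, hK3, hE, x, hx, hxe, hx1, hxt⟩
  swap
  · exact hfail (hL.cent_of_big hKQ hK3 hE hx hxe hx1 hxt)
  haveI : Fact (Nat.Prime 2) := ⟨Nat.prime_two⟩
  have hd48 := hL.sig_fail hfail
  set t := T.φ tm with ht
  have hOt : ∀ o ∈ hL.Og, o * t = t * o := fun o ho => hL.Og_comm ho hL.tm_Og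
  have hRnot : hS.R ∉ hL.Og := fun h => by
    have h1 := hL.Og_cent h
    exact absurd ((Acts.comm_iff T hS.R_acts).1 h1) (by decide +kernel)
  -- the elementary subgroup of order sixteen
  let A : Subgroup G :=
    { carrier := {x | x ∈ hL.Og ∨ x * hS.R ∈ hL.Og}
      one_mem' := Or.inl hL.Og.one_mem
      mul_mem' := by
        rintro x y (hx | hx) (hy | hy)
        · exact Or.inl (hL.Og.mul_mem hx hy)
        · exact Or.inr (by rw [mul_assoc]; exact hL.Og.mul_mem hx hy)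
        · refine Or.inr ?_
          rw [show x * y * hS.R = x * hS.R * y by rw [mul_assoc, ← hL.R_Og hy, ← mul_assoc]]
          exact hL.Og.mul_mem hx hy
        · refine Or.inl ?_
          have h := hL.R_Og hy
          rw [show x * y = x * hS.R * (y * hS.R) by
            rw [mul_assoc x hS.R, h, mul_assoc y, hS.R_invol, mul_one]]
          exact hL.Og.mul_mem hx hy
      inv_mem' := by
        rintro x (hx | hx)
        · exact Or.inl (hL.Og.inv_mem hx)
        · refine Or.inr ?_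
          have h := hL.R_Og (hL.Og.inv_mem hx)
          rw [mul_inv_rev, hS.R_inv] at h
          rw [show x⁻¹ * hS.R = (x * hS.R)⁻¹ by
            rw [mul_inv_rev, hS.R_inv]
            calc x⁻¹ * hS.R = hS.R * (hS.R * x⁻¹) * hS.R := by rw [← mul_assoc hS.R, hS.R_invol, one_mul]
              _ = hS.R * x⁻¹ * hS.R * hS.R := by rw [h]
              _ = _ := by rw [mul_assoc _ hS.R hS.R, hS.R_invol, mul_one]]
          exact hL.Og.inv_mem hx }
  have hOA : hL.Og ≤ A := fun x hx => Or.inl hx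
  have hAR : hS.R ∈ A := Or.inr (by rw [hS.R_invol]; exact hL.Og.one_mem)
  have hAsq : ∀ x ∈ A, x * x = 1 := by
    rintro x (hx | hx)
    · exact hL.Og_sq hx
    · have h : x = x * hS.R * hS.R := by rw [mul_assoc, hS.R_invol, mul_one]
      rw [h, ((show Commute hS.R (x * hS.R) from hL.R_Og hx)).mul_mul_mul_comm, hL.Og_sq hx, hS.R_invol, one_mul]
  have hAcard : 16 ≤ Nat.card A := by
    rw [show 16 = Nat.card (hL.Og × Bool) by rw [Nat.card_prod, hL.card_Og, Nat.card_eq_fintype_card, Fintype.card_bool]]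
    refine Nat.card_le_card_of_injective (fun p => (⟨if p.2 then (p.1 : G) * hS.R else p.1, by
      split
      · exact Or.inr (by rw [mul_assoc, hS.R_invol, mul_one]; exact p.1.2)
      · exact Or.inl p.1.2⟩ : A)) ?_
    rintro ⟨x, a⟩ ⟨y, b⟩ h
    have h1 := congrArg Subtype.val h
    simp only at h1
    cases a <;> cases b <;> simp only [Bool.false_eq_true, if_false, if_true] at h1
    · rw [Subtype.ext h1]
    · exact absurd (by
        have := hL.Og.mul_mem (hL.Og.inv_mem y.2) x.2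
        rwa [h1, inv_mul_cancel_left] at this) hRnot
    · exact absurd (by
        have := hL.Og.mul_mem (hL.Og.inv_mem x.2) y.2
        rwa [← h1, inv_mul_cancel_left] at this) hRnot
    · rw [Subtype.ext (mul_right_cancel h1)]
  have hAcom : ∀ x ∈ A, ∀ y ∈ A, x * y = y * x := fun x hx y hy => by
    have h1 := hAsq _ (A.mul_mem hx hy)
    have h2 : x * y = (x * y)⁻¹ := eq_inv_of_mul_eq_one_left h1
    rwa [mul_inv_rev, inv_eq_of_mul_eq_one_right (hAsq x hx), inv_eq_of_mul_eq_one_right (hAsq y hy)] at h2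
  have hA2 : IsPGroup 2 A := fun x => ⟨1, Subtype.ext (by
    rw [SubgroupClass.coe_pow, pow_one, pow_two]; exact hAsq _ x.2)⟩
  -- two-elements centralising it lie in it
  have hAof : ∀ x : G, (∀ o ∈ hL.Og, x * o = o * x) → x * hS.R = hS.R * x → (∃ n, x ^ 2 ^ n = 1) → x ∈ A := by
    intro x hxO hxR ⟨n, hn⟩
    have hcA : ∀ z ∈ A, Commute x z := by
      rintro z (hz | hz)
      · exact hxO z hz
      · have h : z = z * hS.R * hS.R := by rw [mul_assoc, hS.R_invol, mul_one]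
        rw [h]
        exact (show Commute x (z * hS.R) from hxO _ hz).mul_right hxR
    have hxN : Subgroup.zpowers x ≤ Subgroup.normalizer (A : Set G) := by
      rw [Subgroup.zpowers_le]
      exact Subgroup.centralizer_le_normalizer _ (Subgroup.mem_centralizer_iff.2 fun z hz => (hcA z hz).symm.eq)
    have hx2 : IsPGroup 2 (Subgroup.zpowers x) := fun z => ⟨n, Subtype.ext (by
      obtain ⟨k, hk⟩ := Subgroup.mem_zpowers_iff.1 z.2
      rw [SubgroupClass.coe_pow, ← hk, ← zpow_natCast, ← zpow_mul, mul_comm, zpow_mul, zpow_natCast, hn, one_zpow]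
      rfl)⟩
    obtain ⟨k, hk⟩ := IsPGroup.iff_card.1 (hA2.to_sup_of_normal_left' hx2 hxN)
    have hle : A ⊔ Subgroup.zpowers x ≤ Subgroup.centralizer (hL.Og : Set G) := sup_le (fun z hz =>
      Subgroup.mem_centralizer_iff.2 fun o ho => hAcom o (hOA ho) z hz) (by
      rw [Subgroup.zpowers_le]
      exact Subgroup.mem_centralizer_iff.2 fun o ho => (hxO o ho).symm)
    have hd := (Subgroup.card_dvd_of_le hle).trans hd48
    rw [hk] at hd
    have hk4 : k ≤ 4 := by
      by_contra h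
      have := (pow_dvd_pow 2 (by omega : 5 ≤ k)).trans hd
      norm_num at this
    have heq := Subgroup.eq_of_le_of_card_ge (le_sup_left : A ≤ A ⊔ Subgroup.zpowers x) (by
      rw [hk]
      exact le_trans (Nat.pow_le_pow_right (by norm_num) hk4) hAcard)
    rw [heq]
    exact Subgroup.mem_sup_right (Subgroup.mem_zpowers x)
  -- the swapping element
  obtain ⟨b1, b2, bt, -⟩ := Axis.basic_sq
  obtain ⟨hpd, -, -, -, hdO, hdn⟩ := Axis.pair_conj
  set d : G := (hL.lift (Axis.w1 * Axis.w2) : G) with hd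
  have hd2 : d * d = 1 := congrArg Subtype.val (hL.lift_sq hpd)
  have hdR : Commute d hS.R := (hL.R_lift hpd).symm
  have hdt : Commute d t := by
    have h := (hL.lift_mul hpd bt (by decide +kernel)).2
    rw [hL.lift_tau] at h
    exact congrArg Subtype.val h.eq
  have hdconj : ∀ σ, σ * σ = 1 → d * (hL.lift σ : G) * d⁻¹ = (hL.lift (Axis.w1 * Axis.w2 * σ * (Axis.w1 * Axis.w2)⁻¹) : G) :=
    fun σ hσ => by
      have := congrArg Subtype.val (hL.lift_conj (hL.lift (Axis.w1 * Axis.w2)) hσ)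
      rw [hL.π_lift hpd] at this
      exact this
  have hdA : ∀ x ∈ A, d * x * d⁻¹ ∈ A := by
    have hO : ∀ o ∈ hL.Og, d * o * d⁻¹ ∈ hL.Og := by
      rintro _ ⟨σ, hσ, rfl⟩
      rw [hdconj σ (Axis.inO_sq σ hσ)]
      exact hL.lift_mem (hdO σ hσ)
    rintro x (hx | hx)
    · exact Or.inl (hO x hx)
    · refine Or.inr ?_
      rw [show d * x * d⁻¹ * hS.R = d * (x * hS.R) * d⁻¹ by
        rw [mul_assoc _ d⁻¹, hdR.inv_left.eq]; group]
      exact hO _ hx
  have hdi : d⁻¹ = d := inv_eq_of_mul_eq_one_right hd2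
  let S₀ : Subgroup G :=
    { carrier := {x | x ∈ A ∨ x * d ∈ A}
      one_mem' := Or.inl A.one_mem
      mul_mem' := by
        rintro x y (hx | hx) (hy | hy)
        · exact Or.inl (A.mul_mem hx hy)
        · exact Or.inr (by rw [mul_assoc]; exact A.mul_mem hx hy)
        · refine Or.inr ?_
          rw [show x * y * d = x * d * (d * y * d⁻¹) by
            rw [hdi]
            calc x * y * d = x * (d * d) * y * d := by rw [hd2, mul_one]
              _ = _ := by group]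
          exact A.mul_mem hx (hdA y hy)
        · refine Or.inl ?_
          rw [show x * y = x * d * (d * (y * d) * d⁻¹) by
            calc x * y = x * (d * d) * y := by rw [hd2, mul_one]
              _ = _ := by group]
          exact A.mul_mem hx (hdA _ hy)
      inv_mem' := by
        rintro x (hx | hx)
        · exact Or.inl (A.inv_mem hx)
        · refine Or.inr ?_
          rw [show x⁻¹ * d = d * (x * d)⁻¹ * d⁻¹ by rw [mul_inv_rev, hdi, ← mul_assoc, hd2, one_mul]]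
          exact hdA _ (A.inv_mem hx) }
  have hAS : A ≤ S₀ := fun x hx => Or.inl hx
  have hdS : d ∈ S₀ := Or.inr (by rw [hd2]; exact A.one_mem)
  -- the three reflections inside
  let f : ZMod 3 → G := fun i => (hL.lift (Axis.swp i) : G)
  obtain ⟨hsin, hsinj, hsw1, hsd, hscases, hsprod⟩ := Axis.swp_facts
  have hfinj : ∀ a b, f a = f b → a = b := fun a b h => by
    refine hsinj a b ?_
    rw [← hL.π_lift (Axis.inO_sq _ (hsin a).1), ← hL.π_lift (Axis.inO_sq _ (hsin b).1)]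
    exact congrArg hL.π (Subtype.ext h)
  have hfS : ∀ i, f i ∈ S₀ := fun i => hAS (hOA (hL.lift_mem (hsin i).1))
  have hfR : ∀ i, ∃ g, g * hS.R * g⁻¹ = f i := fun i => by
    obtain ⟨h, hh⟩ := hsw1 i
    obtain ⟨g, hg⟩ := hL.surj h
    refine ⟨(g : G) * T.φ sm, ?_⟩
    have h1 := congrArg Subtype.val (hL.lift_conj g b1)
    rw [hg, hh, hL.lift_w1] at h1
    change (g : G) * T.rot hS.R * (g : G)⁻¹ = f i at h1
    rw [← h1, T.rot_apply]
    group
  have hclass : ∀ y ∈ S₀, (∃ g, g * hS.R * g⁻¹ = y) → y ≠ hS.R → ∃ i, y = f i := by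
    rintro y hy ⟨g, hg⟩ hyR
    have hy2 : y * y = 1 := by rw [← hg, conj_mul, hS.R_invol, mul_one, mul_inv_cancel]
    rcases hy with (hy | hy) | (hy | hy)
    · obtain ⟨σ, hσ, rfl⟩ := hy
      have h1 : σ ≠ 1 := fun h => hS.R_ne (by
        rw [h, hL.lift_one] at hg
        exact conj_eq_one_iff.1 hg)
      rcases (hL.lift_class (Axis.inO_sq σ hσ) h1).2 with h | h
      · exact absurd hg (h g)
      · obtain ⟨i, rfl⟩ := hscases σ (Axis.single_inO σ hσ h)
        exact ⟨i, rfl⟩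
    · exfalso
      obtain ⟨σ, hσ, hσy⟩ := hy
      have hform : y = hS.R * (hL.lift σ : G) := by
        rw [hL.R_Og (hL.lift_mem hσ), hσy, mul_assoc, hS.R_invol, mul_one]
      by_cases h1 : σ = 1
      · exact hyR (by rw [hform, h1, hL.lift_one]; exact mul_one _)
      · exact (hL.lift_class (Axis.inO_sq σ hσ) h1).1 g (hg.trans hform)
    · exfalso
      obtain ⟨σ, hσ, hσy⟩ := hy
      have hyeq : y = (hL.lift σ : G) * d := by rw [hσy, mul_assoc, hd2, mul_one]
      have hsq' : σ * (Axis.w1 * Axis.w2) = Axis.w1 * Axis.w2 * σ := by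
        have h1 : (hL.lift σ * hL.lift (Axis.w1 * Axis.w2)) * (hL.lift σ * hL.lift (Axis.w1 * Axis.w2)) = 1 :=
          Subtype.ext (by rw [hyeq] at hy2; exact hy2)
        have h2 := congrArg hL.π h1
        simp only [map_mul, hL.π_lift (Axis.inO_sq σ hσ), hL.π_lift hpd, map_one] at h2
        have h3 := eq_inv_of_mul_eq_one_left h2
        rwa [mul_inv_rev, inv_eq_of_mul_eq_one_right (Axis.inO_sq σ hσ), inv_eq_of_mul_eq_one_right hpd] at h3
      obtain ⟨hne, hnc⟩ := Axis.inO_pair σ hσ hsq'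
      obtain ⟨hl, -⟩ := hL.lift_mul (Axis.inO_sq σ hσ) hpd hsq'
      have hsq2 : σ * (Axis.w1 * Axis.w2) * (σ * (Axis.w1 * Axis.w2)) = 1 := by
        rw [(show Commute (Axis.w1 * Axis.w2) σ from hsq'.symm).mul_mul_mul_comm, Axis.inO_sq σ hσ, hpd, one_mul]
      rcases (hL.lift_class hsq2 hne).2 with h | ⟨h, hh⟩
      · refine h g (hg.trans ?_)
        rw [hyeq, hl]
        rfl
      · exact hnc h hh
    · exfalso
      obtain ⟨σ, hσ, hσy⟩ := hy
      have hyeq : y = hS.R * ((hL.lift σ : G) * d) := by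
        rw [← mul_assoc, hL.R_Og (hL.lift_mem hσ), hσy, mul_assoc (y * d), hS.R_invol, mul_one, mul_assoc, hd2, mul_one]
      have hRl : Commute hS.R ((hL.lift σ : G) * d) :=
        (show Commute hS.R (hL.lift σ : G) from hL.R_Og (hL.lift_mem hσ)).mul_right hdR.symm
      have hsq' : σ * (Axis.w1 * Axis.w2) = Axis.w1 * Axis.w2 * σ := by
        have h1 : (hL.lift σ * hL.lift (Axis.w1 * Axis.w2)) * (hL.lift σ * hL.lift (Axis.w1 * Axis.w2)) = 1 :=
          Subtype.ext (by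
            rw [hyeq, hRl.symm.mul_mul_mul_comm, hS.R_invol, one_mul] at hy2
            exact hy2)
        have h2 := congrArg hL.π h1
        simp only [map_mul, hL.π_lift (Axis.inO_sq σ hσ), hL.π_lift hpd, map_one] at h2
        have h3 := eq_inv_of_mul_eq_one_left h2
        rwa [mul_inv_rev, inv_eq_of_mul_eq_one_right (Axis.inO_sq σ hσ), inv_eq_of_mul_eq_one_right hpd] at h3
      obtain ⟨hne, -⟩ := Axis.inO_pair σ hσ hsq'
      obtain ⟨hl, -⟩ := hL.lift_mul (Axis.inO_sq σ hσ) hpd hsq'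
      have hsq2 : σ * (Axis.w1 * Axis.w2) * (σ * (Axis.w1 * Axis.w2)) = 1 := by
        rw [(show Commute (Axis.w1 * Axis.w2) σ from hsq'.symm).mul_mul_mul_comm, Axis.inO_sq σ hσ, hpd, one_mul]
      refine (hL.lift_class hsq2 hne).1 g (hg.trans ?_)
      rw [hyeq, hl]
      rfl
  have hfne : ∀ i, f i ≠ hS.R := fun i h => hRnot (h ▸ hL.lift_mem (hsin i).1)
  have hfconj : ∀ x : G, x * hS.R = hS.R * x → (∀ z ∈ S₀, x * z * x⁻¹ ∈ S₀) →
      ∀ i, ∃ j, x * f i * x⁻¹ = f j := by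
    intro x hxR hxS i
    obtain ⟨g, hg⟩ := hfR i
    refine hclass _ (hxS _ (hfS i)) ⟨x * g, by rw [← hg]; group⟩ fun h => hfne i ?_
    calc f i = x⁻¹ * (x * f i * x⁻¹) * x := by group
      _ = hS.R := by rw [h, mul_assoc, ← hxR, inv_mul_cancel_left]
  have hgen : ∀ x : G, (∀ i, x * f i = f i * x) → ∀ o ∈ hL.Og, x * o = o * x := by
    intro x hx
    have hm : ∀ σ σ', Axis.inO σ → Axis.inO σ' → x * (hL.lift σ : G) = (hL.lift σ : G) * x →
        x * (hL.lift σ' : G) = (hL.lift σ' : G) * x →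
        x * (hL.lift (σ * σ') : G) = (hL.lift (σ * σ') : G) * x := fun σ σ' hσ hσ' h h' => by
      rw [(hL.lift_mul (Axis.inO_sq σ hσ) (Axis.inO_sq σ' hσ') (Axis.inO_mul σ hσ σ' hσ').2).1, Subgroup.coe_mul]
      exact ((show Commute x _ from h).mul_right h').eq
    rintro _ ⟨σ, hσ, rfl⟩
    rcases Axis.swp_gen σ hσ with rfl | ⟨i, rfl⟩ | ⟨i, j, rfl⟩ | rfl
    · rw [hL.lift_one, Subgroup.coe_one, mul_one, one_mul]
    · exact hx i
    · exact hm _ _ (hsin i).1 (hsin j).1 (hx i) (hx j)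
    · exact hm _ _ (Axis.inO_mul _ (hsin 0).1 _ (hsin 1).1).1 (hsin 2).1 (hm _ _ (hsin 0).1 (hsin 1).1 (hx 0) (hx 1)) (hx 2)
  -- the Sylow subgroup of the centraliser
  set X := Subgroup.centralizer ({hS.R} : Set G) ⊓ Subgroup.centralizer ({t} : Set G) with hX
  have hmemX : ∀ {x : G}, x ∈ X ↔ x * hS.R = hS.R * x ∧ x * t = t * x := fun {x} =>
    and_congr Subgroup.mem_centralizer_singleton_iff Subgroup.mem_centralizer_singleton_iff
  have hAX : A ≤ X := fun x hx => hmemX.2 ⟨hAcom x hx _ hAR, hAcom x hx _ (hOA hL.tm_Og)⟩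
  have hSX : S₀ ≤ X := by
    rintro x (hx | hx)
    · exact hAX hx
    · have h := X.mul_mem (hAX hx) (hmemX.2 ⟨hdR.eq, hdt.eq⟩ : d ∈ X)
      rwa [mul_assoc, hd2, mul_one] at h
  have hS4 : ∀ x ∈ S₀, x ^ 4 = 1 := by
    intro x hx
    have hx2 : x * x ∈ A := by
      rcases hx with hx | hx
      · exact A.mul_mem hx hx
      · rw [show x * x = x * d * (d * (x * d) * d⁻¹) by
          calc x * x = x * (d * d) * x := by rw [hd2, mul_one]
            _ = _ := by group]
        exact A.mul_mem hx (hdA _ hx)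
    rw [show x ^ 4 = x * x * (x * x) by simp only [pow_succ, pow_zero, one_mul, mul_assoc]]
    exact hAsq _ hx2
  have hS2 : IsPGroup 2 S₀ := fun x => ⟨2, Subtype.ext (by rw [SubgroupClass.coe_pow]; exact hS4 x x.2)⟩
  obtain ⟨P, hP⟩ := (hS2.of_injective ((Subgroup.subgroupOfEquivOfLe hSX).toMonoidHom)
    (MulEquiv.injective _) : IsPGroup 2 (S₀.subgroupOf X)).exists_le_sylow
  have hPe : (P : Subgroup X) = S₀.subgroupOf X := by
    by_contra hne
    haveI : Group.IsNilpotent (P : Subgroup X) := P.2.isNilpotent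
    have hlt : (S₀.subgroupOf X).subgroupOf P < ⊤ := lt_top_iff_ne_top.2 fun e =>
      hne (le_antisymm (Subgroup.subgroupOf_eq_top.1 e) hP)
    obtain ⟨x, hxN, hxS⟩ := SetLike.exists_of_lt (Group.normalizerCondition_of_isNilpotent _ hlt)
    refine hxS (Subgroup.mem_subgroupOf.2 (Subgroup.mem_subgroupOf.2 ?_))
    set g : G := ((x : X) : G) with hgdef
    obtain ⟨hgR, hgt⟩ := hmemX.1 (x : X).2
    have hpow : ∀ y : G, ∀ hy : y ∈ X, (⟨y, hy⟩ : X) ∈ (P : Subgroup X) → ∃ n, y ^ 2 ^ n = 1 := fun y hy h => by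
      obtain ⟨n, hn⟩ := P.2 ⟨_, h⟩
      exact ⟨n, congrArg (fun z : (P : Subgroup X) => ((z : X) : G)) hn⟩
    have hgS : ∀ z ∈ S₀, g * z * g⁻¹ ∈ S₀ := fun z hz =>
      Subgroup.mem_subgroupOf.1 ((Subgroup.mem_normalizer_iff.1 hxN
        ⟨⟨z, hSX hz⟩, hP (Subgroup.mem_subgroupOf.2 hz)⟩).1 (Subgroup.mem_subgroupOf.2 hz))
    choose j hj using hfconj g hgR hgS
    have hjinj : ∀ a b, j a = j b → a = b := fun a b h => hfinj a b (by
      have := (hj a).trans ((congrArg f h).trans (hj b).symm)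
      exact mul_left_cancel (mul_right_cancel this))
    have hd' : ∀ i, d * f i * d⁻¹ = f (-i) := fun i => by
      show d * (hL.lift (Axis.swp i) : G) * d⁻¹ = _
      rw [hdconj _ (Axis.inO_sq _ (hsin i).1), hsd i]
    have hgd : ∀ i, g * d * f i * (g * d)⁻¹ = f (j (-i)) := fun i => by
      rw [show g * d * f i * (g * d)⁻¹ = g * (d * f i * d⁻¹) * g⁻¹ by group, hd', hj]
    obtain ⟨ng, hng⟩ := hpow g (x : X).2 x.2
    have hgdX : g * d ∈ X := X.mul_mem (x : X).2 (hSX hdS)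
    obtain ⟨nd, hnd⟩ := hpow _ hgdX
      ((P : Subgroup X).mul_mem x.2 (hP (Subgroup.mem_subgroupOf.2 (show ((⟨d, hSX hdS⟩ : X) : G) ∈ S₀ from hdS))))
    rcases triple_perm j hjinj with h | h | ⟨c, hc', h | h⟩
    · exact hAS (hAof g (hgen g fun i => by
        have := hj i
        rw [h i] at this
        exact mul_inv_eq_iff_eq_mul.1 this) hgR ⟨ng, hng⟩)
    · have h1 : g * d ∈ A := hAof _ (hgen _ fun i => by
        have := hgd i
        rw [h i] at this
        exact mul_inv_eq_iff_eq_mul.1 this) (hmemX.1 hgdX).1 ⟨nd, hnd⟩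
      exact Or.inr h1
    · exact (no_cycle hng f hfinj hc' fun i => by rw [hj, h]).elim
    · exact (no_cycle hnd f hfinj hc' fun i => by rw [hgd, h]).elim
  -- the conjugates of the reflection
  have hR0 : hS.R ∈ X := hmemX.2 ⟨rfl, hS.R_tm⟩
  have hCX : ∀ i, hS.Cn i ∈ X := fun i => hmemX.2 ⟨(hS.Cn_comm_R hc i).eq, hS.Cn_tm i⟩
  have hV : IsPGroup 2 (Subgroup.closure (Set.range hS.Cn)) := by
    have hle : ∀ x ∈ Subgroup.closure (Set.range hS.Cn), x * x = 1 ∧ ∀ i, Commute x (hS.Cn i) := by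
      intro x hx
      induction hx using Subgroup.closure_induction with
      | mem x hx =>
        obtain ⟨i, rfl⟩ := hx
        exact ⟨hS.Cn_sq i, fun k => hS.Cn_comm hc i k⟩
      | one => exact ⟨one_mul 1, fun i => Commute.one_left _⟩
      | mul a b ha hb iha ihb =>
        have hab : Commute b a := by
          have : b ∈ Subgroup.centralizer ({a} : Set G) := (Subgroup.closure_le _).2 (by
            rintro _ ⟨i, rfl⟩
            exact Subgroup.mem_centralizer_singleton_iff.2 (iha.2 i).symm.eq) hb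
          exact Subgroup.mem_centralizer_singleton_iff.1 this
        exact ⟨by rw [hab.mul_mul_mul_comm, iha.1, ihb.1, one_mul], fun i => (iha.2 i).mul_left (ihb.2 i)⟩
      | inv a _ iha => exact ⟨by rw [← mul_inv_rev, iha.1, inv_one], fun i => (iha.2 i).inv_left⟩
    exact fun x => ⟨1, Subtype.ext (by rw [SubgroupClass.coe_pow, pow_one, pow_two]; exact (hle x x.2).1)⟩
  have hVX : Subgroup.closure (Set.range hS.Cn) ≤ X := (Subgroup.closure_le _).2 (by
    rintro _ ⟨i, rfl⟩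
    exact hCX i)
  obtain ⟨P', hP'⟩ := (hV.of_injective ((Subgroup.subgroupOfEquivOfLe hVX).toMonoidHom) (MulEquiv.injective _) :
    IsPGroup 2 ((Subgroup.closure (Set.range hS.Cn)).subgroupOf X)).exists_le_sylow
  obtain ⟨γ, hγ⟩ := MulAction.exists_smul_eq X P' P
  set g : G := (γ : G)
  obtain ⟨hgR, hgt⟩ := hmemX.1 γ.2
  have hin : ∀ i, ∃ k, g * hS.Cn i * g⁻¹ = f k := fun i => by
    have h1 : (MulAut.conj γ) ⟨_, hCX i⟩ ∈ ((γ • P' : Sylow 2 X) : Subgroup X) := by
      rw [Sylow.coe_subgroup_smul]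
      exact Subgroup.smul_mem_pointwise_smul _ (MulAut.conj γ) _
        (hP' (Subgroup.mem_subgroupOf.2 (Subgroup.subset_closure ⟨i, rfl⟩)))
    rw [hγ, hPe] at h1
    refine hclass _ (Subgroup.mem_subgroupOf.1 h1) ⟨g * T.φ (qe i), by rw [Signed.Cn]; group⟩ fun h => hS.Cn_not_R i ?_
    calc hS.Cn i = g⁻¹ * (g * hS.Cn i * g⁻¹) * g := by group
      _ = hS.R := by rw [h, mul_assoc, ← hgR, inv_mul_cancel_left]
  choose k hk using hin
  have hkinj : ∀ a b, k a = k b → a = b := fun a b h => hS.Cn_inj (by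
    have := (hk a).trans ((congrArg f h).trans (hk b).symm)
    exact mul_left_cancel (mul_right_cancel this))
  have hprod : g * (hS.Cn 0 * hS.Cn 2 * hS.Cn 1) * g⁻¹ = t := by
    rw [show g * (hS.Cn 0 * hS.Cn 2 * hS.Cn 1) * g⁻¹ =
      g * hS.Cn 0 * g⁻¹ * (g * hS.Cn 2 * g⁻¹) * (g * hS.Cn 1 * g⁻¹) by group, hk, hk, hk]
    have i0 := (hsin (k 0)).1
    have i2 := (hsin (k 2)).1
    have i1 := (hsin (k 1)).1
    have h02 := Axis.inO_mul _ i0 _ i2
    have e1 := hL.lift_mul (Axis.inO_sq _ i0) (Axis.inO_sq _ i2) h02.2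
    have e2 := hL.lift_mul (Axis.inO_sq _ h02.1) (Axis.inO_sq _ i1) (Axis.inO_mul _ h02.1 _ i1).2
    have h : hL.lift (Axis.swp (k 0)) * hL.lift (Axis.swp (k 2)) * hL.lift (Axis.swp (k 1)) = T.tc := by
      rw [← e1.1, ← e2.1, hsprod k hkinj, hL.lift_tau]
    exact congrArg Subtype.val h
  have hRt : hS.R ≠ t := fun h => hRnot (by rw [h]; exact hL.tm_Og)
  have hfix : ∀ z : G, g * z = z * g → g * z * g⁻¹ = z := fun z h => by rw [h, mul_inv_cancel_right]
  rcases hS.Cn_prod hc with h | h <;> rw [h] at hprod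
  · rw [hfix _ hgR] at hprod
    exact hRt hprod
  · rw [hfix _ ((show Commute g hS.R from hgR).mul_right hgt).eq] at hprod
    exact hS.R_ne (mul_eq_right.1 hprod)

/-- The quaternion groups commute. -/
theorem comm : hS.Comm := hL.comm_of_cent hL.Qg_cent

end Signed.Label

end Conf

end Cfsg.Agent.Lie.PSpFourThreeFull
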