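import Cfsg.Agent.Lib.Lie.PSpFourThreeFull.OgCent

/-!
The quaternion groups commute when one of them centralises the elementary subgroup of order eight.
-/

set_option autoImplicit false
set_option linter.unusedSectionVars false
set_option linter.style.haveILetI false
set_option maxRecDepth 100000
set_option synthInstance.maxSize 4000
set_option synthInstance.maxHeartbeats 400000

namespace Cfsg.Agent.Lie.PSpFourThreeFull

open Cfsg.Agent.Lie.PSpFourThreeAmalgam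
open Cfsg.Agent.Small.ShapeThree (M)

theorem gcd_pow_one {X : Type*} [Group X] {x : X} {m n : ℕ} (hm : x ^ m = 1) (hc : (orderOf x).Coprime 3)
    (hn : m = n * 3) : x ^ n = 1 := by
  subst hn
  exact orderOf_dvd_iff_pow_eq_one.1 (hc.dvd_of_dvd_mul_right (orderOf_dvd_iff_pow_eq_one.2 hm))

namespace Conf.Signed.Label

variable {G : Type*} [Group G] [Finite G] {T : Conf G} {hS : T.Signed} (hL : hS.Label)
include hL

theorem π_f : hL.π (T.qc (1, 1, 0)) = Axis.s1 * Axis.s2 := by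
  rw [hL.π_qc]
  decide +kernel

/-- A lift of a transposition of the subgroup centralising the quaternion group brings the subgroup. -/
theorem Og_cent_of_single {σ : Axis.P6}
    (hσ : σ = Axis.rho ∨ σ = Equiv.swap 1 4 ∨ σ = Equiv.swap 2 5)
    (h : ∀ q ∈ T.Qg, (hL.lift σ : G) * q = q * (hL.lift σ : G)) :
    T.Qg ≤ Subgroup.centralizer (hL.Og : Set G) := by
  have hstep : ∀ τ, Axis.inO τ → (∀ q ∈ T.Qg, (hL.lift τ : G) * q = q * (hL.lift τ : G)) → ∀ q ∈ T.Qg,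
      (hL.lift (Axis.s1 * Axis.s2 * τ * (Axis.s1 * Axis.s2)⁻¹) : G) * q =
        q * (hL.lift (Axis.s1 * Axis.s2 * τ * (Axis.s1 * Axis.s2)⁻¹) : G) := by
    intro τ hτ h q hq
    rw [← hL.π_f, ← hL.lift_conj _ (Axis.inO_sq τ hτ)]
    show T.q (1, 1, 0) * (hL.lift τ : G) * (T.q (1, 1, 0))⁻¹ * q = q * (T.q (1, 1, 0) * (hL.lift τ : G) * (T.q (1, 1, 0))⁻¹)
    have hq' := T.Eg_Qg (T.Eg.inv_mem (T.mem_Eg.2 ⟨(1, 1, 0), by decide +kernel, rfl⟩)) hq
    rw [inv_inv] at hq'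
    have h1 := h _ hq'
    calc T.q (1, 1, 0) * (hL.lift τ : G) * (T.q (1, 1, 0))⁻¹ * q
        = T.q (1, 1, 0) * ((hL.lift τ : G) * ((T.q (1, 1, 0))⁻¹ * q * T.q (1, 1, 0))) * (T.q (1, 1, 0))⁻¹ := by group
      _ = _ := by rw [h1]; group
  obtain ⟨c0, c1, c2⟩ := Axis.eps_conj
  obtain ⟨i1, i2, -, -, -, -, hall⟩ := Axis.three_swaps
  obtain ⟨i0, -, -⟩ := Axis.rho_inO
  change Axis.s1 * Axis.s2 * Axis.rho * (Axis.s1 * Axis.s2)⁻¹ = _ at c0
  change _ = Axis.rho at c2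
  have h3 : (∀ q ∈ T.Qg, (hL.lift Axis.rho : G) * q = q * (hL.lift Axis.rho : G)) ∧
      (∀ q ∈ T.Qg, (hL.lift (Equiv.swap 1 4) : G) * q = q * (hL.lift (Equiv.swap 1 4) : G)) ∧
      (∀ q ∈ T.Qg, (hL.lift (Equiv.swap 2 5) : G) * q = q * (hL.lift (Equiv.swap 2 5) : G)) := by
    rcases hσ with rfl | rfl | rfl
    · have a := hstep _ i0 h
      rw [c0] at a
      have b := hstep _ i1 a
      rw [c1] at b
      exact ⟨h, a, b⟩
    · have a := hstep _ i1 h
      rw [c1] at a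
      have b := hstep _ i2 a
      rw [c2] at b
      exact ⟨b, h, a⟩
    · have a := hstep _ i2 h
      rw [c2] at a
      have b := hstep _ i0 a
      rw [c0] at b
      exact ⟨a, b, h⟩
  intro q hq
  refine Subgroup.mem_centralizer_iff.2 ?_
  rintro _ ⟨τ, hτ, rfl⟩
  let P : Subgroup G := Subgroup.centralizer ({q} : Set G)
  have hP : ∀ {z : G}, z ∈ P ↔ z * q = q * z := Subgroup.mem_centralizer_singleton_iff
  have hmul : ∀ σ σ', Axis.inO σ → Axis.inO σ' → (hL.lift σ : G) ∈ P → (hL.lift σ' : G) ∈ P →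
      (hL.lift (σ * σ') : G) ∈ P := fun σ σ' hσ hσ' h h' => by
    rw [(hL.lift_mul (Axis.inO_sq σ hσ) (Axis.inO_sq σ' hσ') (Axis.inO_mul σ hσ σ' hσ').2).1, Subgroup.coe_mul]
    exact P.mul_mem h h'
  refine hP.1 ?_
  have l0 := hP.2 (h3.1 q hq)
  have l1 := hP.2 (h3.2.1 q hq)
  have l2 := hP.2 (h3.2.2 q hq)
  have hmem := hall τ hτ
  simp only [List.mem_cons, List.not_mem_nil, or_false] at hmem
  rcases hmem with rfl | rfl | rfl | rfl | rfl | rfl | rfl | rfl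
  · rw [hL.lift_one]; exact P.one_mem
  · exact l0
  · exact l1
  · exact l2
  · exact hmul _ _ i0 i1 l0 l1
  · exact hmul _ _ i0 i2 l0 l2
  · exact hmul _ _ i1 i2 l1 l2
  · exact hmul _ _ (Axis.inO_mul _ i0 _ i1).1 i2 (hmul _ _ i0 i1 l0 l1) l2

/-- A further subgroup centralising the quaternion group contains a new involution. -/
theorem cent_of_big {K : Subgroup G} (hKQ : ∀ x ∈ K, ∀ y ∈ T.Qg, x * y = y * x) (hK3 : (Nat.card K).Coprime 3)
    (hE : T.Eg ≤ Subgroup.normalizer (K : Set G)) {x : G} (hx : x ∈ K) (he : x * T.q (0, 0, 1) = T.q (0, 0, 1) * x)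
    (h1 : x ≠ 1) (ht : x ≠ T.φ tm) : T.Qg ≤ Subgroup.centralizer (hL.Og : Set G) := by
  set x' : T.centQ (0, 0, 1) := ⟨x, T.mem_centQ.2 he⟩
  have hco : ∀ y : T.centQ (0, 0, 1), (y : G) ∈ K → (orderOf y).Coprime 3 := fun y hy => by
    rw [← orderOf_injective (T.centQ (0, 0, 1)).subtype Subtype.val_injective]
    exact hK3.coprime_dvd_left (Subgroup.orderOf_dvd_natCard K hy)
  have hfour : ∀ y : T.centQ (0, 0, 1), (y : G) ∈ K → hL.π y ^ 4 = 1 ∧ hL.π y * Axis.tau = Axis.tau * hL.π y :=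
    fun y hy => by
      have hτ : hL.π y * Axis.tau = Axis.tau * hL.π y := by
        rw [← hL.t, ← map_mul, ← map_mul]
        exact congrArg hL.π (Subtype.ext (hKQ _ hy _ T.tm_mem_Qg))
      exact ⟨gcd_pow_one (Axis.tau_order _ hτ) ((hco y hy).coprime_dvd_left (orderOf_map_dvd _ _)) rfl, hτ⟩
  set f' := T.qc (1, 1, 0)
  have hfK : ((f' * x' * f'⁻¹ : T.centQ (0, 0, 1)) : G) ∈ K :=
    (Subgroup.mem_normalizer_iff.1 (hE (T.mem_Eg.2 ⟨(1, 1, 0), by decide +kernel, rfl⟩)) x).1 hx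
  have hin : Axis.inO (hL.π x') := by
    refine Axis.inO_small _ (hfour x' hx).2 (hfour x' hx).1 ?_
    have := (hfour (x' * (f' * x' * f'⁻¹)) (K.mul_mem hx hfK)).1
    rwa [map_mul, map_mul, map_mul, map_inv, hL.π_f] at this
  have hsq := Axis.inO_sq _ hin
  have hx2 : x' * x' = 1 := by
    obtain ⟨a, ha⟩ := hL.π_one (x := x' * x') (by rw [map_mul, hsq])
    rw [← pow_two]
    refine gcd_pow_one (m := 6) ?_ (hco x' hx) rfl
    rw [show 6 = 2 * 3 from rfl, pow_mul, pow_two, ha]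
    exact Subtype.ext (by rw [SubgroupClass.coe_pow]; exact T.q_cube _)
  have hxl : x' = hL.lift (hL.π x') := hL.eq_lift hx2 rfl
  obtain ⟨s, hs, hor⟩ := Axis.inO_single _ hin (fun e => h1 (by
      rw [e, hL.lift_one] at hxl
      exact congrArg Subtype.val hxl))
    (fun e => ht (by
      rw [e, hL.lift_tau] at hxl
      exact congrArg Subtype.val hxl))
  simp only [List.mem_cons, List.not_mem_nil, or_false] at hs
  refine hL.Og_cent_of_single (σ := s) hs fun q hq => ?_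
  rcases hor with h | h
  · rw [← h, ← hxl]
    exact hKQ x hx q hq
  · rw [← h, (hL.lift_mul hsq Axis.basic_sq.2.2.1 (hfour x' hx).2).1, hL.lift_tau, ← hxl]
    exact ((show Commute x q from hKQ x hx q hq).mul_left (T.Qg_comm_t hq).symm).eq

/-- The quaternion groups commute when the first one centralises the subgroup. -/
theorem comm_of_cent (hQ : T.Qg ≤ Subgroup.centralizer (hL.Og : Set G)) : hS.Comm := by
  classical
  obtain ⟨N, hON, hNC, hEN, hnil, hN3, -, hmax⟩ := hL.sig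
  set e := T.q (0, 0, 1) with hedef
  have heE : e ∈ T.Eg := T.mem_Eg.2 ⟨_, fixed_basic.2.1, rfl⟩
  have hQ2 : ∀ {W : Subgroup G}, (∀ x ∈ W, x ^ 8 = 1) → IsPGroup 2 W := fun h x =>
    ⟨3, Subtype.ext (by rw [SubgroupClass.coe_pow]; exact h x x.2)⟩
  have hRR : ∀ x : G, hS.R * (hS.R * x * hS.R) * hS.R = x := fun x => by
    rw [← mul_assoc, ← mul_assoc, hS.R_invol, one_mul, mul_assoc, hS.R_invol, mul_one]
  have hQrE : ∀ g ∈ T.Eg, ∀ x ∈ hS.Qr, g * x * g⁻¹ ∈ hS.Qr := fun g hg x hx => by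
    refine hS.mem_Qr.2 ?_
    rw [show hS.R * (g * x * g⁻¹) * hS.R = hS.R * g * hS.R * (hS.R * x * hS.R) * (hS.R * g * hS.R)⁻¹ by
      simp only [mul_inv_rev, hS.R_inv]
      calc hS.R * (g * x * g⁻¹) * hS.R = hS.R * g * (hS.R * hS.R) * x * (hS.R * hS.R) * g⁻¹ * hS.R := by
            rw [hS.R_invol]; group
        _ = _ := by group]
    exact T.Eg_Qg (hS.R_Eg hg) (hS.mem_Qr.1 hx)
  have hnorm : ∀ {W : Subgroup G} {g : G}, (∀ x ∈ W, g * x * g⁻¹ ∈ W) → g ∈ Subgroup.normalizer (W : Set G) := by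
    intro W g h
    rw [Subgroup.mem_normalizer_iff_map_conj_eq]
    refine Subgroup.eq_of_le_of_card_ge ?_ (Subgroup.card_map_of_injective (MulEquiv.injective _)).ge
    rintro _ ⟨x, hx, rfl⟩
    exact h x hx
  have hQN : T.Qg ≤ N := hmax _ hQ (hQ2 fun x hx => T.Qg_pow_eight hx) (hnorm fun x hx => T.Eg_Qg heE hx)
  have hQrN : hS.Qr ≤ N := hmax _ (hL.Qr_le_cent hQ) (hQ2 fun x hx => by
    have h := T.Qg_pow_eight (hS.mem_Qr.1 hx)
    rw [show hS.R * x * hS.R = hS.R * x * hS.R⁻¹ by rw [hS.R_inv], conj_pow, mul_inv_eq_one] at h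
    calc x ^ 8 = hS.R⁻¹ * (hS.R * x ^ 8) := by group
      _ = 1 := by rw [h]; group) (hnorm fun x hx => hQrE e heE x hx)
  have hcq : ∀ d ∈ hL.Og, ∀ q ∈ T.Qg, Commute d q := fun d hd q hq => Subgroup.mem_centralizer_iff.1 (hQ hq) d hd
  let H : Subgroup G :=
    { carrier := {x | ∃ d ∈ hL.Og, ∃ q ∈ T.Qg, x = d * q}
      one_mem' := ⟨1, hL.Og.one_mem, 1, T.Qg.one_mem, (one_mul 1).symm⟩
      mul_mem' := by
        rintro _ _ ⟨d, hd, q, hq, rfl⟩ ⟨d', hd', q', hq', rfl⟩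
        exact ⟨d * d', hL.Og.mul_mem hd hd', q * q', T.Qg.mul_mem hq hq', (hcq d' hd' q hq).symm.mul_mul_mul_comm d q'⟩
      inv_mem' := by
        rintro _ ⟨d, hd, q, hq, rfl⟩
        exact ⟨d⁻¹, hL.Og.inv_mem hd, q⁻¹, T.Qg.inv_mem hq, by rw [(hcq d hd q hq).eq, mul_inv_rev]⟩ }
  have hOH : hL.Og ≤ H := fun d hd => ⟨d, hd, 1, T.Qg.one_mem, (mul_one d).symm⟩
  have hQH : T.Qg ≤ H := fun q hq => ⟨1, hL.Og.one_mem, q, hq, (one_mul q).symm⟩
  have hHN : H ≤ N := by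
    rintro _ ⟨d, hd, q, hq, rfl⟩
    exact N.mul_mem (hON hd) (hQN hq)
  have hEH : ∀ g ∈ T.Eg, g ∈ Subgroup.normalizer (H : Set G) := fun g hg => hnorm (by
    rintro _ ⟨d, hd, q, hq, rfl⟩
    exact ⟨_, hL.Eg_Og hg hd, _, T.Eg_Qg hg hq, by group⟩)
  have hNt : ∀ x ∈ N, x * T.φ tm = T.φ tm * x := fun x hx =>
    (Subgroup.mem_centralizer_iff.1 (hNC hx) _ hL.tm_Og).symm
  have hQrH : hS.Qr ≤ Subgroup.normalizer (H : Set G) := by
    by_contra hne
    set N₁ := N ⊓ Subgroup.normalizer (H : Set G) with hN₁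
    have hE₁ : ∀ g ∈ T.Eg, g ∈ Subgroup.normalizer (N₁ : Set G) := fun g hg => hnorm fun x hx =>
      ⟨(Subgroup.mem_normalizer_iff.1 (hEN hg) x).1 hx.1,
        Subgroup.mul_mem _ (Subgroup.mul_mem _ (hEH g hg) hx.2) (Subgroup.inv_mem _ (hEH g hg))⟩
    have hsmall : ∀ x ∈ N₁, x ∈ hS.Qr → x ∈ H := by
      intro x hx hxr
      by_contra hxH
      refine hne fun y hy => ?_
      have hle : T.Qg ≤ N₁.map (MulAut.conj hS.R).toMonoidHom := by
        refine T.Qg_le (hnorm ?_) (hS.mem_Qr.1 hxr) ⟨x, hx, by show hS.R * x * hS.R⁻¹ = _; rw [hS.R_inv]⟩ ?_ ?_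
        · rintro _ ⟨z, hz, rfl⟩
          refine ⟨hS.R * e * hS.R * z * (hS.R * e * hS.R)⁻¹,
            (Subgroup.mem_normalizer_iff.1 (hE₁ _ (hS.R_Eg heE)) z).1 hz, ?_⟩
          show hS.R * (hS.R * e * hS.R * z * (hS.R * e * hS.R)⁻¹) * hS.R⁻¹ = e * (hS.R * z * hS.R⁻¹) * e⁻¹
          rw [mul_inv_rev, mul_inv_rev, hS.R_inv]
          calc hS.R * (hS.R * e * hS.R * z * (hS.R * (e⁻¹ * hS.R))) * hS.R
              = hS.R * hS.R * e * hS.R * z * hS.R * e⁻¹ * (hS.R * hS.R) := by group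
            _ = _ := by rw [hS.R_invol]; group
        · intro h
          refine hxH ?_
          have hh := hRR x
          rw [h, mul_one, hS.R_invol] at hh
          exact hh ▸ H.one_mem
        · intro h
          refine hxH ?_
          have hh := hRR x
          rw [h, hS.R_phi_tm] at hh
          exact hh ▸ hOH hL.tm_Og
      obtain ⟨z, hz, hzy⟩ := hle (hS.mem_Qr.1 hy)
      change hS.R * z * hS.R⁻¹ = hS.R * y * hS.R at hzy
      rw [hS.R_inv] at hzy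
      rw [← mul_left_cancel (mul_right_cancel hzy)]
      exact hz.2
    have hle : N₁ ≤ H := hS.plane_gen (K := N₁) (B := H) (fun x hx => Subgroup.mem_centralizer_singleton_iff.2 (hNt x hx.1))
      (hN3.coprime_dvd_left (Subgroup.card_dvd_of_le inf_le_left)) hE₁ (fun x hx => hS.pair_cent hx)
      (fun x hx => hQH hx.2) (fun x hx => hsmall x hx.1 hx.2)
      (fun x ⟨hx, he⟩ => by
        obtain ⟨d, hd, a, rfl⟩ := hL.cent_axis (hNC hx.1) (Subgroup.mem_centralizer_singleton_iff.1 he)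
        have h1 : T.q (a • (0, 0, 1)) ∈ N := by
          have := N.mul_mem (N.inv_mem (hON hd)) hx.1
          rwa [inv_mul_cancel_left] at this
        have h2 : orderOf (T.q (a • (0, 0, 1))) ∣ Nat.gcd (Nat.card N) 3 :=
          Nat.dvd_gcd (Subgroup.orderOf_dvd_natCard N h1) (orderOf_dvd_iff_pow_eq_one.2 (T.q_cube _))
        rw [hN3.gcd_eq_one, Nat.dvd_one, orderOf_eq_one_iff] at h2
        rw [h2, mul_one]
        exact hOH hd)
    haveI := hnil
    have htop : H.subgroupOf N = ⊤ := by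
      by_contra hlt
      obtain ⟨x, hxN, hxH⟩ := SetLike.exists_of_lt (Group.normalizerCondition_of_isNilpotent _ (lt_top_iff_ne_top.2 hlt))
      refine hxH (Subgroup.mem_subgroupOf.2 (hle ⟨x.2, hnorm fun z hz => ?_⟩))
      exact Subgroup.mem_subgroupOf.1
        ((Subgroup.mem_normalizer_iff.1 hxN ⟨z, hHN hz⟩).1 (Subgroup.mem_subgroupOf.2 hz))
    exact hne ((hQrN.trans (Subgroup.subgroupOf_eq_top.1 htop)).trans Subgroup.le_normalizer)
  -- the commutators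
  have hcH : ∀ q ∈ T.Qg, ∀ q' ∈ hS.Qr, q * q' * q⁻¹ * q'⁻¹ ∈ H := fun q hq q' hq' => by
    rw [show q * q' * q⁻¹ * q'⁻¹ = q * (q' * q⁻¹ * q'⁻¹) by group]
    exact H.mul_mem (hQH hq) ((Subgroup.mem_normalizer_iff.1 (hQrH hq') _).1 (hQH (T.Qg.inv_mem hq)))
  have hcO : ∀ q ∈ T.Qg, ∀ q' ∈ hS.Qr, q * q' * q⁻¹ * q'⁻¹ ∈ hL.Og := by
    intro q hq q' hq'
    obtain ⟨d, hd, q₁, hq₁, h1⟩ := hcH q hq q' hq'
    obtain ⟨d₂, hd₂, q₂, hq₂, h2⟩ := hcH _ (hS.mem_Qr.1 hq') _ (hS.R_swap hq)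
    have h3 : hS.R * q' * hS.R * (hS.R * q * hS.R) * (hS.R * q' * hS.R)⁻¹ * (hS.R * q * hS.R)⁻¹ =
        hS.R * (q * q' * q⁻¹ * q'⁻¹)⁻¹ * hS.R := by
      simp only [mul_inv_rev, inv_inv, hS.R_inv]
      calc hS.R * q' * hS.R * (hS.R * q * hS.R) * (hS.R * (q'⁻¹ * hS.R)) * (hS.R * (q⁻¹ * hS.R))
          = hS.R * q' * (hS.R * hS.R) * q * (hS.R * hS.R) * q'⁻¹ * (hS.R * hS.R) * q⁻¹ * hS.R := by group
        _ = _ := by rw [hS.R_invol]; group
    rw [h3] at h2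
    set c := q * q' * q⁻¹ * q'⁻¹
    have h4 : c = d₂⁻¹ * (hS.R * q₂ * hS.R)⁻¹ := by
      have h5 := congrArg (fun z => hS.R * z * hS.R) h2
      simp only [hRR] at h5
      have h6 : hS.R * (d₂ * q₂) * hS.R = hS.R * q₂ * hS.R * d₂ := by
        rw [(hcq d₂ hd₂ q₂ hq₂).eq, ← mul_assoc, mul_assoc _ d₂, ← hL.R_Og hd₂, ← mul_assoc]
      rw [h6] at h5
      rw [← inv_inv c, h5, mul_inv_rev]
    set q₃ := hS.R * q₂ * hS.R with hq₃
    have hq₃r : q₃ ∈ hS.Qr := hS.R_swap hq₂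
    -- shift by the axis
    have hz : e * q₁ * e⁻¹ * q₁⁻¹ ∈ T.Qg := T.Qg.mul_mem (T.Eg_Qg heE hq₁) (T.Qg.inv_mem hq₁)
    have hz' : e * q₁ * e⁻¹ * q₁⁻¹ ∈ hS.Qr := by
      have hd₃ : q₃⁻¹ = d₂ * d * q₁ := by
        have : d * q₁ = d₂⁻¹ * q₃⁻¹ := h1.symm.trans h4
        rw [mul_assoc, this, mul_inv_cancel_left]
      have hmem : e * q₃⁻¹ * e⁻¹ * q₃ ∈ hS.Qr :=
        hS.Qr.mul_mem (hQrE e heE _ (hS.Qr.inv_mem hq₃r)) hq₃r
      have hdd : Commute e (d₂ * d) := (hL.Og_cent (hL.Og.mul_mem hd₂ hd)).symm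
      have hdq : Commute (d₂ * d) (e * q₁ * e⁻¹ * q₁⁻¹) := hcq _ (hL.Og.mul_mem hd₂ hd) _ hz
      rw [← inv_inv q₃, hd₃] at hmem
      rw [inv_inv, show e * (d₂ * d * q₁) * e⁻¹ * (d₂ * d * q₁)⁻¹ =
        e * (d₂ * d) * q₁ * e⁻¹ * q₁⁻¹ * (d₂ * d)⁻¹ by group, hdd.eq] at hmem
      rw [show d₂ * d * e * q₁ * e⁻¹ * q₁⁻¹ * (d₂ * d)⁻¹ = d₂ * d * (e * q₁ * e⁻¹ * q₁⁻¹) * (d₂ * d)⁻¹ by group,
        hdq.eq, mul_inv_cancel_right] at hmem
      exact hmem
    have haxis : ∀ w ∈ T.Qg, w * e = e * w → w = 1 ∨ w = T.φ tm := fun w hw hwe => by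
      obtain ⟨m, hm, rfl⟩ := hw
      obtain ⟨he', hg⟩ := Qm_mem_form hm
      rcases Qm_axis m.g hg (by rw [← he']; exact T.inj (by rw [map_mul, map_mul]; exact hwe)) with h | h <;>
        rw [← he'] at h <;> subst h
      · exact Or.inl T.φ.map_one
      · exact Or.inr rfl
    set w := e * q₁ * e⁻¹ * q₁⁻¹
    have hwe : w * e = e * w := by
      have ha := T.Qg_comm_a hz
      have hb : w * T.q (1, 1, 2) = T.q (1, 1, 2) * w := by
        have h := T.Qg_comm_a (hS.mem_Qr.1 hz')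
        have h' := congrArg (fun z => hS.R * z * hS.R) h
        have hRa : hS.R * T.a * hS.R = T.q (1, 1, 2) := by
          rw [← T.q_dia, ← fixed_basic.1, ← hS.R_acts dia, hS.R_inv]
        calc w * T.q (1, 1, 2) = hS.R * (hS.R * w * hS.R * T.a) * hS.R := by
              rw [← hRa]; simp only [← mul_assoc, hS.R_invol, one_mul]
          _ = hS.R * (T.a * (hS.R * w * hS.R)) * hS.R := h'
          _ = _ := by rw [← hRa]; simp only [mul_assoc, hS.R_invol, mul_one]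
      have hee : e = T.a⁻¹ * T.q (1, 1, 2) := by
        rw [hedef, ← T.q_dia, ← T.q_neg, ← T.q_add]
        exact congrArg T.q (by decide +kernel)
      rw [hee]
      exact ((show Commute w T.a from ha).inv_right.mul_right hb).eq
    have hq1 : q₁ = 1 ∨ q₁ = T.φ tm := by
      refine haxis q₁ hq₁ ?_
      rcases haxis w hz hwe with h | h
      · exact (mul_inv_eq_iff_eq_mul.1 (mul_inv_eq_one.1 h)).symm
      exfalso
      have hte : Commute (T.φ tm) e := (Acts.comm_iff T T.tm_acts).2 fixed_basic.2.1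
      have h1' : e * q₁ * e⁻¹ = T.φ tm * q₁ := by
        rw [← h]
        show e * q₁ * e⁻¹ = e * q₁ * e⁻¹ * q₁⁻¹ * q₁
        group
      have h2' : e * (e * q₁ * e⁻¹) * e⁻¹ = q₁ := by
        rw [h1', ← mul_assoc, hte.symm.eq, show T.φ tm * e * q₁ * e⁻¹ = T.φ tm * (e * q₁ * e⁻¹) by group, h1',
          ← mul_assoc, T.tm_invol, one_mul]
      have h3' : e * (e * (e * q₁ * e⁻¹) * e⁻¹) * e⁻¹ = q₁ := by
        calc e * (e * (e * q₁ * e⁻¹) * e⁻¹) * e⁻¹ = e ^ 3 * q₁ * (e ^ 3)⁻¹ := by rw [pow_succ, pow_two]; group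
          _ = q₁ := by rw [T.q_cube]; simp
      rw [h2', h1'] at h3'
      exact qe_moved.2.2.1 (T.inj ((mul_eq_right.1 h3').trans T.φ.map_one.symm))
    rw [h1]
    refine hL.Og.mul_mem hd ?_
    rcases hq1 with h | h <;> rw [h]
    · exact hL.Og.one_mem
    · exact hL.tm_Og
  -- the reflection classes kill the commutators
  have hdiag : ∀ k, Commute (T.φ (qe k)) (hS.R * T.φ (qe k) * hS.R) := by
    intro k
    set u := T.φ (qe k)
    have hu : u ∈ T.Qg := T.qe_mem k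
    have hu2 : u * u = T.φ tm := by
      rw [show u = T.φ (qe k) from rfl, hS.qe_eq, conj_mul, ← map_mul, qm_sq,
        ← (Acts.comm_iff T T.tm_acts).2 ((by decide +kernel : ∀ k, mT (0, 0, k) = ((0, 0, k) : V3)) k),
        mul_inv_cancel_right]
    set u' := hS.R * u⁻¹ * hS.R with hu'
    have hu'r : u' ∈ hS.Qr := hS.R_swap (T.Qg.inv_mem hu)
    have hu'2 : u' * u' = T.φ tm := by
      have htinv : (T.φ tm)⁻¹ = T.φ tm := inv_eq_of_mul_eq_one_right T.tm_invol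
      calc u' * u' = hS.R * u⁻¹ * (hS.R * hS.R) * u⁻¹ * hS.R := by rw [hu']; group
        _ = hS.R * (u * u)⁻¹ * hS.R := by rw [hS.R_invol, mul_one, mul_inv_rev]; group
        _ = _ := by rw [hu2, htinv, hS.R_phi_tm]
    set c := u * u' * u⁻¹ * u'⁻¹ with hc
    have hcg := hcO u hu u' hu'r
    set C := u * hS.R * u⁻¹
    have hCC : C * C = 1 := by rw [conj_mul, hS.R_invol, mul_one, mul_inv_cancel]
    have hsq : C * hS.R * (C * hS.R) = c := by
      have hq1 : C * hS.R = u * u' := by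
        show u * hS.R * u⁻¹ * hS.R = u * (hS.R * u⁻¹ * hS.R)
        group
      have htu : u' * T.φ tm = T.φ tm * u' := by
        have hself : Commute u' (u' * u') := (Commute.refl u').mul_right (Commute.refl u')
        rwa [hu'2] at hself
      calc C * hS.R * (C * hS.R) = u * u' * u * u' := by rw [hq1, ← mul_assoc]
        _ = u * u' * u⁻¹ * (u * u) * u' := by group
        _ = u * u' * u⁻¹ * (T.φ tm * u') := by rw [hu2, mul_assoc]
        _ = u * u' * u⁻¹ * u'⁻¹ * (u' * T.φ tm * u') := by group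
        _ = c := by rw [htu, mul_assoc (T.φ tm), hu'2, T.tm_invol, mul_one]
    have hconj : C * hS.R * C⁻¹ = hS.R * c := by
      rw [inv_eq_of_mul_eq_one_right hCC]
      calc C * hS.R * C = C * hS.R * (C * hS.R) * hS.R⁻¹ := by group
        _ = _ := by rw [hsq, hS.R_inv, hL.R_Og hcg]
    obtain ⟨σ, hσ, hσc⟩ := hcg
    have hc1 : c = 1 := by
      by_cases h1 : σ = 1
      · rw [hc, ← hσc, h1, hL.lift_one]; rfl
      · exact absurd (hconj.trans (by rw [hc, ← hσc])) ((hL.lift_class (Axis.inO_sq σ hσ) h1).1 C)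
    have h1 : Commute u u' := mul_inv_eq_iff_eq_mul.1 (mul_inv_eq_one.1 hc1)
    have h2 := h1.inv_right
    rwa [hu', show (hS.R * u⁻¹ * hS.R)⁻¹ = hS.R * u * hS.R by simp only [mul_inv_rev, inv_inv, hS.R_inv, mul_assoc]] at h2
  intro i
  have h0 := (Commute.conj_iff (T.q (0, 0, 2 * i))).2 (hdiag (2 * i))
  have hi : 2 * i + 2 * i = i := (by decide +kernel : ∀ j : ZMod 3, 2 * j + 2 * j = j) i
  have e1 : T.q (0, 0, 2 * i) * T.φ (qe (2 * i)) * (T.q (0, 0, 2 * i))⁻¹ = T.φ (qe i) := by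
    rw [q, ← map_mul, ← map_inv, ← map_mul, qe_shift, hi]
  have e2 : T.q (0, 0, -(2 * i)) * T.φ (qe (2 * i)) * (T.q (0, 0, -(2 * i)))⁻¹ = T.φ qm := by
    rw [q, ← map_mul, ← map_inv, ← map_mul, qe_shift, neg_add_cancel, qe_zero]
  rw [hS.conj_R, e1, e2] at h0
  exact h0

end Conf.Signed.Label

end Cfsg.Agent.Lie.PSpFourThreeFull
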