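import Cfsg.Agent.S3331
import Cfsg.Agent.Lib.Lie.PSpFourThreeAmalgam.NoFive
import Mathlib.GroupTheory.Transfer

/-!
An element of order three that is self-centralising, and complements of central subgroups.
-/

set_option autoImplicit false
set_option linter.unusedSectionVars false
set_option maxRecDepth 100000

namespace Cfsg.Agent.Lie.PSpFourThreeFull

/-- An element of order three of the alternating group of degree five normalises a four group. -/
theorem alt_five_four : ∀ y : alternatingGroup (Fin 5), y ^ 3 = 1 → y ≠ 1 →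
    ∃ v : alternatingGroup (Fin 5), v ≠ 1 ∧ v * v = 1 ∧ v * (y * v * y⁻¹) = y * v * y⁻¹ * v ∧
      y * (y * v * y⁻¹) * y⁻¹ = v * (y * v * y⁻¹) := by decide +kernel

/-- The special linear group of degree two over seven elements. -/
abbrev SL27 : Type := Matrix.SpecialLinearGroup (Fin 2) (ZMod 7)

theorem sl_seven_center : ∀ g : SL27, g * g * g = -1 ∨ g * g * g = 1 → (g = 1 ∨ g = -1) ∨
    ∃ v : SL27, v * v = -1 ∧ (v * (g * v * g⁻¹) = g * v * g⁻¹ * v ∨ v * (g * v * g⁻¹) = -(g * v * g⁻¹ * v)) ∧
      (g * (g * v * g⁻¹) * g⁻¹ = v * (g * v * g⁻¹) ∨ g * (g * v * g⁻¹) * g⁻¹ = -(v * (g * v * g⁻¹))) := by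
  decide +kernel

theorem sl_seven_neg : ∀ g : SL27, g ∈ Subgroup.center SL27 ↔ g = 1 ∨ g = -1 := by
  intro g
  rw [Matrix.SpecialLinearGroup.mem_center_iff]
  revert g
  decide +kernel

theorem psl_seven_four : ∀ y : Matrix.ProjectiveSpecialLinearGroup (Fin 2) (ZMod 7), y ^ 3 = 1 → y ≠ 1 →
    ∃ v, v ≠ 1 ∧ v * v = 1 ∧ v * (y * v * y⁻¹) = y * v * y⁻¹ * v ∧
      y * (y * v * y⁻¹) * y⁻¹ = v * (y * v * y⁻¹) := by
  intro y h3 h1
  induction y using QuotientGroup.induction_on with
  | H g =>
    have hc : ∀ a b : SL27, (a = b ∨ a = -b) →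
        (a : Matrix.ProjectiveSpecialLinearGroup (Fin 2) (ZMod 7)) = (b : SL27) := by
      intro a b h
      refine QuotientGroup.eq.2 ((sl_seven_neg _).2 ?_)
      rcases h with rfl | rfl
      · exact Or.inl (inv_mul_cancel _)
      · refine Or.inr ?_
        rw [inv_mul_eq_iff_eq_mul, mul_neg, mul_one, neg_neg]
    rw [pow_succ, pow_two, ← QuotientGroup.mk_mul, ← QuotientGroup.mk_mul, QuotientGroup.eq_one_iff] at h3
    rw [Ne, QuotientGroup.eq_one_iff] at h1
    rcases sl_seven_center g ((sl_seven_neg _).1 h3).symm with h | ⟨v, hv, hcomm, hrot⟩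
    · exact absurd ((sl_seven_neg g).2 h) h1
    · refine ⟨(v : Matrix.ProjectiveSpecialLinearGroup (Fin 2) (ZMod 7)), ?_, ?_, ?_, ?_⟩
      · rw [Ne, QuotientGroup.eq_one_iff, sl_seven_neg]
        rintro (rfl | rfl)
        · exact absurd hv (by decide +kernel)
        · exact absurd hv (by decide +kernel)
      · rw [← QuotientGroup.mk_mul, QuotientGroup.eq_one_iff, sl_seven_neg]
        exact Or.inr hv
      · simp only [← QuotientGroup.mk_mul, ← QuotientGroup.mk_inv]
        exact hc _ _ hcomm
      · simp only [← QuotientGroup.mk_mul, ← QuotientGroup.mk_inv]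
        exact hc _ _ hrot

/-- Commuting involutions permuted by an element generate a subgroup of order prime to three that it normalises. -/
theorem four_group {X : Type*} [Group X] [Finite X] {z v : X} (hv1 : v ≠ 1) (hv : v * v = 1)
    (hc : v * (z * v * z⁻¹) = z * v * z⁻¹ * v) (hr : z * (z * v * z⁻¹) * z⁻¹ = v * (z * v * z⁻¹)) :
    ∃ V : Subgroup X, V ≠ ⊥ ∧ (Nat.card V).Coprime 3 ∧ z ∈ Subgroup.normalizer (V : Set X) := by
  set w := z * v * z⁻¹
  have hw : w * w = 1 := by
    calc w * w = z * (v * v) * z⁻¹ := by simp only [w]; group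
      _ = 1 := by rw [hv]; group
  set V := Subgroup.closure ({v, w} : Set X)
  have hvV : v ∈ V := Subgroup.subset_closure (Or.inl rfl)
  have hwV : w ∈ V := Subgroup.subset_closure (Or.inr rfl)
  have hab : ∀ g ∈ V, ∀ h ∈ V, g * h = h * g := fun g hg h hh =>
    have hk : V ≤ Subgroup.centralizer ({v, w} : Set X) := Subgroup.closure_le _ |>.2 (by
      rintro x (rfl | rfl) <;> refine Subgroup.mem_centralizer_iff.2 ?_ <;> rintro y (rfl | rfl) <;>
        first | rfl | exact hc | exact hc.symm)
    (Subgroup.mem_centralizer_iff.1 ((Subgroup.closure_le _).2 (fun x hx => Subgroup.mem_centralizer_iff.2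
      fun y hy => (Subgroup.mem_centralizer_iff.1 (hk hy) x hx).symm) hg : g ∈ Subgroup.centralizer (V : Set X)) h
      hh).symm
  have hsq : ∀ g ∈ V, g * g = 1 := fun g hg => by
    induction hg using Subgroup.closure_induction with
    | mem x hx => rcases hx with rfl | rfl <;> assumption
    | one => exact one_mul 1
    | mul a b ha hb iha ihb => rw [(show Commute b a from hab b hb a ha).mul_mul_mul_comm, iha, ihb, one_mul]
    | inv a _ iha => rw [← mul_inv_rev, iha, inv_one]
  refine ⟨V, fun h => hv1 (Subgroup.mem_bot.1 (h ▸ hvV)), ?_, ?_⟩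
  · haveI : Fact (Nat.Prime 2) := ⟨Nat.prime_two⟩
    obtain ⟨k, hk⟩ := IsPGroup.iff_card.1 (show IsPGroup 2 V from fun g =>
      ⟨1, Subtype.ext (by rw [SubgroupClass.coe_pow, pow_one, pow_two]; exact hsq _ g.2)⟩)
    rw [hk]
    exact Nat.Coprime.pow_left _ (by norm_num)
  · have hle : V.map (MulAut.conj z).toMonoidHom ≤ V := by
      rw [MonoidHom.map_closure, Subgroup.closure_le]
      rintro _ ⟨x, rfl | rfl, rfl⟩
      · exact hwV
      · show z * w * z⁻¹ ∈ V
        rw [hr]
        exact V.mul_mem hvV hwV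
    rw [Subgroup.mem_normalizer_iff_map_conj_eq]
    exact Subgroup.eq_of_le_of_card_ge hle (by rw [Subgroup.card_map_of_injective (MulEquiv.injective _)])

/-- The alternatives for a self-centralising element of order three. -/
theorem self_three {X : Type*} [Group X] [Finite X] {z : X} (hz : z ^ 3 = 1) (hz1 : z ≠ 1)
    (hC : ∀ g : X, g * z = z * g → g ∈ Subgroup.zpowers z) :
    (∃ N : Subgroup X, N.Normal ∧ Group.IsNilpotent N ∧ (Nat.card N).Coprime 3 ∧
      (Nat.card X = 3 * Nat.card N ∨ Nat.card X = 6 * Nat.card N) ∧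
      ∀ M : Subgroup X, M.Normal → (Nat.card M).Coprime 3 → M ≤ N) ∨
    ((∃ V : Subgroup X, V ≠ ⊥ ∧ (Nat.card V).Coprime 3 ∧ z ∈ Subgroup.normalizer (V : Set X)) ∧
      (5 ∣ Nat.card X ∨ 7 ∣ Nat.card X)) := by
  haveI : Fact (Nat.Prime 3) := ⟨Nat.prime_three⟩
  have hord : orderOf z = 3 := orderOf_eq_prime hz hz1
  have hZ : Nat.card (Subgroup.zpowers z) = 3 := by rw [Nat.card_zpowers, hord]
  have hC' : Subgroup.centralizer (Subgroup.zpowers z : Set X) = Subgroup.zpowers z := by
    refine le_antisymm (fun g hg => hC g (Subgroup.mem_centralizer_iff.1 hg z (Subgroup.mem_zpowers z)).symm)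
      fun g hg => Subgroup.mem_centralizer_iff.2 fun h hh => ?_
    obtain ⟨a, rfl⟩ := Subgroup.mem_zpowers_iff.1 hh
    obtain ⟨b, rfl⟩ := Subgroup.mem_zpowers_iff.1 hg
    exact ((Commute.refl z).zpow_zpow a b).eq
  rcases Cfsg.Agent.S3331.result (Subgroup.zpowers z) hZ hC' with
    ⟨N, hN, hnil, hco, hq⟩ | ⟨N, hN, -, hN2, ⟨e⟩⟩ | ⟨⟨e⟩⟩
  · haveI := hN
    refine Or.inl ⟨N, hN, hnil, hco, ?_, fun M hM hMc => by
      haveI := hM
      exact PSpFourThreeAmalgam.le_of_small_quotient hq hMc⟩
    rw [← N.card_mul_index]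
    rcases hq with h | ⟨⟨e⟩⟩
    · left; rw [show N.index = 3 from h]; ring
    · right
      rw [show N.index = 6 from (Nat.card_congr e.toEquiv).trans (by rw [Nat.card_perm, Nat.card_fin]; rfl)]
      ring
  · haveI := hN
    right
    refine ⟨?_, Or.inl ?_⟩
    · by_cases hNb : N = ⊥
      · let f : X →* alternatingGroup (Fin 5) := e.toMonoidHom.comp (QuotientGroup.mk' N)
        have hf : Function.Bijective f := ⟨fun a b h => by
          have h1 := (QuotientGroup.eq).1 (e.injective h)
          rw [hNb, Subgroup.mem_bot] at h1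
          exact inv_mul_eq_one.1 h1, e.surjective.comp (QuotientGroup.mk'_surjective N)⟩
        obtain ⟨v, hv1, hv, hc, hr⟩ := alt_five_four (f z) (by rw [← map_pow, hz, map_one])
          (fun h => hz1 (hf.1 (h.trans f.map_one.symm)))
        obtain ⟨v, rfl⟩ := hf.2 v
        simp only [← map_mul, ← map_inv] at hv hc hr
        exact four_group (fun h => hv1 (by rw [h, map_one])) (hf.1 (hv.trans f.map_one.symm)) (hf.1 hc) (hf.1 hr)
      · haveI : Fact (Nat.Prime 2) := ⟨Nat.prime_two⟩
        obtain ⟨k, hk⟩ := IsPGroup.iff_card.1 (show IsPGroup 2 N from fun g =>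
          ⟨1, Subtype.ext (by rw [SubgroupClass.coe_pow, pow_one]; exact hN2 g g.2)⟩)
        refine ⟨N, hNb, ?_, by rw [Subgroup.normalizer_eq_top_iff.2 hN]; exact Subgroup.mem_top _⟩
        rw [hk]
        exact Nat.Coprime.pow_left _ (by norm_num)
    · rw [← N.card_mul_index, show N.index = 60 from (Nat.card_congr e.toEquiv).trans (by
        rw [nat_card_alternatingGroup, Nat.card_fin]; rfl)]
      exact dvd_mul_of_dvd_right (by norm_num) _
  · right
    obtain ⟨v, hv1, hv, hc, hr⟩ := psl_seven_four (e z) (by rw [← map_pow, hz, map_one])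
      (fun h => hz1 (e.injective (h.trans e.map_one.symm)))
    obtain ⟨v, rfl⟩ := e.surjective v
    simp only [← map_mul, ← map_inv] at hv hc hr
    refine ⟨four_group (fun h => hv1 (by rw [h, map_one])) (e.injective (hv.trans e.map_one.symm)) (e.injective hc)
      (e.injective hr), Or.inr ?_⟩
    rw [Nat.card_congr e.toEquiv, PSpFourThreeAmalgam.card_psl_seven]
    norm_num

/-- A central subgroup of coprime index has a characteristic complement, the elements killed by the index. -/
theorem central_complement {X : Type*} [Group X] [Finite X] (P : Subgroup X) (hP : P ≤ Subgroup.center X)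
    (hco : (Nat.card P).Coprime P.index) :
    ∃ K : Subgroup X, (∀ x, x ∈ K ↔ x ^ P.index = 1) ∧ Nat.card K = P.index := by
  obtain ⟨d, hd⟩ := Subgroup.index_dvd_of_le hP
  let f : X →* Subgroup.center X := MonoidHom.mk' (fun x => MonoidHom.transferCenterPow X x ^ d) fun x y => by
    rw [map_mul]
    exact (show Commute (MonoidHom.transferCenterPow X x) (MonoidHom.transferCenterPow X y) from
      Subtype.ext (Subgroup.mem_center_iff.1 (MonoidHom.transferCenterPow X y).2 _)).mul_pow d
  have hf : ∀ x, (f x : X) = x ^ P.index := fun x => by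
    show ((MonoidHom.transferCenterPow X x) ^ d : Subgroup.center X).1 = _
    rw [SubgroupClass.coe_pow, MonoidHom.transferCenterPow_apply, ← pow_mul, hd]
  haveI : P.Normal := ⟨fun x hx g => by
    rwa [Subgroup.mem_center_iff.1 (hP hx) g, mul_inv_cancel_right]⟩
  refine ⟨f.ker, fun x => ?_, ?_⟩
  · rw [MonoidHom.mem_ker, ← hf]
    exact ⟨fun h => by rw [h]; rfl, fun h => Subtype.ext h⟩
  · have hr : f.range.map (Subgroup.center X).subtype = P := by
      refine le_antisymm ?_ fun y hy => ?_
      · rintro _ ⟨_, ⟨x, rfl⟩, rfl⟩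
        rw [Subgroup.coe_subtype, hf]
        exact P.pow_index_mem x
      · obtain ⟨k, hk⟩ := exists_pow_eq_self_of_coprime (x := (⟨y, hy⟩ : P))
          (n := P.index) (Nat.Coprime.coprime_dvd_right (orderOf_dvd_natCard _) hco.symm)
        refine ⟨_, ⟨y ^ k, rfl⟩, ?_⟩
        rw [Subgroup.coe_subtype, hf, ← pow_mul, mul_comm, pow_mul]
        exact congrArg Subtype.val hk
    have h := f.ker.card_mul_index
    rw [Subgroup.index_ker, ← Subgroup.card_map_of_injective (Subgroup.center X).subtype_injective, hr,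
      ← P.card_mul_index, mul_comm] at h
    exact Nat.eq_of_mul_eq_mul_left Nat.card_pos h

end Cfsg.Agent.Lie.PSpFourThreeFull
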