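/-
The signalizer of an element of order three that is self-centralising modulo an abelian two-group.
-/
import Cfsg.Agent.Lib.Lie.PSpFourThreeFull.SelfThree
import Mathlib.GroupTheory.Nilpotent
import Mathlib.GroupTheory.Perm.Fin
import Mathlib.Data.Fintype.Perm

set_option autoImplicit false
set_option linter.unusedSectionVars false
set_option maxRecDepth 100000

namespace Cfsg.Agent.Lie.PSpFourThreeFull

set_option synthInstance.maxSize 1000 in
/-- In the symmetric group of degree three no involution is normalised by a three-cycle. -/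
theorem perm_three_two : ∀ g w : Equiv.Perm (Fin 3), g ^ 3 = 1 → g ≠ 1 → w ^ 2 = 1 →
    (w * (g * w * g⁻¹)) ^ 2 = 1 → w = 1 := by decide +kernel

theorem two_pow_mod_seven : ∀ j : ℕ, 2 ^ j % 7 = 1 ∨ 2 ^ j % 7 = 2 ∨ 2 ^ j % 7 = 4
  | 0 => Or.inl rfl
  | j + 1 => by
    rcases two_pow_mod_seven j with h | h | h <;> rw [pow_succ, Nat.mul_mod, h] <;> norm_num

/-- A subgroup whose order does not divide `ℓ - 1` and that normalises a group of prime order `ℓ` has a non-trivial
element centralising it. -/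
theorem exists_central_of_not_dvd {G : Type*} [Group G] [Finite G] {Y P : Subgroup G} {ℓ : ℕ} [Fact ℓ.Prime]
    (hP : Nat.card P = ℓ) (hY : Y ≤ Subgroup.normalizer (P : Set G)) (hd : ¬ Nat.card Y ∣ ℓ - 1) :
    ∃ y ∈ Y, y ≠ 1 ∧ P ≤ Subgroup.centralizer ({y} : Set G) := by
  haveI : IsCyclic P := isCyclic_of_prime_card hP
  let f : Y →* MulAut P := (Subgroup.normalizerMonoidHom P).comp (Subgroup.inclusion hY)
  have hA : Nat.card (MulAut P) = ℓ - 1 := by
    rw [IsCyclic.card_mulAut, hP, Nat.totient_prime Fact.out]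
  obtain ⟨y, hy, hy1⟩ : ∃ y ∈ f.ker, y ≠ 1 := by
    by_contra h
    push Not at h
    refine hd (hA ▸ Subgroup.card_dvd_of_injective f ?_)
    rw [← MonoidHom.ker_eq_bot_iff, Subgroup.eq_bot_iff_forall]
    exact h
  refine ⟨y, y.2, fun h => hy1 (Subtype.ext h), fun x hx => ?_⟩
  rw [Subgroup.mem_centralizer_singleton_iff]
  have h1 : f y ⟨x, hx⟩ = ⟨x, hx⟩ := by rw [MonoidHom.mem_ker.mp hy]; rfl
  have h2 : (y : G) * x * (y : G)⁻¹ = x := congrArg Subtype.val h1
  calc x * (y : G) = (y : G) * x * (y : G)⁻¹ * (y : G) := by rw [h2]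
    _ = (y : G) * x := by group

/-- A group of order nine normalising a group of order `2 ^ a * 3 * ℓ` centralises one of its elements of order `ℓ`. -/
theorem exists_central_prime {G : Type*} [Group G] [Finite G] {M E : Subgroup G} (hEM : E ≤ Subgroup.normalizer (M : Set G))
    (hE : Nat.card E = 9) {a ℓ : ℕ} [Fact ℓ.Prime] (hℓ : ℓ = 5 ∨ ℓ = 7) (hM : Nat.card M = 2 ^ a * 3 * ℓ) :
    ∃ y ∈ E, y ≠ 1 ∧ ℓ ∣ Nat.card (M ⊓ Subgroup.centralizer ({y} : Set G) : Subgroup G) := by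
  classical
  haveI : Fact (Nat.Prime 3) := ⟨Nat.prime_three⟩
  let φ : E →* MulAut M := (Subgroup.normalizerMonoidHom M).comp (Subgroup.inclusion hEM)
  letI : MulDistribMulAction E M := MulDistribMulAction.compHom M φ
  have hcop : Nat.Coprime ℓ (2 ^ a * 3) := by
    rcases hℓ with rfl | rfl <;> exact Nat.Coprime.mul_right (Nat.Coprime.pow_right _ (by norm_num)) (by norm_num)
  have hPcard : ∀ P : Sylow ℓ M, Nat.card (P : Subgroup M) = ℓ := fun P => by
    obtain ⟨k, hk⟩ := IsPGroup.iff_card.1 P.isPGroup'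
    refine Nat.dvd_antisymm ?_ (P.dvd_card_of_dvd_card (hM ▸ dvd_mul_left _ _))
    have h1 : ℓ ^ k ∣ 2 ^ a * 3 * ℓ := hM ▸ hk ▸ Subgroup.card_subgroup_dvd_card _
    exact hk ▸ (Nat.Coprime.pow_left k hcop).dvd_of_dvd_mul_left h1
  have hn : Nat.card (Sylow ℓ M) ∣ 2 ^ a * 3 := by
    obtain ⟨P⟩ := (inferInstance : Nonempty (Sylow ℓ M))
    refine P.card_dvd_index.trans (dvd_of_eq ?_)
    have h1 := (P : Subgroup M).card_mul_index
    rw [hPcard, hM, mul_comm (2 ^ a * 3)] at h1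
    exact Nat.eq_of_mul_eq_mul_left (Fact.out (p := ℓ.Prime)).pos h1
  obtain ⟨P, hP⟩ : ∃ P : Sylow ℓ M, ¬ Nat.card (MulAction.stabilizer E P) ∣ ℓ - 1 := by
    by_cases h3 : 3 ∣ Nat.card (Sylow ℓ M)
    · by_contra h
      push Not at h
      have hl5 : ℓ = 5 := hℓ.resolve_right fun h7 => by
        subst h7
        obtain ⟨m, hm⟩ := h3
        rw [hm, mul_comm (2 ^ a)] at hn
        obtain ⟨j, -, rfl⟩ := (Nat.dvd_prime_pow Nat.prime_two).1 (Nat.dvd_of_mul_dvd_mul_left (by norm_num) hn)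
        have hmod := card_sylow_modEq_one 7 M
        rw [hm, Nat.ModEq, Nat.mul_mod] at hmod
        rcases two_pow_mod_seven j with e | e | e <;> rw [e] at hmod <;> norm_num at hmod
      subst hl5
      have hfree : ∀ P : Sylow 5 M, Nat.card (MulAction.orbit E P) = 9 := fun P => by
        have h1 : Nat.card (MulAction.stabilizer E P) ∣ Nat.card E := Subgroup.card_subgroup_dvd_card _
        have h2 : Nat.card (MulAction.stabilizer E P) ∣ Nat.gcd 9 4 := Nat.dvd_gcd (hE ▸ h1) (h P)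
        rw [Nat.card_congr (MulAction.orbitEquivQuotientStabilizer E P)]
        have h4 := Subgroup.card_eq_card_quotient_mul_card_subgroup (MulAction.stabilizer E P)
        rw [Nat.dvd_one.1 h2, mul_one, hE] at h4
        exact h4.symm
      have h9 : 9 ∣ Nat.card (Sylow 5 M) := by
        letI := Fintype.ofFinite (MulAction.orbitRel.Quotient E (Sylow 5 M))
        rw [Nat.card_congr (MulAction.selfEquivSigmaOrbits' E (Sylow 5 M)), Nat.card_sigma]
        refine Finset.dvd_sum fun ω _ => ?_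
        induction ω using Quotient.inductionOn' with
        | h x => rw [MulAction.orbitRel.Quotient.orbit_mk, hfree x]
      have h93 : 3 * 3 ∣ 2 ^ a * 3 := h9.trans hn
      have := (Nat.Prime.dvd_of_dvd_pow Nat.prime_three (Nat.dvd_of_mul_dvd_mul_right (by norm_num) h93))
      norm_num at this
    · obtain ⟨P, hP⟩ := (show IsPGroup 3 E from IsPGroup.of_card (n := 2) (by rw [hE]; rfl))
        |>.nonempty_fixed_point_of_prime_not_dvd_card (Sylow ℓ M) h3
      refine ⟨P, ?_⟩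
      rw [show MulAction.stabilizer E P = ⊤ from eq_top_iff.2 fun g _ => MulAction.mem_stabilizer_iff.2 (hP g),
        Subgroup.card_top, hE]
      rcases hℓ with rfl | rfl <;> norm_num
  obtain ⟨P', hP'⟩ : ∃ P' : Subgroup G, P' = (P : Subgroup M).map M.subtype := ⟨_, rfl⟩
  obtain ⟨Y, hY⟩ : ∃ Y : Subgroup G, Y = (MulAction.stabilizer E P).map E.subtype := ⟨_, rfl⟩
  have hP'card : Nat.card P' = ℓ := by rw [hP', Subgroup.card_map_of_injective M.subtype_injective, hPcard]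
  have hYP : Y ≤ Subgroup.normalizer (P' : Set G) := by
    rw [hY]
    rintro _ ⟨y, hy, rfl⟩
    rw [Subgroup.mem_normalizer_iff_map_conj_eq]
    refine Subgroup.eq_of_le_of_card_ge ?_ (by rw [Subgroup.card_map_of_injective (MulEquiv.injective _)])
    rw [hP']
    rintro _ ⟨_, ⟨x, hx, rfl⟩, rfl⟩
    refine ⟨y • x, ?_, rfl⟩
    have h1 : y • x ∈ ((y • P : Sylow ℓ M) : Subgroup M) := Subgroup.smul_mem_pointwise_smul x y _ hx
    rwa [MulAction.mem_stabilizer_iff.1 hy] at h1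
  obtain ⟨y, hyY, hy1, hyc⟩ := exists_central_of_not_dvd hP'card hYP
    (by rw [hY, Subgroup.card_map_of_injective E.subtype_injective]; exact hP)
  refine ⟨y, ?_, hy1, hP'card ▸ Subgroup.card_dvd_of_le (le_inf ?_ hyc)⟩
  · rw [hY] at hyY
    exact Subgroup.map_subtype_le _ hyY
  · rw [hP']; exact Subgroup.map_subtype_le _

/-- **The signalizer.** -/
theorem sig_core {G : Type*} [Group G] [Finite G] (D E : Subgroup G) {e : G}
    (he : e ^ 3 = 1) (he1 : e ≠ 1) (heE : e ∈ E) (hE : Nat.card E = 9)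
    (hEab : ∀ x ∈ E, ∀ y ∈ E, x * y = y * x)
    (hD : IsPGroup 2 D) (hDab : ∀ x ∈ D, ∀ y ∈ D, x * y = y * x) (hED : E ≤ Subgroup.normalizer (D : Set G))
    (heD : ∀ d ∈ D, e * d = d * e)
    (hCe : ∀ x ∈ Subgroup.centralizer (D : Set G), x * e = e * x → ∃ d ∈ D, ∃ i : ℕ, x = d * e ^ i)
    (hfree : ∀ y ∈ E, y ≠ 1 →
      (Nat.card (Subgroup.centralizer (D : Set G) ⊓ Subgroup.centralizer ({y} : Set G) : Subgroup G)).Coprime 35) :
    ∃ N : Subgroup G, D ≤ N ∧ N ≤ Subgroup.centralizer (D : Set G) ∧ E ≤ Subgroup.normalizer (N : Set G) ∧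
      Group.IsNilpotent N ∧ (Nat.card N).Coprime 3 ∧
      Nat.card (Subgroup.centralizer (D : Set G)) ∣ 6 * Nat.card N ∧
      ∀ W : Subgroup G, W ≤ Subgroup.centralizer (D : Set G) → IsPGroup 2 W →
        e ∈ Subgroup.normalizer (W : Set G) → W ≤ N := by
  classical
  haveI : Fact (Nat.Prime 3) := ⟨Nat.prime_three⟩
  haveI : Fact (Nat.Prime 2) := ⟨Nat.prime_two⟩
  obtain ⟨M, hMdef⟩ : ∃ M : Subgroup G, M = Subgroup.centralizer (D : Set G) := ⟨_, rfl⟩
  rw [← hMdef] at hCe hfree ⊢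
  have hDM : D ≤ M := fun d hd => hMdef ▸ Subgroup.mem_centralizer_iff.2 fun x hx => hDab x hx d hd
  have heM : e ∈ M := hMdef ▸ Subgroup.mem_centralizer_iff.2 fun x hx => (heD x hx).symm
  have hEM : E ≤ Subgroup.normalizer (M : Set G) := fun y hy => by
    rw [hMdef, Subgroup.mem_normalizer_iff]
    have key : ∀ z ∈ Subgroup.normalizer (D : Set G), ∀ g ∈ Subgroup.centralizer (D : Set G),
        z * g * z⁻¹ ∈ Subgroup.centralizer (D : Set G) := fun z hz g hg => by
      refine Subgroup.mem_centralizer_iff.2 fun d hd => ?_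
      have h1 := Subgroup.mem_centralizer_iff.1 hg _ ((Subgroup.mem_normalizer_iff''.1 hz d).1 hd)
      calc d * (z * g * z⁻¹) = z * (z⁻¹ * d * z * g) * z⁻¹ := by group
        _ = z * (g * (z⁻¹ * d * z)) * z⁻¹ := by rw [h1]
        _ = z * g * z⁻¹ * d := by group
    intro g
    refine ⟨key y (hED hy) g, fun h => ?_⟩
    have := key y⁻¹ (Subgroup.inv_mem _ (hED hy)) _ h
    simpa [mul_assoc] using this
  obtain ⟨Dm, hDm⟩ : ∃ Dm : Subgroup M, Dm = D.subgroupOf M := ⟨_, rfl⟩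
  have hDmc : Dm ≤ Subgroup.center M := fun x hx => Subgroup.mem_center_iff.2 fun g => by
    rw [hDm, Subgroup.mem_subgroupOf] at hx
    exact Subtype.ext ((Subgroup.mem_centralizer_iff.1 (hMdef ▸ g.2) _ hx).symm)
  haveI : Dm.Normal := ⟨fun x hx g => by
    rwa [Subgroup.mem_center_iff.1 (hDmc hx) g, mul_inv_cancel_right]⟩
  obtain ⟨k, hk⟩ := IsPGroup.iff_card.1 hD
  have hDcard : Nat.card Dm = 2 ^ k := by
    rw [hDm, Nat.card_congr (Subgroup.subgroupOfEquivOfLe hDM).toEquiv, hk]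
  -- the image is self-centralising
  obtain ⟨z, hzdef⟩ : ∃ z : M ⧸ Dm, z = ((⟨e, heM⟩ : M) : M ⧸ Dm) := ⟨_, rfl⟩
  have hz : z ^ 3 = 1 := by
    rw [hzdef, ← QuotientGroup.mk_pow, show (⟨e, heM⟩ : M) ^ 3 = 1 from Subtype.ext he, QuotientGroup.mk_one]
  have hz1 : z ≠ 1 := fun h => by
    rw [hzdef, QuotientGroup.eq_one_iff, hDm, Subgroup.mem_subgroupOf] at h
    have h1 : e ^ (2 ^ k) = 1 := by
      have := congrArg Subtype.val (pow_card_eq_one' (G := D) (x := ⟨e, h⟩))
      rwa [hk, SubgroupClass.coe_pow] at this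
    exact he1 (by
      have := pow_gcd_eq_one.mpr ⟨he, h1⟩
      rwa [Nat.Coprime.gcd_eq_one (Nat.Coprime.pow_right _ (by norm_num)), pow_one] at this)
  have hC : ∀ g : M ⧸ Dm, g * z = z * g → g ∈ Subgroup.zpowers z := by
    intro g hg
    induction g using QuotientGroup.induction_on with
    | H x =>
      rw [hzdef, ← QuotientGroup.mk_mul, ← QuotientGroup.mk_mul, QuotientGroup.eq, hDm, Subgroup.mem_subgroupOf] at hg
      obtain ⟨d, hd, hxe⟩ : ∃ d ∈ D, (x : G) * e = e * (x : G) * d⁻¹ := ⟨((x : G) * e)⁻¹ * (e * (x : G)), by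
        simpa using hg, by group⟩
      have hd1 : d = 1 := by
        have hdx : (x : G) * d = d * (x : G) := (Subgroup.mem_centralizer_iff.1 (hMdef ▸ x.2) d hd).symm
        have hde : Commute d⁻¹ e := (Commute.inv_left (heD d hd).symm)
        have h1 : (x : G) * e * (x : G)⁻¹ = e * d⁻¹ := by
          rw [hxe, mul_assoc e, (show Commute (x : G) d⁻¹ from (show Commute (x : G) d from hdx).inv_right).eq]
          group
        have h2 : (e * d⁻¹) ^ 3 = 1 := by rw [← h1, conj_pow, he, mul_one, mul_inv_cancel]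
        rw [hde.symm.mul_pow, he, one_mul, inv_pow, inv_eq_one] at h2
        have h3 : d ^ (2 ^ k) = 1 := by
          have := congrArg Subtype.val (pow_card_eq_one' (G := D) (x := ⟨d, hd⟩))
          rwa [hk, SubgroupClass.coe_pow] at this
        have := pow_gcd_eq_one.mpr ⟨h2, h3⟩
        rwa [Nat.Coprime.gcd_eq_one (Nat.Coprime.pow_right _ (by norm_num)), pow_one] at this
      rw [hd1, inv_one, mul_one] at hxe
      obtain ⟨d', hd', i, hi⟩ := hCe _ x.2 hxe
      refine ⟨(i : ℤ), ?_⟩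
      show z ^ (i : ℤ) = _
      rw [zpow_natCast, hzdef, ← QuotientGroup.mk_pow, QuotientGroup.eq, hDm, Subgroup.mem_subgroupOf]
      push_cast
      rw [hi, (show Commute d' (e ^ i) from Commute.pow_right (heD d' hd').symm i).eq, inv_mul_cancel_left]
      exact hd'
  have hzc : Nat.card (Subgroup.zpowers z) = 3 := by rw [Nat.card_zpowers, orderOf_eq_prime hz hz1]
  have hC' : Subgroup.centralizer (Subgroup.zpowers z : Set (M ⧸ Dm)) = Subgroup.zpowers z := by
    refine le_antisymm (fun g hg => hC g (Subgroup.mem_centralizer_iff.1 hg z (Subgroup.mem_zpowers z)).symm)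
      fun g hg => Subgroup.mem_centralizer_iff.2 fun h hh => ?_
    obtain ⟨a, rfl⟩ := Subgroup.mem_zpowers_iff.1 hh
    obtain ⟨b, rfl⟩ := Subgroup.mem_zpowers_iff.1 hg
    exact ((Commute.refl z).zpow_zpow a b).eq
  have hMcard : Nat.card M = Nat.card (M ⧸ Dm) * 2 ^ k := by
    rw [Subgroup.card_eq_card_quotient_mul_card_subgroup Dm, hDcard]
  -- neither five nor seven occurs
  have hbad : ∀ (a ℓ : ℕ) [Fact ℓ.Prime], (ℓ = 5 ∨ ℓ = 7) → Nat.card M ≠ 2 ^ a * 3 * ℓ := by
    intro a ℓ _ hℓ hc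
    obtain ⟨y, hyE, hy1, hdvd⟩ := exists_central_prime hEM hE hℓ hc
    have h35 : ℓ ∣ 35 := by rcases hℓ with rfl | rfl <;> norm_num
    have := Nat.dvd_gcd hdvd h35
    rw [(hfree y hyE hy1).gcd_eq_one, Nat.dvd_one] at this
    exact (Fact.out (p := ℓ.Prime)).ne_one this
  rcases Cfsg.Agent.S3331.result (Subgroup.zpowers z) hzc hC' with
    ⟨Nb, hNb, hnil, hco, hq⟩ | ⟨Nb, hNb, -, hN2, ⟨eqv⟩⟩ | ⟨⟨eqv⟩⟩
  rotate_left
  · exfalso
    haveI : Fact (Nat.Prime 5) := ⟨by norm_num⟩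
    obtain ⟨j, hj⟩ := IsPGroup.iff_card.1 (show IsPGroup 2 Nb from fun g =>
      ⟨1, Subtype.ext (by rw [SubgroupClass.coe_pow, pow_one]; exact hN2 g g.2)⟩)
    refine hbad (j + k + 2) 5 (Or.inl rfl) ?_
    rw [hMcard, Subgroup.card_eq_card_quotient_mul_card_subgroup Nb, hj, Nat.card_congr eqv.toEquiv,
      nat_card_alternatingGroup, Nat.card_fin, show Nat.factorial 5 / 2 = 60 by decide]
    ring
  · exfalso
    haveI : Fact (Nat.Prime 7) := ⟨by norm_num⟩
    refine hbad (k + 3) 7 (Or.inr rfl) ?_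
    rw [hMcard, Nat.card_congr eqv.toEquiv, PSpFourThreeAmalgam.card_psl_seven]
    ring
  haveI := hNb
  obtain ⟨Nm, hNm⟩ : ∃ Nm : Subgroup M, Nm = Nb.comap (QuotientGroup.mk' Dm) := ⟨_, rfl⟩
  have hDNm : Dm ≤ Nm := fun x hx => by
    rw [hNm, Subgroup.mem_comap, QuotientGroup.mk'_apply, (QuotientGroup.eq_one_iff x).2 hx]
    exact Nb.one_mem
  haveI : Nm.Normal := hNm ▸ Nb.normal_comap _
  have hmem : ∀ x : M, x ∈ Nm ↔ (x : M ⧸ Dm) ∈ Nb := fun x => by rw [hNm]; rfl
  let g : Nm →* Nb := ((QuotientGroup.mk' Dm).comp Nm.subtype).codRestrict Nb fun x => (hmem _).1 x.2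
  have hgs : Function.Surjective g := fun x => by
    obtain ⟨y, hy⟩ := QuotientGroup.mk'_surjective Dm x.1
    exact ⟨⟨y, (hmem y).2 (by rw [← QuotientGroup.mk'_apply, hy]; exact x.2)⟩, Subtype.ext hy⟩
  have hgk : g.ker = Dm.subgroupOf Nm := by
    ext x
    rw [MonoidHom.mem_ker, Subgroup.mem_subgroupOf, ← QuotientGroup.eq_one_iff]
    exact ⟨fun h => congrArg Subtype.val h, fun h => Subtype.ext h⟩
  have hNmcard : Nat.card Nm = Nat.card Nb * 2 ^ k := by
    rw [Subgroup.card_eq_card_quotient_mul_card_subgroup g.ker,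
      Nat.card_congr (QuotientGroup.quotientKerEquivOfSurjective g hgs).toEquiv, hgk,
      Nat.card_congr (Subgroup.subgroupOfEquivOfLe hDNm).toEquiv, hDcard]
  obtain ⟨N, hN⟩ : ∃ N : Subgroup G, N = Nm.map M.subtype := ⟨_, rfl⟩
  have hNcard : Nat.card N = Nat.card Nm := by rw [hN, Subgroup.card_map_of_injective M.subtype_injective]
  have hNco : (Nat.card N).Coprime 3 := by
    rw [hNcard, hNmcard]
    exact Nat.Coprime.mul_left hco (Nat.Coprime.pow_left _ (by norm_num))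
  have hNM : N ≤ M := hN ▸ Subgroup.map_subtype_le _
  have hmax : ∀ L : Subgroup M, L.Normal → (Nat.card L).Coprime 3 → L ≤ Nm := fun L hL hLc x hx => by
    haveI : (L.map (QuotientGroup.mk' Dm)).Normal := hL.map _ (QuotientGroup.mk'_surjective Dm)
    rw [hNm, Subgroup.mem_comap]
    exact PSpFourThreeAmalgam.le_of_small_quotient hq
      (Nat.Coprime.coprime_dvd_left (Subgroup.card_map_dvd L _) hLc) (Subgroup.mem_map_of_mem _ hx)
  refine ⟨N, fun d hd => ?_, hNM, fun y hy => ?_, ?_, hNco, ?_, fun W hWM hW heW => ?_⟩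
  · rw [hN]
    exact ⟨⟨d, hDM hd⟩, hDNm (by rw [hDm, Subgroup.mem_subgroupOf]; exact hd), rfl⟩
  · -- conjugation preserves the largest normal subgroup of order prime to three
    rw [Subgroup.mem_normalizer_iff_map_conj_eq]
    refine Subgroup.eq_of_le_of_card_ge ?_ (by rw [Subgroup.card_map_of_injective (MulEquiv.injective _)])
    rintro _ ⟨x, hx, rfl⟩
    rw [hN] at hx
    obtain ⟨x, hx, rfl⟩ := hx
    let α : MulAut M := Subgroup.normalizerMonoidHom M ⟨y, hEM hy⟩
    haveI : (Nm.map α.toMonoidHom).Normal := (inferInstance : Nm.Normal).map _ α.surjective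
    rw [hN]
    exact ⟨α x, hmax (Nm.map α.toMonoidHom) inferInstance
      (by rw [Subgroup.card_map_of_injective (f := α.toMonoidHom) α.injective, ← hNcard]; exact hNco) (Subgroup.mem_map_of_mem _ hx), rfl⟩
  · haveI : Group.IsNilpotent Nb := hnil
    haveI : Group.IsNilpotent Nm := Subgroup.isNilpotent_of_ker_le_center g (fun x hx => by
      rw [hgk, Subgroup.mem_subgroupOf] at hx
      exact Subgroup.mem_center_iff.2 fun w => Subtype.ext (Subgroup.mem_center_iff.1 (hDmc hx) w.1))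
    rw [hN]
    exact Group.nilpotent_of_mulEquiv (Subgroup.equivMapOfInjective Nm M.subtype M.subtype_injective)
  · have h6 : Nat.card ((M ⧸ Dm) ⧸ Nb) ∣ 6 := by
      rcases hq with h3 | ⟨⟨eq3⟩⟩
      · rw [h3]; norm_num
      · rw [Nat.card_congr eq3.toEquiv, Nat.card_perm, Nat.card_fin]; rfl
    rw [hMcard, hNcard, hNmcard, Subgroup.card_eq_card_quotient_mul_card_subgroup Nb, mul_assoc]
    exact Nat.mul_dvd_mul_right h6 _
  · intro w hw
    rw [hN]
    refine ⟨⟨w, hWM hw⟩, ?_, rfl⟩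
    refine (hmem _).2 ?_
    rw [← QuotientGroup.eq_one_iff]
    obtain ⟨f, hf⟩ : ∃ f : M →* (M ⧸ Dm) ⧸ Nb, f = (QuotientGroup.mk' Nb).comp (QuotientGroup.mk' Dm) := ⟨_, rfl⟩
    suffices h : f ⟨w, hWM hw⟩ = 1 by rw [hf] at h; exact h
    have hpw : ∀ v : G, ∀ hv : v ∈ W, ∃ i, f ⟨v, hWM hv⟩ ^ (2 ^ i) = 1 := fun v hv => by
      obtain ⟨i, hi⟩ := hW ⟨v, hv⟩
      refine ⟨i, ?_⟩
      rw [← map_pow, show (⟨v, hWM hv⟩ : M) ^ 2 ^ i = 1 from
        Subtype.ext (by simpa using congrArg Subtype.val hi), map_one]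
    rcases hq with h3 | ⟨⟨eq3⟩⟩
    · obtain ⟨i, hi⟩ := hpw w hw
      have h1 : f ⟨w, hWM hw⟩ ^ 3 = 1 := h3 ▸ pow_card_eq_one'
      have := pow_gcd_eq_one.mpr ⟨hi, h1⟩
      rwa [Nat.Coprime.gcd_eq_one (Nat.Coprime.pow_left _ (by norm_num)), pow_one] at this
    · have hsq : ∀ v : G, ∀ hv : v ∈ W, eq3 (f ⟨v, hWM hv⟩) ^ 2 = 1 := fun v hv => by
        obtain ⟨i, hi⟩ := hpw v hv
        have h6 : eq3 (f ⟨v, hWM hv⟩) ^ 6 = 1 := by
          have h : eq3 (f ⟨v, hWM hv⟩) ^ Nat.card (Equiv.Perm (Fin 3)) = 1 := pow_card_eq_one'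
          rwa [Nat.card_perm, Nat.card_fin] at h
        have h8 : eq3 (f ⟨v, hWM hv⟩) ^ (2 ^ i) = 1 := by rw [← map_pow, hi, map_one]
        have h := pow_gcd_eq_one.mpr ⟨h8, h6⟩
        obtain ⟨c, hc⟩ : Nat.gcd (2 ^ i) 6 ∣ 2 := by
          obtain ⟨j, -, hj⟩ := (Nat.dvd_prime_pow Nat.prime_two).1 (Nat.gcd_dvd_left (2 ^ i) 6)
          rw [hj]
          rcases j with _ | _ | j
          · norm_num
          · norm_num
          · exfalso
            have h4 : 4 ∣ 6 := ((pow_dvd_pow 2 (show 2 ≤ j + 2 by omega)).trans (dvd_of_eq hj.symm)).trans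
              (Nat.gcd_dvd_right _ _)
            norm_num at h4
        rw [hc, pow_mul, h, one_pow]
      refine eq3.injective ?_
      rw [map_one]
      have hfe : eq3 (f ⟨e, heM⟩) ^ 3 = 1 := by
        rw [← map_pow, ← map_pow, show (⟨e, heM⟩ : M) ^ 3 = 1 from Subtype.ext he, map_one, map_one]
      have hfe1 : eq3 (f ⟨e, heM⟩) ≠ 1 := fun h => by
        rw [← map_one eq3] at h
        have hzN : z ∈ Nb := by
          have h' := eq3.injective h
          rw [hf, MonoidHom.comp_apply, QuotientGroup.mk'_apply, QuotientGroup.mk'_apply, QuotientGroup.eq_one_iff] at h'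
          rwa [hzdef]
        have h1 : orderOf z ∣ Nat.card Nb := by
          rw [show orderOf z = orderOf (⟨z, hzN⟩ : Nb) from (Subgroup.orderOf_mk z hzN).symm]
          exact orderOf_dvd_natCard _
        rw [orderOf_eq_prime hz hz1] at h1
        have := Nat.dvd_gcd h1 (dvd_refl 3)
        rw [hco.gcd_eq_one] at this
        norm_num at this
      refine perm_three_two _ _ hfe hfe1 (hsq w hw) ?_
      have hwe : e * w * e⁻¹ ∈ W := (Subgroup.mem_normalizer_iff.1 heW w).1 hw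
      have h := hsq _ (W.mul_mem hw hwe)
      rw [show (⟨w * (e * w * e⁻¹), hWM (W.mul_mem hw hwe)⟩ : M) =
        ⟨w, hWM hw⟩ * (⟨e, heM⟩ * ⟨w, hWM hw⟩ * ⟨e, heM⟩⁻¹) from Subtype.ext rfl] at h
      rwa [map_mul, map_mul, map_mul, map_mul, map_mul, map_mul, map_inv, map_inv] at h

end Cfsg.Agent.Lie.PSpFourThreeFull
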