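import Cfsg.Agent.Lib.Small.ShapeThree.Model
import Cfsg.Agent.Lib.Lie.PSpFourThreeAmalgam.Coord
import Mathlib.GroupTheory.Sylow

/-!
The elementary abelian subgroup of order twenty-seven in the model `3^{1+2}:SL₂(3)`, with coordinates.
-/

set_option autoImplicit false

namespace Cfsg.Agent.Lie.PSpFourThreeFull

open Cfsg.Agent.Lie.PSpFourThreeAmalgam
open Cfsg.Agent.Small.ShapeThree (M omega)
open Matrix

/-- The entries of an element of the model. -/
def entries (m : M) : ZMod 3 × (ZMod 3 × ZMod 3) × (ZMod 3 × ZMod 3 × ZMod 3 × ZMod 3) :=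
  (m.k, (m.v 0, m.v 1), (m.g.1 0 0, m.g.1 0 1, m.g.1 1 0, m.g.1 1 1))

theorem entries_inj {m n : M} (h : entries m = entries n) : m = n := by
  simp only [entries, Prod.mk.injEq] at h
  obtain ⟨h1, ⟨h2, h3⟩, h4, h5, h6, h7⟩ := h
  refine M.ext h1 ?_ (Subtype.ext ?_)
  · ext i; fin_cases i <;> assumption
  · ext i j; fin_cases i <;> fin_cases j <;> assumption

instance (priority := high) decEqM : DecidableEq M := fun m n =>
  decidable_of_iff (entries m = entries n) ⟨entries_inj, fun h => h ▸ rfl⟩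

/-- An upper unitriangular matrix. -/
def uni (n : ZMod 3) : Cfsg.Agent.Small.ShapeThree.S := ⟨!![1, n; 0, 1], by simp [det_fin_two]⟩

/-- The coordinates. -/
def jc (v : V3) : M := ⟨v.2.2, ![v.1 + 2 * v.2.1, 0], uni (2 * (v.1 + v.2.1 + v.2.2))⟩

/-- The cyclic shift in the model. -/
def sm : M := ⟨0, ![0, 1], 1⟩

/-- The transposition in the model. -/
def tm : M := ⟨0, 0, neg2⟩

/-- Membership in the image of the coordinates. -/
def inJ (m : M) : Prop := m.v 1 = 0 ∧ m.g.1 0 0 = 1 ∧ m.g.1 1 0 = 0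

instance (m : M) : Decidable (inJ m) := inferInstanceAs (Decidable (_ ∧ _ ∧ _))

theorem jc_add : ∀ v w : V3, jc (v + w) = jc v * jc w := by decide +kernel

theorem jc_inj : ∀ v w : V3, jc v = jc w → v = w := by decide +kernel

theorem jc_zero : jc 0 = 1 := by decide +kernel

theorem jc_one : jc (1, 1, 1) = M.c := by decide +kernel

theorem inJ_iff : ∀ m : M, inJ m ↔ ∃ v, jc v = m := by decide +kernel

theorem sm_act : ∀ v, sm * jc v * sm⁻¹ = jc (mU v) := by decide +kernel

theorem tm_act : ∀ v, tm * jc v * tm⁻¹ = jc (mT v) := by decide +kernel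

theorem tm_sq : tm * tm = 1 := by decide +kernel

/-- The six maps fixing the diagonal. -/
def six (k : Fin 6) (v : V3) : V3 :=
  if k.1 < 3 then mU^[k.1] v else mT (mU^[k.1 - 3] v)

theorem normalising : ∀ m : M, inJ (m * jc (1, 0, 0) * m⁻¹) → inJ (m * jc (0, 1, 0) * m⁻¹) →
    inJ (m * jc (0, 0, 1) * m⁻¹) → ∃ k, ∀ v ∈ ([(1, 0, 0), (0, 1, 0), (0, 0, 1)] : List V3),
      m * jc v * m⁻¹ = jc (six k v) := by decide +kernel

theorem centralising : ∀ m : M, m * jc (1, 0, 0) = jc (1, 0, 0) * m → m * jc (0, 1, 0) = jc (0, 1, 0) * m →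
    inJ m := by decide +kernel

theorem mem_P_cube : ∀ m : M, m ∈ M.P → m * m * m = 1 → inJ m ∨ (m.g.1 0 1 = 0) := by decide +kernel

theorem radical_into : ∀ (k : ZMod 3) (a b : ZMod 3), ∃ g : M, inJ (g * ⟨k, ![a, b], 1⟩ * g⁻¹) := by decide +kernel

set_option synthInstance.maxSize 512 in
set_option synthInstance.maxHeartbeats 100000 in
theorem cent_small : ∀ m : M, m.g.1 0 0 = 1 → m.g.1 1 0 = 0 → ¬ inJ m → ∀ v : V3, m * jc v = jc v * m →
    v.1 = v.2.1 ∧ v.2.1 = v.2.2 := by decide +kernel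

theorem inJ_P : ∀ m : M, inJ m → m ∈ M.P := by decide +kernel

theorem sm_P : sm ∈ M.P ∧ ¬ inJ sm := by decide +kernel

end Cfsg.Agent.Lie.PSpFourThreeFull
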