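import Cfsg.Agent.Lib.Lie.PSpFourThreeFull.W6Words
import Mathlib.Tactic.FinCases

/-!
The word data of the seventh node.
-/

set_option autoImplicit false
set_option maxRecDepth 1000000
set_option synthInstance.maxSize 4000
set_option Elab.async false

namespace Cfsg.Agent.Lie.PSpFourThreeFull.W6

open Cfsg.Agent.Lie Cfsg.Agent.Lie.PSpFourThreeAmalgam

/-- The word moving the new reflection to the seventh node. -/
def uWord : List (Fin 6) := [4, 5, 3, 4, 2, 3, 0, 2, 1, 3, 0, 2, 0]

/-- The words of reflections commuting with the new one. -/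
def fixWords : List (List (Fin 6)) :=
  [[0], [5], high, [1], [3], qw (1, 1, 0) ++ [3] ++ (qw (1, 1, 0)).reverse,
    qw (2, 2, 0) ++ [3] ++ (qw (2, 2, 0)).reverse]

/-- The decompositions of the pulled back nodes. -/
def nodeCert : Fin 5 → List (Fin 7) := ![[3], [6, 3, 2, 3, 6], [5, 0, 5], [1], [5, 3, 2, 3, 5]]

theorem node_pull : ∀ i : Fin 5, model.img (uWord.reverse ++ [i.castSucc] ++ uWord) =
    model.img ((nodeCert i).map fun k : Fin 7 => fixWords.getD k.val []).flatten := by decide +kernel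

theorem node_last : model.img (uWord.reverse ++ [5] ++ uWord) = model.img [2] := by decide +kernel

theorem seven_restrict : ∀ i j : Fin 6,
    (CoxeterMatrix.E₇ : CoxeterMatrix (Fin 7)).M i.castSucc j.castSucc = (CoxeterMatrix.E₆ : CoxeterMatrix (Fin 6)).M i j := by
  intro i j
  fin_cases i <;> fin_cases j <;> rfl

theorem seven_last : (∀ i : Fin 5, (CoxeterMatrix.E₇ : CoxeterMatrix (Fin 7)).M i.castSucc.castSucc (Fin.last 6) = 2 ∧
      (CoxeterMatrix.E₇ : CoxeterMatrix (Fin 7)).M (Fin.last 6) i.castSucc.castSucc = 2) ∧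
    (CoxeterMatrix.E₇ : CoxeterMatrix (Fin 7)).M (Fin.last 5).castSucc (Fin.last 6) = 3 ∧
    (CoxeterMatrix.E₇ : CoxeterMatrix (Fin 7)).M (Fin.last 6) (Fin.last 5).castSucc = 3 ∧
    (CoxeterMatrix.E₇ : CoxeterMatrix (Fin 7)).M (Fin.last 6) (Fin.last 6) = 1 := by
  refine ⟨fun i => ?_, rfl, rfl, rfl⟩
  fin_cases i <;> exact ⟨rfl, rfl⟩

end Cfsg.Agent.Lie.PSpFourThreeFull.W6
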