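import Mathlib.Data.List.GetD
import Mathlib.GroupTheory.Sylow
import Mathlib.GroupTheory.GroupAction.ConjAct
import Mathlib.GroupTheory.Index

/-!
Certificates on reflections, normal subgroups and involutions of a finite Coxeter group.
-/

set_option autoImplicit false

namespace Cfsg.Agent.Lie.PSpFourThreeFull

/-- Involutory generators with words recognised by their images. -/
structure WordModel (W : Type*) [Group W] (n : ℕ) where
  s : Fin n → W
  img : List (Fin n) → List ℕ
  eq_iff : ∀ ω ω', (ω.map s).prod = (ω'.map s).prod ↔ img ω = img ω'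
  sq : ∀ i, s i * s i = 1
  gen : Subgroup.closure (Set.range s) = ⊤

namespace WordModel

variable {W : Type*} [Group W] {n : ℕ} (m : WordModel W n)

/-- The value of a word. -/
def pr (ω : List (Fin n)) : W := (ω.map m.s).prod

theorem pr_append (ω ω' : List (Fin n)) : m.pr (ω ++ ω') = m.pr ω * m.pr ω' := by simp [pr]

theorem pr_cons (i : Fin n) (ω : List (Fin n)) : m.pr (i :: ω) = m.s i * m.pr ω := by simp [pr]

theorem pr_nil : m.pr [] = 1 := rfl

theorem pr_reverse (ω : List (Fin n)) : m.pr ω.reverse = (m.pr ω)⁻¹ := by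
  induction ω with
  | nil => simp [pr]
  | cons i ω ih =>
    rw [List.reverse_cons, pr_append, ih, pr_cons, pr_cons, pr_nil, mul_one, mul_inv_rev,
      inv_eq_of_mul_eq_one_right (m.sq i)]

theorem pr_eq {ω ω' : List (Fin n)} (h : m.img ω = m.img ω') : m.pr ω = m.pr ω' := (m.eq_iff ω ω').2 h

theorem pr_ne {ω ω' : List (Fin n)} (h : m.img ω ≠ m.img ω') : m.pr ω ≠ m.pr ω' := fun e => h ((m.eq_iff ω ω').1 e)

include m in
theorem induction {P : W → Prop} (one : P 1) (step : ∀ i w, P w → P (m.s i * w)) (w : W) : P w := by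
  have hw : w ∈ Subgroup.closure (Set.range m.s) := m.gen ▸ Subgroup.mem_top w
  induction hw using Subgroup.closure_induction_left with
  | one => exact one
  | mul_left x hx y _ ih => obtain ⟨i, rfl⟩ := hx; exact step i y ih
  | inv_mul_cancel x hx y _ ih =>
    obtain ⟨i, rfl⟩ := hx
    rw [inv_eq_of_mul_eq_one_right (m.sq i)]
    exact step i y ih

/-- The listed words are closed under conjugation by the generators. -/
def okClosed (Rw : List (List (Fin n))) (nxt : List (List ℕ)) : Bool :=
  (List.range Rw.length).all fun k => (List.finRange n).all fun i =>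
    decide ((nxt.getD k []).getD i.val 0 < Rw.length) &&
      m.img (i :: Rw.getD k [] ++ [i]) == m.img (Rw.getD ((nxt.getD k []).getD i.val 0) [])

theorem conj_mem {Rw : List (List (Fin n))} {nxt : List (List ℕ)} (h : m.okClosed Rw nxt = true) (g : W) :
    ∀ ω ∈ Rw, ∃ ω' ∈ Rw, g * m.pr ω * g⁻¹ = m.pr ω' := by
  induction g using m.induction with
  | one => exact fun ω hω => ⟨ω, hω, by simp⟩
  | step i g ih =>
    intro ω hω
    obtain ⟨ω', hω', e⟩ := ih ω hω
    obtain ⟨k, hk, rfl⟩ := List.getElem_of_mem hω'
    simp only [okClosed, List.all_eq_true, List.mem_range, List.mem_finRange, Bool.and_eq_true, decide_eq_true_eq,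
      beq_iff_eq, forall_true_left] at h
    obtain ⟨hb, he⟩ := h k hk i
    refine ⟨_, List.getD_eq_getElem Rw [] hb ▸ List.getElem_mem hb, ?_⟩
    rw [← m.pr_eq he, List.cons_append, pr_cons, pr_append, pr_cons, pr_nil, mul_one, List.getD_eq_getElem Rw [] hk,
      ← e, mul_inv_rev, inv_eq_of_mul_eq_one_right (m.sq i)]
    group

/-- A conjugator for every listed word. -/
def okConj (Rw : List (List (Fin n))) (cj : List (List (Fin n))) (j : Fin n) : Bool :=
  (List.range Rw.length).all fun k => m.img (cj.getD k [] ++ [j] ++ (cj.getD k []).reverse) == m.img (Rw.getD k [])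

/-- Pairwise different values. -/
def okNodup (L : List (List (Fin n))) : Bool := decide (L.map m.img).Nodup

theorem pr_injOn {L : List (List (Fin n))} (hn : m.okNodup L = true) :
    Function.Injective fun k : Fin L.length => m.pr L[k] := by
  intro a b hab
  simp only [okNodup, decide_eq_true_eq] at hn
  have h1 := (m.eq_iff _ _).1 hab
  exact Fin.ext ((hn.getElem_inj_iff (hi := by simp) (hj := by simp)).1 (by simpa using h1))

theorem index_centralizer [Finite W] {Rw : List (List (Fin n))} {nxt : List (List ℕ)} {cj : List (List (Fin n))}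
    (hc : m.okClosed Rw nxt = true) (j : Fin n) (hj : [j] ∈ Rw) (hcj : m.okConj Rw cj j = true)
    (hn : m.okNodup Rw = true) :
    (Subgroup.centralizer ({m.s j} : Set W)).index = Rw.length := by
  classical
  set C := Subgroup.centralizer ({m.s j} : Set W)
  have hmem : ∀ g, g ∈ C ↔ g * m.s j = m.s j * g := fun g => Subgroup.mem_centralizer_singleton_iff
  let f : W ⧸ C → W := Quotient.lift (fun g => g * m.s j * g⁻¹) fun a b hab => by
    have h := (hmem _).1 (QuotientGroup.leftRel_apply.1 hab)
    calc a * m.s j * a⁻¹ = a * (m.s j * (a⁻¹ * b)) * b⁻¹ := by group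
      _ = _ := by rw [← h]; group
  have hf : Function.Injective f := by
    rintro ⟨a⟩ ⟨b⟩ hab
    refine QuotientGroup.eq.2 ((hmem _).2 ?_)
    have h : a * m.s j * a⁻¹ = b * m.s j * b⁻¹ := hab
    calc a⁻¹ * b * m.s j = a⁻¹ * (b * m.s j * b⁻¹) * b := by group
      _ = _ := by rw [← h]; group
  have hpj : m.pr [j] = m.s j := by simp [pr]
  simp only [okConj, List.all_eq_true, List.mem_range, beq_iff_eq] at hcj
  have hrange : Set.range f = Set.range fun k : Fin Rw.length => m.pr Rw[k] := by
    ext x
    constructor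
    · rintro ⟨⟨g⟩, rfl⟩
      obtain ⟨ω', hω', e⟩ := m.conj_mem hc g [j] hj
      obtain ⟨k, hk, rfl⟩ := List.getElem_of_mem hω'
      exact ⟨⟨k, hk⟩, by rw [hpj] at e; exact e.symm⟩
    · rintro ⟨k, rfl⟩
      refine ⟨QuotientGroup.mk (m.pr (cj.getD k.val [])), ?_⟩
      have h := m.pr_eq (hcj k.val k.isLt)
      rw [pr_append, pr_append, pr_reverse, hpj, List.getD_eq_getElem Rw [] k.isLt] at h
      exact h
  show Nat.card (W ⧸ C) = _
  rw [← Nat.card_range_of_injective hf, hrange, Nat.card_range_of_injective (m.pr_injOn hn),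
    Nat.card_eq_fintype_card, Fintype.card_fin]

/-- Either a product is the rotation after conjugation, or a commutator with a third reflection is. -/
def okRot (Rw : List (List (Fin n))) (cert : List (List (List (Fin n) × List (Fin n)))) (a b : Fin n) : Bool :=
  (List.finRange n).all fun i => (List.range Rw.length).all fun k =>
    let c := (cert.getD i.val []).getD k ([], [])
    let x := [i] ++ Rw.getD k []
    m.img [i] == m.img (Rw.getD k []) ||
      (c.2.isEmpty && m.img (c.1 ++ x ++ c.1.reverse) == m.img [a, b]) ||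
      m.img (c.1 ++ (x ++ c.2 ++ x.reverse ++ c.2.reverse) ++ c.1.reverse) == m.img [a, b]

theorem rot_mem {Rw : List (List (Fin n))} {nxt : List (List ℕ)} {cert : List (List (List (Fin n) × List (Fin n)))}
    {a b : Fin n} (hc : m.okClosed Rw nxt = true) (hs : ∀ i, [i] ∈ Rw) (hr : m.okRot Rw cert a b = true)
    (N : Subgroup W) [hN : N.Normal] {x : W} (hx : x ∈ N) (hxc : x ∉ Subgroup.center W) : m.s a * m.s b ∈ N := by
  obtain ⟨i, hi⟩ : ∃ i, x * m.s i ≠ m.s i * x := by
    by_contra h
    push Not at h
    refine hxc (Subgroup.mem_center_iff.2 fun g => ?_)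
    induction g using m.induction with
    | one => simp
    | step i g ih => rw [mul_assoc, ih, ← mul_assoc, ← mul_assoc, h i]
  obtain ⟨ω', hω', e⟩ := m.conj_mem hc x [i] (hs i)
  obtain ⟨k, hk, rfl⟩ := List.getElem_of_mem hω'
  have hpi : m.pr [i] = m.s i := by simp [pr]
  rw [hpi] at e
  have hNx : m.pr ([i] ++ Rw[k]) ∈ N := by
    rw [pr_append, hpi, ← e]
    have h1 := N.mul_mem (hN.conj_mem x hx (m.s i)) (N.inv_mem hx)
    rwa [show m.s i * x * (m.s i)⁻¹ * x⁻¹ = m.s i * (x * m.s i * x⁻¹) by
      rw [inv_eq_of_mul_eq_one_right (m.sq i)]; group] at h1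
  simp only [okRot, List.all_eq_true, List.mem_range, List.mem_finRange, Bool.or_eq_true, Bool.and_eq_true,
    beq_iff_eq, forall_true_left] at hr
  have hab : m.pr [a, b] = m.s a * m.s b := by simp [pr]
  have h := hr i k hk
  rw [List.getD_eq_getElem Rw [] hk] at h
  rcases h with (h | ⟨-, h⟩) | h
  · refine absurd ?_ hi
    have h1 := m.pr_eq h
    rw [hpi, ← e] at h1
    exact mul_inv_eq_iff_eq_mul.1 h1.symm
  · rw [← hab, ← m.pr_eq h, pr_append, pr_append, pr_reverse]
    exact hN.conj_mem _ hNx _
  · rw [← hab, ← m.pr_eq h, pr_append, pr_append, pr_reverse]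
    refine hN.conj_mem _ ?_ _
    rw [pr_append, pr_append, pr_append, pr_reverse, pr_reverse, mul_assoc (_ * _) _ _, mul_assoc]
    refine N.mul_mem hNx ?_
    rw [← mul_assoc]
    exact hN.conj_mem _ (N.inv_mem hNx) _

/-- A closed table of words of a two-power length. -/
def okTable (L : List (List (Fin n))) (gens : List (List (Fin n))) (nxt : List (List ℕ)) : Bool :=
  decide (L.head? = some []) &&
  (List.range L.length).all fun k => (List.range gens.length).all fun g =>
    decide ((nxt.getD k []).getD g 0 < L.length) &&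
      m.img (gens.getD g [] ++ L.getD k []) == m.img (L.getD ((nxt.getD k []).getD g 0) [])

/-- Every entry of the table is generated by the generators. -/
def okTree (L gens : List (List (Fin n))) (par : List (ℕ × ℕ)) : Bool :=
  (List.range L.length).all fun k => k == 0 ||
    (decide ((par.getD k (0, 0)).1 < gens.length) && decide ((par.getD k (0, 0)).2 < k) &&
      m.img (gens.getD (par.getD k (0, 0)).1 [] ++ L.getD (par.getD k (0, 0)).2 []) == m.img (L.getD k []))

theorem tree_mem {L gens : List (List (Fin n))} {par : List (ℕ × ℕ)} (h0 : L.head? = some [])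
    (h : m.okTree L gens par = true) :
    ∀ k < L.length, m.pr (L.getD k []) ∈ Subgroup.closure (Set.range fun g : Fin gens.length => m.pr gens[g]) := by
  simp only [okTree, List.all_eq_true, List.mem_range, Bool.or_eq_true, Bool.and_eq_true, decide_eq_true_eq,
    beq_iff_eq] at h
  intro k
  induction k using Nat.strong_induction_on with
  | _ k ih =>
    intro hk
    rcases h k hk with rfl | ⟨⟨hg, hj⟩, he⟩
    · rw [List.getD_eq_getElem?_getD, ← List.head?_eq_getElem?, h0]
      exact Subgroup.one_mem _
    · rw [← m.pr_eq he, pr_append]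
      refine Subgroup.mul_mem _ ?_ (ih _ hj (hj.trans hk))
      rw [List.getD_eq_getElem gens [] hg]
      exact Subgroup.subset_closure ⟨⟨_, hg⟩, rfl⟩

/-- Every involution of the table is conjugate to a representative. -/
def okInvol (L : List (List (Fin n))) (reps : List (List (Fin n))) (cert : List (List (Fin n) × ℕ)) : Bool :=
  (List.range L.length).all fun k =>
    let ω := L.getD k []
    let c := cert.getD k ([], 0)
    m.img (ω ++ ω) != m.img [] || m.img ω == m.img [] ||
      (decide (c.2 < reps.length) && m.img (c.1 ++ ω ++ c.1.reverse) == m.img (reps.getD c.2 []))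

theorem involution_conj [Finite W] {L gens : List (List (Fin n))} {nxt : List (List ℕ)}
    {reps : List (List (Fin n))} {cert : List (List (Fin n) × ℕ)} (hT : m.okTable L gens nxt = true)
    (hn : m.okNodup L = true)
    {par : List (ℕ × ℕ)} (hTree : m.okTree L gens par = true)
    {e o : ℕ} (ho : ¬ 2 ∣ o) (hL : L.length = 2 ^ e) (hW : Nat.card W = 2 ^ e * o)
    (hI : m.okInvol L reps cert = true) {u : W} (hu : u * u = 1) (hu1 : u ≠ 1) :
    ∃ g, ∃ ω ∈ reps, g * u * g⁻¹ = m.pr ω := by
  classical
  haveI : Fact (Nat.Prime 2) := ⟨Nat.prime_two⟩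
  simp only [okTable, List.all_eq_true, List.mem_range, Bool.and_eq_true, decide_eq_true_eq, beq_iff_eq] at hT
  have hgen := m.tree_mem hT.1 hTree
  set H := Subgroup.closure (Set.range fun g : Fin gens.length => m.pr gens[g]) with hH
  have hH' : (H : Set W) = Set.range fun k : Fin L.length => m.pr L[k] := by
    refine Set.Subset.antisymm (fun x hx => ?_) ?_
    · induction hx using Subgroup.closure_induction_left with
      | one =>
        have hpos : 0 < L.length := by rw [hL]; positivity
        refine ⟨⟨0, hpos⟩, ?_⟩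
        have h0 : L[0] = [] := by
          have := hT.1
          rw [List.head?_eq_getElem?, List.getElem?_eq_getElem hpos] at this
          exact Option.some.inj this
        simp [pr, h0]
      | mul_left x hx y _ ih =>
        obtain ⟨g, rfl⟩ := hx
        obtain ⟨k, rfl⟩ := ih
        obtain ⟨hb, he⟩ := hT.2 k.val k.isLt g.val g.isLt
        refine ⟨⟨_, hb⟩, ?_⟩
        have := m.pr_eq he
        rw [pr_append, List.getD_eq_getElem gens [] g.isLt, List.getD_eq_getElem L [] k.isLt,
          List.getD_eq_getElem L [] hb] at this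
        exact this.symm
      | inv_mul_cancel x hx y _ ih =>
        obtain ⟨g, rfl⟩ := hx
        -- left multiplication permutes the table
        let f : Fin L.length → Fin L.length := fun k => ⟨_, (hT.2 k.val k.isLt g.val g.isLt).1⟩
        have hfv : ∀ k, m.pr L[f k] = m.pr gens[g] * m.pr L[k] := fun k => by
          have := m.pr_eq (hT.2 k.val k.isLt g.val g.isLt).2
          rw [pr_append, List.getD_eq_getElem gens [] g.isLt, List.getD_eq_getElem L [] k.isLt,
            List.getD_eq_getElem L [] (f k).isLt] at this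
          exact this.symm
        have hfi : Function.Injective f := fun a b hab => m.pr_injOn hn (by
          have h1 := hfv a
          rw [hab, hfv b] at h1
          exact (mul_left_cancel h1).symm)
        obtain ⟨k, rfl⟩ := ih
        obtain ⟨k', hk'⟩ := (Finite.injective_iff_surjective.1 hfi) k
        refine ⟨k', ?_⟩
        show m.pr L[k'] = _
        have h1 := hfv k'
        rw [hk'] at h1
        rw [eq_inv_mul_iff_mul_eq]
        exact h1.symm
    · rintro _ ⟨k, rfl⟩
      have := hgen k.val k.isLt
      rwa [List.getD_eq_getElem L [] k.isLt] at this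
  have hcard : Nat.card H = 2 ^ e := by
    show Nat.card ((H : Set W) : Type _) = _
    rw [hH', Nat.card_range_of_injective (m.pr_injOn hn), Nat.card_eq_fintype_card, Fintype.card_fin, hL]
  have hidx : ¬ 2 ∣ H.index := fun h => ho (by
    have h1 := H.card_mul_index
    rw [hcard, hW] at h1
    rwa [Nat.eq_of_mul_eq_mul_left (by positivity) h1] at h)
  set S := (IsPGroup.of_card hcard).toSylow hidx
  have hU : IsPGroup 2 (Subgroup.zpowers u) := by
    refine IsPGroup.of_card (n := 1) ?_
    rw [Nat.card_zpowers, orderOf_eq_prime (by rw [pow_two, hu]) hu1, pow_one]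
  obtain ⟨Q, hQ⟩ := hU.exists_le_sylow
  obtain ⟨g, hg⟩ := MulAction.exists_smul_eq W Q S
  have hmemH : g * u * g⁻¹ ∈ (H : Set W) := by
    show _ ∈ (S : Subgroup W)
    rw [← hg, Sylow.coe_subgroup_smul]
    exact Subgroup.smul_mem_pointwise_smul u (MulAut.conj g) _ (hQ (Subgroup.mem_zpowers u))
  rw [hH'] at hmemH
  obtain ⟨k, hk⟩ := hmemH
  simp only [okInvol, List.all_eq_true, List.mem_range, Bool.or_eq_true, Bool.and_eq_true, decide_eq_true_eq,
    beq_iff_eq, bne_iff_ne, ne_eq] at hI
  have hk' := hI k.val k.isLt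
  rw [List.getD_eq_getElem L [] k.isLt] at hk'
  rcases hk' with (h | h) | ⟨hr, h⟩
  · refine absurd ((m.eq_iff _ _).1 ?_) h
    show m.pr _ = m.pr _
    rw [pr_append, show m.pr L[k.val] = g * u * g⁻¹ from hk, pr_nil]
    rw [show g * u * g⁻¹ * (g * u * g⁻¹) = g * (u * u) * g⁻¹ by group, hu]
    group
  · refine absurd ?_ hu1
    have h1 := m.pr_eq h
    rw [show m.pr L[k.val] = g * u * g⁻¹ from hk, pr_nil] at h1
    exact conj_eq_one_iff.1 h1
  · refine ⟨m.pr (cert.getD k.val ([], 0)).1 * g, _, List.getD_eq_getElem reps [] hr ▸ List.getElem_mem hr, ?_⟩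
    rw [← m.pr_eq h, pr_append, pr_append, pr_reverse, show m.pr L[k.val] = g * u * g⁻¹ from hk]
    group

end WordModel

end Cfsg.Agent.Lie.PSpFourThreeFull
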