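import Cfsg.Agent.Lib.Lie.PSpFourThreeFull.WeylPerm
import Cfsg.Agent.Lib.Lie.PSpFourThreeFull.WeylCert

/-!
A packed certificate for the involutions of a Sylow subgroup.
-/

set_option autoImplicit false

namespace Cfsg.Agent.Lie.PSpFourThreeFull

/-- One slot of a packed table. -/
def slot (b x i : ℕ) : ℕ := (x >>> (b * i)) &&& (2 ^ b - 1)

/-- A packed table of a two-group given by root images. -/
structure SylTable (n : ℕ) where
  gens : List (List (Fin n))
  perm : List ℕ
  ims : ℕ
  nxt : ℕ
  par : ℕ
  ord : ℕ
  slotOf : ℕ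
  cert : List (List (Fin n) × ℕ)

namespace SylTable

variable {n : ℕ} (D : SylTable n)

/-- The generators leading to an entry. -/
def gl : ℕ → ℕ → List ℕ
  | 0, _ => []
  | f + 1, k => if k == 0 then [] else ((slot 15 D.par k) &&& 15) :: gl f (slot 15 D.par k >>> 4)

/-- The word of an entry. -/
def wordOf (fuel k : ℕ) : List (Fin n) := (D.gl fuel k).flatMap fun g => D.gens.getD g []

/-- One permutation. -/
def app (g s : ℕ) : ℕ := slot 7 (D.perm.getD g 0) s

/-- The successor. -/
def next (g k : ℕ) : ℕ := slot 11 D.nxt (k * D.gens.length + g)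

/-- The images of an entry. -/
def im (m k : ℕ) : List ℕ := (List.range m).map fun j => slot 7 (slot 49 D.ims k) j

/-- The permutations are those of the generators. -/
def okPerm (tab : List ℕ) (roots : ℕ) : Bool :=
  decide (D.gens.length = D.perm.length) && (List.range D.gens.length).all fun g => (List.range roots).all fun s =>
    (D.app g s == ((D.gens.getD g []).map Fin.val).foldr (stp tab) s) && decide (D.app g s < roots)

/-- Start, products and order. -/
def okEntries (S : List ℕ) (roots fuel size : ℕ) : Bool :=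
  (S.all fun s => decide (s < roots)) && (List.range size).all fun k =>
    ((D.im S.length k).all fun s => decide (s < roots)) &&
    ((D.gl fuel k).all fun g => decide (g < D.gens.length)) &&
    ((D.im S.length k).foldr (fun a acc => a + acc * 128) 0 == slot 49 D.ims k) &&
    ((D.gl fuel k).foldr (fun g v => v.map (D.app g)) S == D.im S.length k) &&
    ((List.range D.gens.length).all fun g => decide (D.next g k < size) &&
      (D.im S.length k).map (D.app g) == D.im S.length (D.next g k)) &&
    decide (slot 11 D.ord k < size) &&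
    (k + 1 == size || decide (slot 49 D.ims (slot 11 D.ord k) < slot 49 D.ims (slot 11 D.ord (k + 1))))

/-- The first entry is the empty word. -/
def okStart (fuel : ℕ) : Bool := (D.gl fuel 0).isEmpty

/-- The involutions are conjugate to representatives. -/
def okCert (tab : List ℕ) (S : List ℕ) (reps : List (List (Fin n))) (fuel size : ℕ) : Bool :=
  (List.range size).all fun k =>
    k == 0 || (D.gl fuel k).foldr D.next k != 0 ||
      (let c := D.cert.getD (slot 11 D.slotOf k - 1) ([], 0)
       decide (c.2 < reps.length) &&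
        (D.im S.length k).map (fun s => (c.1.map Fin.val).foldr (stp tab) s) ==
          evImg tab S ((reps.getD c.2 [] ++ c.1).map Fin.val))

end SylTable

namespace WordModel

variable {W : Type*} [Group W] {n : ℕ} (m : WordModel W n)

theorem involution_conj' [Finite W] (D : SylTable n) (tab S : List ℕ) {roots fuel : ℕ}
    (reps : List (List (Fin n))) (hm : ∀ ω, m.img ω = evImg tab S (ω.map Fin.val))
    (hP : D.okPerm tab roots = true) {e o : ℕ} (hE : D.okEntries S roots fuel (2 ^ e) = true)
    (h0 : D.okStart fuel = true) (hC : D.okCert tab S reps fuel (2 ^ e) = true)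
    (ho : ¬ 2 ∣ o) (hW : Nat.card W = 2 ^ e * o) {u : W} (hu : u * u = 1) (hu1 : u ≠ 1) :
    ∃ g, ∃ ω ∈ reps, g * u * g⁻¹ = m.pr ω := by
  classical
  haveI : Fact (Nat.Prime 2) := ⟨Nat.prime_two⟩
  simp only [SylTable.okPerm, List.all_eq_true, List.mem_range, Bool.and_eq_true, decide_eq_true_eq, beq_iff_eq] at hP
  simp only [SylTable.okEntries, List.all_eq_true, List.mem_range, Bool.and_eq_true, decide_eq_true_eq, beq_iff_eq,
    Bool.or_eq_true] at hE
  obtain ⟨hS', hE⟩ := hE
  have hpos : 0 < 2 ^ e := by positivity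
  have happ : ∀ g < D.gens.length, ∀ s < roots,
      D.app g s = ((D.gens.getD g []).map Fin.val).foldr (stp tab) s := fun g hg s hs => (hP.2 g hg s hs).1
  -- images of words
  have hcat : ∀ w ω : List (Fin n), m.img (w ++ ω) = (m.img ω).map fun s => (w.map Fin.val).foldr (stp tab) s := by
    intro w ω
    simp [hm, evImg, List.foldr_append, Function.comp_def]
  -- the word of an entry has its images
  have hgood : ∀ k < 2 ^ e, m.img (D.wordOf fuel k) = D.im S.length k := by
    intro k hk
    have hgl := (hE k hk).1.1.1.1.1.2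
    have heq := (hE k hk).1.1.1.2
    rw [← heq, SylTable.wordOf]
    clear heq
    have key : ∀ l : List ℕ, (∀ g ∈ l, g < D.gens.length) →
        m.img (l.flatMap fun g => D.gens.getD g []) = l.foldr (fun g v => v.map (D.app g)) S ∧
          ∀ s ∈ l.foldr (fun g v => v.map (D.app g)) S, s < roots → True := fun l hl => by
      refine ⟨?_, fun _ _ _ => trivial⟩
      induction l with
      | nil => simp [hm, evImg]
      | cons g l ih =>
        rw [List.flatMap_cons, hcat, ih fun x hx => hl x (List.mem_cons_of_mem _ hx), List.foldr_cons]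
        refine List.map_congr_left fun s hs => ?_
        refine (happ g (hl g (List.mem_cons_self ..)) s ?_).symm
        clear ih
        induction l generalizing s with
        | nil => exact hS' s hs
        | cons g' l ih' =>
          simp only [List.foldr_cons, List.mem_map] at hs
          obtain ⟨s', hs', rfl⟩ := hs
          have hlt := ih' (fun x hx => hl x (by simp only [List.mem_cons] at hx ⊢; tauto)) s' hs'
          exact (hP.2 g' (hl g' (by simp)) s' hlt).2
    exact (key _ hgl).1
  set X : Fin (2 ^ e) → W := fun k => m.pr (D.wordOf fuel k.val) with hX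
  have hX0 : X ⟨0, hpos⟩ = 1 := by
    simp only [hX, SylTable.wordOf]
    rw [show D.gl fuel 0 = [] from List.isEmpty_iff.1 h0]
    simp [pr]
  have hXi : Function.Injective X := by
    let key : Fin (2 ^ e) → ℕ := fun k => slot 49 D.ims k.val
    let o : Fin (2 ^ e) → Fin (2 ^ e) := fun i => ⟨slot 11 D.ord i.val, (hE i.val i.isLt).1.2⟩
    have hmono : StrictMono fun i => key (o i) := by
      have hstep : ∀ j : ℕ, ∀ i : ℕ, i < j → j < 2 ^ e →
          slot 49 D.ims (slot 11 D.ord i) < slot 49 D.ims (slot 11 D.ord j) := by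
        intro j
        induction j with
        | zero => intro i hi; omega
        | succ j ih =>
          intro i hi hj
          have h1 := (hE j (by omega)).2.resolve_left (by omega)
          rcases Nat.lt_succ_iff_lt_or_eq.1 hi with h | rfl
          · exact (ih i h (by omega)).trans h1
          · exact h1
      exact fun i j hij => hstep j.val i.val hij j.isLt
    have hsur : Function.Surjective o := Finite.injective_iff_surjective.1 fun a b hab =>
      hmono.injective (congrArg key hab)
    intro a b hab
    have h1 := (m.eq_iff _ _).1 hab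
    rw [hgood _ a.isLt, hgood _ b.isLt] at h1
    have hab' : key a = key b := by
      show slot 49 D.ims a.val = slot 49 D.ims b.val
      rw [← (hE _ a.isLt).1.1.1.1.2, ← (hE _ b.isLt).1.1.1.1.2, h1]
    obtain ⟨a, rfl⟩ := hsur a
    obtain ⟨b, rfl⟩ := hsur b
    rw [hmono.injective hab']
  let f : Fin D.gens.length → Fin (2 ^ e) → Fin (2 ^ e) := fun g k => ⟨_, ((hE k.val k.isLt).1.1.2 g.val g.isLt).1⟩
  have hf : ∀ g k, m.pr (D.gens.getD g.val []) * X k = X (f g k) := fun g k => by
    rw [hX]
    show m.pr _ * m.pr _ = m.pr _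
    rw [← m.pr_append]
    refine m.pr_eq ?_
    rw [hcat, hgood _ k.isLt, hgood _ (f g k).isLt]
    refine Eq.trans (List.map_congr_left fun s hs => (happ g.val g.isLt s ?_).symm)
      ((hE k.val k.isLt).1.1.2 g.val g.isLt).2
    exact (hE k.val k.isLt).1.1.1.1.1.1 s hs
  set H := Subgroup.closure (Set.range fun g : Fin D.gens.length => m.pr (D.gens.getD g.val [])) with hH
  have hH' : (H : Set W) = Set.range X := by
    refine Set.Subset.antisymm (fun x hx => ?_) ?_
    · induction hx using Subgroup.closure_induction_left with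
      | one => exact ⟨_, hX0⟩
      | mul_left x hx y _ ih =>
        obtain ⟨g, rfl⟩ := hx
        obtain ⟨k, rfl⟩ := ih
        exact ⟨_, (hf g k).symm⟩
      | inv_mul_cancel x hx y _ ih =>
        obtain ⟨g, rfl⟩ := hx
        obtain ⟨k, rfl⟩ := ih
        have hfi : Function.Injective (f g) := fun a b hab => hXi (mul_left_cancel
          ((hf g a).trans (hab ▸ (hf g b).symm)))
        obtain ⟨k', hk'⟩ := (Finite.injective_iff_surjective.1 hfi) k
        refine ⟨k', ?_⟩
        rw [eq_inv_mul_iff_mul_eq, ← hk']
        exact hf g k'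
    · rintro _ ⟨k, rfl⟩
      have hgl := (hE k.val k.isLt).1.1.1.1.1.2
      show m.pr (D.wordOf fuel k.val) ∈ H
      rw [SylTable.wordOf]
      revert hgl
      induction D.gl fuel k.val with
      | nil => exact fun _ => H.one_mem
      | cons g l ih =>
        intro hgl
        rw [List.flatMap_cons, m.pr_append]
        exact H.mul_mem (Subgroup.subset_closure ⟨⟨g, hgl g (List.mem_cons_self ..)⟩, rfl⟩)
          (ih fun x hx => hgl x (List.mem_cons_of_mem _ hx))
  have hcard : Nat.card H = 2 ^ e := by
    show Nat.card ((H : Set W) : Type _) = _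
    rw [hH', Nat.card_range_of_injective hXi, Nat.card_eq_fintype_card, Fintype.card_fin]
  have hidx : ¬ 2 ∣ H.index := fun h => ho (by
    have h1 := H.card_mul_index
    rw [hcard, hW] at h1
    rwa [Nat.eq_of_mul_eq_mul_left (by positivity) h1] at h)
  set Sy := (IsPGroup.of_card hcard).toSylow hidx
  have hU : IsPGroup 2 (Subgroup.zpowers u) := by
    refine IsPGroup.of_card (n := 1) ?_
    rw [Nat.card_zpowers, orderOf_eq_prime (by rw [pow_two, hu]) hu1, pow_one]
  obtain ⟨Q, hQ⟩ := hU.exists_le_sylow
  obtain ⟨g, hg⟩ := MulAction.exists_smul_eq W Q Sy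
  have hmemH : g * u * g⁻¹ ∈ (H : Set W) := by
    show _ ∈ (Sy : Subgroup W)
    rw [← hg, Sylow.coe_subgroup_smul]
    exact Subgroup.smul_mem_pointwise_smul u (MulAut.conj g) _ (hQ (Subgroup.mem_zpowers u))
  rw [hH'] at hmemH
  obtain ⟨k, hk⟩ := hmemH
  simp only [SylTable.okCert, List.all_eq_true, List.mem_range, Bool.or_eq_true, Bool.and_eq_true, decide_eq_true_eq,
    beq_iff_eq, bne_iff_ne, ne_eq] at hC
  rcases hC k.val k.isLt with (h | h) | ⟨hr, h⟩
  · refine absurd ?_ hu1
    have hk0 : k = ⟨0, hpos⟩ := Fin.ext h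
    rw [hk0, hX0] at hk
    exact conj_eq_one_iff.1 hk.symm
  · refine absurd ?_ h
    -- the square
    have hsq : ∀ l : List ℕ, (∀ x ∈ l, x < D.gens.length) → ∀ j : Fin (2 ^ e),
        ∃ hj : l.foldr D.next j.val < 2 ^ e,
          m.pr (l.flatMap fun g => D.gens.getD g []) * X j = X ⟨_, hj⟩ := by
      intro l hl
      induction l with
      | nil => exact fun j => ⟨j.isLt, by simp [pr]⟩
      | cons g' l ih =>
        intro j
        obtain ⟨hj, he⟩ := ih (fun x hx => hl x (List.mem_cons_of_mem _ hx)) j
        refine ⟨(f ⟨g', hl g' (List.mem_cons_self ..)⟩ ⟨_, hj⟩).isLt, ?_⟩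
        rw [List.flatMap_cons, m.pr_append, mul_assoc, he]
        exact hf ⟨g', hl g' (List.mem_cons_self ..)⟩ ⟨_, hj⟩
    obtain ⟨hj, he⟩ := hsq _ ((hE k.val k.isLt).1.1.1.1.1.2) k
    have h1 : X k * X k = 1 := by
      rw [hk, show g * u * g⁻¹ * (g * u * g⁻¹) = g * (u * u) * g⁻¹ by group, hu]
      group
    have h2 : X ⟨_, hj⟩ = X ⟨0, hpos⟩ := by rw [← he, hX0]; exact h1
    exact congrArg Fin.val (hXi h2)
  · set c := D.cert.getD (slot 11 D.slotOf k.val - 1) ([], 0)
    refine ⟨m.pr c.1 * g, _, List.getD_eq_getElem reps [] hr ▸ List.getElem_mem hr, ?_⟩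
    have h1 : m.pr (c.1 ++ D.wordOf fuel k.val) = m.pr (reps.getD c.2 [] ++ c.1) := by
      refine m.pr_eq ?_
      rw [hcat, hgood _ k.isLt, h, hm]
    rw [m.pr_append, m.pr_append, show m.pr (D.wordOf fuel k.val) = g * u * g⁻¹ from hk] at h1
    calc m.pr c.1 * g * u * (m.pr c.1 * g)⁻¹ = m.pr c.1 * (g * u * g⁻¹) * (m.pr c.1)⁻¹ := by group
      _ = _ := by rw [h1]; group

end WordModel

end Cfsg.Agent.Lie.PSpFourThreeFull
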