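import Mathlib.Data.Fin.Basic

/-!
Tables for the Weyl group of type E7.
-/

set_option autoImplicit false
set_option maxRecDepth 100000

namespace Cfsg.Agent.Lie.PSpFourThreeFull.W7

/-- Packed reflection tables. -/
def tab : List ℕ := [31484809656278100339717865788683931341368181658653277650019355207637808631926001944841351635504195090353326084940429917154644263321163300856056167020264403275023278449005340751654440456126352966143525105007749373130246311957211347564833593017482207886982658943647745, 31734751584443124112806137772217249868749316492897485870525083599128847746833607530165955737502716575871372651223190867033547680386700205711804826657873483280722659390979581656346759848429153926673315894928405391103622085192397473948221759585899811964036807579959424,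 31732799393610408328216707143366545363807504250031312260748430991147783010909361891817680925943825659163768912386796627437120637088726246843618085618687454372343540148478378513116462428798848786757657766687722531147135001321410513134427246908280221716899459179233536, 31734736813433316973806412997676340535123904626653213893023281425284504473309843808113898182870907111341032434946302431176802349798864297650507220485208378755273309506860847874646309223682306412857179956260481784256742874565056043457395970785096543768820827887288448, 31734751949525683014266201850149736804803367230508795450905214012783711083102785911902670906671549056367972403936686260471900767937404492333218280078342154723963317173430675946517609522110889265521683546139323565365827477199356112025247372035709306795559801514393728,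 31734752067776405067861624445849392483102088654181435694882801074571667275437510267073928045894120943143947503013506056252324063490730727300405086554457093199188097980104694360689399843636409040103299001647561133066491258705551344673079522426148762612911523990896768, 31734752068700238833905340338652587191968937727423423840392783372614904730070676540980958083699995414252771968421254144488572405863823983128668213039093190348452636367593973084253087529312657816382161076926026013544753178067386865990285656308410350933957257445015680]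

/-- The simple roots. -/
def simp0 : List ℕ := [93, 78, 73, 69, 66, 64, 63]

/-- The highest root of the subsystem of type E6. -/
def high : List (Fin 7) := [1, 3, 4, 5, 2, 3, 4, 1, 3, 2, 0, 2, 3, 1, 4, 3, 2, 5, 4, 3, 1]

/-- Representatives of the involutions. -/
def reps : List (List (Fin 7)) := [[0], [0, 5], [0, 5, 1, 3, 4, 5, 2, 3, 4, 1, 3, 2, 0, 2, 3, 1, 4, 3, 2, 5, 4, 3, 1], [0, 5, 3, 1, 3, 4, 5, 2, 3, 4, 1, 3, 2, 0, 2, 3, 1, 4, 3, 2, 5, 4, 3, 1], [6, 5, 4, 3, 2, 1, 3, 4, 5, 6, 0, 2, 3, 4, 5, 1, 3, 4, 2, 3, 0, 2, 1, 3, 4, 5, 6, 0, 2, 3, 4, 5, 1, 3, 4, 2, 3, 0, 2, 1, 3, 4, 5, 1, 3, 4, 2, 3, 0, 2, 1, 3, 4, 2, 3, 0, 2, 1, 3, 0, 2, 1, 0, 0], [6, 5, 4, 3, 2, 1, 3, 4, 5, 6, 0, 2, 3, 4, 5, 1, 3, 4, 2, 3, 0, 2, 1, 3, 4, 5, 6, 0, 2,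 3, 4, 5, 1, 3, 4, 2, 3, 0, 2, 1, 3, 4, 5, 1, 3, 4, 2, 3, 0, 2, 1, 3, 4, 2, 3, 0, 2, 1, 3, 0, 2, 1, 0, 0, 5], [6, 5, 4, 3, 2, 1, 3, 4, 5, 6, 0, 2, 3, 4, 5, 1, 3, 4, 2, 3, 0, 2, 1, 3, 4, 5, 6, 0, 2, 3, 4, 5, 1, 3, 4, 2, 3, 0, 2, 1, 3, 4, 5, 1, 3, 4, 2, 3, 0, 2, 1, 3, 4, 2, 3, 0, 2, 1, 3, 0, 2, 1, 0, 0, 5, 1, 3, 4, 5, 2, 3, 4, 1, 3, 2, 0, 2, 3, 1, 4, 3, 2, 5, 4, 3, 1], [6, 5, 4, 3, 2, 1, 3, 4, 5, 6, 0, 2, 3, 4, 5, 1, 3, 4, 2, 3, 0, 2, 1, 3, 4, 5, 6, 0, 2, 3, 4, 5, 1, 3, 4, 2, 3, 0, 2, 1, 3, 4, 5, 1, 3, 4, 2, 3, 0, 2, 1, 3, 4, 2, 3, 0, 2, 1, 3, 0, 2, 1, 0, 0, 5, 3, 1, 3, 4, 5, 2, 3, 4, 1, 3, 2, 0, 2, 3, 1, 4, 3, 2, 5, 4, 3, 1], [6, 5, 4, 3, 2, 1, 3, 4, 5, 6, 0, 2, 3, 4, 5, 1, 3, 4, 2, 3, 0, 2, 1, 3, 4, 5, 6, 0, 2, 3, 4, 5, 1, 3, 4, 2,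 3, 0, 2, 1, 3, 4, 5, 1, 3, 4, 2, 3, 0, 2, 1, 3, 4, 2, 3, 0, 2, 1, 3, 0, 2, 1, 0]]

/-- The longest word. -/
def long7 : List (Fin 7) := [6, 5, 4, 3, 2, 1, 3, 4, 5, 6, 0, 2, 3, 4, 5, 1, 3, 4, 2, 3, 0, 2, 1, 3, 4, 5, 6, 0, 2, 3, 4, 5, 1, 3, 4, 2, 3, 0, 2, 1, 3, 4, 5, 1, 3, 4, 2, 3, 0, 2, 1, 3, 4, 2, 3, 0, 2, 1, 3, 0, 2, 1, 0]

/-- Part of a table. -/
def refls_0 : List (List (Fin 7)) := [[0], [1], [2], [3], [4], [5], [6], [0, 2, 0], [1, 3, 1], [2, 3, 2], [3, 4, 3], [4, 5, 4], [5, 6, 5], [0, 2, 3, 2, 0], [2, 1, 3, 2, 1], [1, 3, 4, 3, 1], [2, 3, 4, 3, 2], [3, 4, 5, 4, 3], [4, 5, 6, 5, 4], [0, 2, 1, 3, 2, 1, 0], [0, 2, 3, 4, 3, 2, 0], [2, 1, 3, 4, 3, 2, 1], [1, 3, 4, 5, 4, 3, 1], [2, 3, 4, 5, 4, 3, 2], [3, 4, 5, 6, 5, 4, 3], [0, 2, 1,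 3, 4, 3, 2, 1, 0], [0, 2, 3, 4, 5, 4, 3, 2, 0], [3, 2, 1, 3, 4, 3, 2, 1, 3], [2, 1, 3, 4, 5, 4, 3, 2, 1], [1, 3, 4, 5, 6, 5, 4, 3, 1], [2, 3, 4, 5, 6, 5, 4, 3, 2], [3, 0, 2, 1, 3, 4, 3, 2, 1, 3, 0], [0, 2, 1, 3, 4, 5, 4, 3, 2, 1, 0], [0, 2, 3, 4, 5, 6, 5, 4, 3, 2, 0], [3, 2, 1, 3, 4, 5, 4, 3, 2, 1, 3], [2, 1, 3, 4, 5, 6, 5, 4, 3, 2, 1], [2, 3, 0, 2, 1, 3, 4, 3, 2, 1, 3, 0, 2], [3, 0, 2, 1, 3, 4, 5, 4, 3, 2, 1, 3, 0], [0, 2, 1, 3, 4, 5, 6, 5, 4, 3, 2, 1, 0], [4, 3, 2, 1, 3, 4, 5, 4, 3, 2, 1, 3, 4], [3, 2, 1, 3, 4, 5, 6, 5, 4, 3, 2, 1, 3], [2, 3, 0, 2, 1, 3, 4, 5, 4, 3, 2, 1, 3, 0, 2], [4, 3, 0, 2, 1, 3, 4, 5, 4, 3, 2, 1, 3, 4, 0], [3, 0, 2, 1, 3, 4, 5, 6, 5, 4, 3, 2, 1, 3, 0], [4, 3, 2, 1, 3, 4, 5, 6, 5, 4, 3, 2, 1, 3, 4], [4, 2,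 3, 0, 2, 1, 3, 4, 5, 4, 3, 2, 1, 3, 4, 0, 2], [2, 3, 0, 2, 1, 3, 4, 5, 6, 5, 4, 3, 2, 1, 3, 0, 2], [4, 3, 0, 2, 1, 3, 4, 5, 6, 5, 4, 3, 2, 1, 3, 4, 0], [5, 4, 3, 2, 1, 3, 4, 5, 6, 5, 4, 3, 2, 1, 3, 4, 5], [3, 4, 2, 3, 0, 2, 1, 3, 4, 5, 4, 3, 2, 1, 3, 4, 0, 2, 3], [4, 2, 3, 0, 2, 1, 3, 4, 5, 6, 5, 4, 3, 2, 1, 3, 4, 0, 2], [5, 4, 3, 0, 2, 1, 3, 4, 5, 6, 5, 4, 3, 2, 1, 3, 4, 5, 0], [1, 3, 4, 2, 3, 0, 2, 1, 3, 4, 5, 4, 3, 2, 1, 3, 4, 0, 2, 3, 1], [3, 4, 2, 3, 0, 2, 1, 3, 4, 5, 6, 5, 4, 3, 2, 1, 3, 4, 0, 2, 3], [5, 4, 2, 3, 0, 2, 1, 3, 4, 5, 6, 5, 4, 3, 2, 1, 3, 4, 5, 0, 2], [1, 3, 4, 2, 3, 0, 2, 1, 3, 4, 5, 6, 5, 4, 3, 2, 1, 3, 4, 0, 2, 3, 1], [5, 3, 4, 2, 3, 0, 2, 1, 3, 4, 5, 6, 5, 4, 3, 2, 1, 3, 4, 5, 0, 2, 3], [5, 1, 3, 4, 2, 3, 0,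 2, 1, 3, 4, 5, 6, 5, 4, 3, 2, 1, 3, 4, 5, 0, 2, 3, 1], [4, 5, 3, 4, 2, 3, 0, 2, 1, 3, 4, 5, 6, 5, 4, 3, 2, 1, 3, 4, 5, 0, 2, 3, 4], [4, 5, 1, 3, 4, 2, 3, 0, 2, 1, 3, 4, 5, 6, 5, 4, 3, 2, 1, 3, 4, 5, 0, 2, 3, 4, 1], [3, 4, 5, 1, 3, 4, 2, 3, 0, 2, 1, 3, 4, 5, 6, 5, 4, 3, 2, 1, 3, 4, 5, 0, 2, 3, 4, 1, 3], [2, 3, 4, 5, 1, 3, 4, 2, 3, 0, 2, 1, 3, 4, 5, 6, 5, 4, 3, 2, 1, 3, 4, 5, 0, 2, 3, 4, 1, 3, 2], [0, 2, 3, 4, 5, 1, 3, 4, 2, 3, 0, 2, 1, 3, 4, 5, 6, 5, 4, 3, 2, 1, 3, 4, 5, 0, 2, 3, 4, 1, 3, 2, 0]]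

/-- A table. -/
def refls : List (List (Fin 7)) := refls_0

/-- Part of a table. -/
def reflNxt_0 : List (List ℕ) := [[0, 0, 7, 0, 0, 0, 0], [1, 1, 1, 8, 1, 1, 1], [7, 2, 2, 9, 2, 2, 2], [3, 8, 9, 3, 10, 3, 3], [4, 4, 4, 10, 4, 11, 4], [5, 5, 5, 5, 11, 5, 12], [6, 6, 6, 6, 6, 12, 6], [2, 7, 0, 13, 7, 7, 7], [8, 3, 14, 1, 15, 8, 8], [13, 14, 3, 2, 16, 9, 9], [10, 15, 16, 4, 3, 17, 10], [11, 11, 11, 17, 5, 4, 18], [12, 12, 12, 12, 18, 6, 5], [9, 19, 13, 7, 20, 13, 13], [19, 9, 8, 14, 21, 14, 14], [15, 10, 21, 15, 8, 22, 15], [20, 21, 10, 16, 9, 23, 16], [17, 22, 23, 11, 17, 10, 24], [18, 18, 18, 24, 12, 18, 11], [14, 13, 19, 19, 25, 19, 19], [16, 25, 20, 20, 13, 26, 20], [25, 16, 15, 27, 14, 28, 21], [22, 17, 28, 22, 22, 15, 29],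 [26, 28, 17, 23, 23, 16, 30], [24, 29, 30, 18, 24, 24, 17], [21, 20, 25, 31, 19, 32, 25], [23, 32, 26, 26, 26, 20, 33], [31, 27, 27, 21, 27, 34, 27], [32, 23, 22, 34, 28, 21, 35], [29, 24, 35, 29, 29, 29, 22], [33, 35, 24, 30, 30, 30, 23], [27, 31, 36, 25, 31, 37, 31], [28, 26, 32, 37, 32, 25, 38], [30, 38, 33, 33, 33, 33, 26], [37, 34, 34, 28, 39, 27, 40], [38, 30, 29, 40, 35, 35, 28], [36, 36, 31, 36, 36, 41, 36], [34, 37, 41, 32, 42, 31, 43], [35, 33, 38, 43, 38, 38, 32], [42, 39, 39, 39, 34, 39, 44], [43, 40, 40, 35, 44, 40, 34], [41, 41, 37, 41, 45, 36, 46], [39, 42, 45, 42, 37, 42, 47], [40, 43, 46, 38, 47, 43, 37], [47, 44, 44, 44, 40, 48, 39], [45, 45, 42, 49, 41, 45, 50], [46, 46, 43, 46, 50, 46, 41], [44, 47, 50, 47, 43,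 51, 42], [51, 48, 48, 48, 48, 44, 48], [49, 52, 49, 45, 49, 49, 53], [50, 50, 47, 53, 46, 54, 45], [48, 51, 54, 51, 51, 47, 51], [52, 49, 52, 52, 52, 52, 55], [53, 55, 53, 50, 53, 56, 49], [54, 54, 51, 56, 54, 50, 54], [55, 53, 55, 55, 55, 57, 52], [56, 57, 56, 54, 58, 53, 56], [57, 56, 57, 57, 59, 55, 57], [58, 59, 58, 58, 56, 58, 58], [59, 58, 59, 60, 57, 59, 59], [60, 60, 61, 59, 60, 60, 60], [62, 61, 60, 61, 61, 61, 61], [61, 62, 62, 62, 62, 62, 62]]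

/-- A table. -/
def reflNxt : List (List ℕ) := reflNxt_0

/-- Part of a table. -/
def reflCj_0 : List (List (Fin 7)) := [[], [3, 2, 1, 3, 0, 2], [0, 2], [2, 3, 0, 2], [3, 4, 2, 3, 0, 2], [4, 5, 3, 4, 2, 3, 0, 2], [5, 6, 4, 5, 3, 4, 2, 3, 0, 2], [2], [2, 1, 3, 0, 2], [3, 0, 2], [4, 2, 3, 0, 2], [5, 3, 4, 2, 3, 0, 2], [6, 4, 5, 3, 4, 2, 3, 0, 2], [3, 2], [1, 3, 0, 2], [4, 2, 1, 3, 0, 2], [4, 3, 0, 2], [5, 4, 2, 3, 0, 2], [6, 5, 3, 4, 2, 3, 0, 2], [1, 3, 2], [4, 3, 2], [4, 1, 3, 0, 2], [5, 4, 2, 1, 3, 0, 2], [5, 4, 3, 0, 2], [6, 5, 4, 2, 3, 0, 2], [4, 1, 3, 2], [5, 4, 3, 2], [3, 4, 1, 3, 0, 2], [5, 4, 1, 3, 0, 2], [6, 5, 4, 2, 1, 3, 0, 2], [6, 5, 4, 3, 0, 2], [3, 4, 1, 3, 2], [5, 4, 1, 3, 2], [6, 5, 4, 3, 2], [5, 3, 4, 1, 3, 0, 2],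 [6, 5, 4, 1, 3, 0, 2], [2, 3, 4, 1, 3, 2], [5, 3, 4, 1, 3, 2], [6, 5, 4, 1, 3, 2], [4, 5, 3, 4, 1, 3, 0, 2], [6, 5, 3, 4, 1, 3, 0, 2], [5, 2, 3, 4, 1, 3, 2], [4, 5, 3, 4, 1, 3, 2], [6, 5, 3, 4, 1, 3, 2], [6, 4, 5, 3, 4, 1, 3, 0, 2], [4, 5, 2, 3, 4, 1, 3, 2], [6, 5, 2, 3, 4, 1, 3, 2], [6, 4, 5, 3, 4, 1, 3, 2], [5, 6, 4, 5, 3, 4, 1, 3, 0, 2], [3, 4, 5, 2, 3, 4, 1, 3, 2], [6, 4, 5, 2, 3, 4, 1, 3, 2], [5, 6, 4, 5, 3, 4, 1, 3, 2], [1, 3, 4, 5, 2, 3, 4, 1, 3, 2], [6, 3, 4, 5, 2, 3, 4, 1, 3, 2], [5, 6, 4, 5, 2, 3, 4, 1, 3, 2], [6, 1, 3, 4, 5, 2, 3, 4, 1, 3, 2], [5, 6, 3, 4, 5, 2, 3, 4, 1, 3, 2], [5, 6, 1, 3, 4, 5, 2, 3, 4, 1, 3, 2], [4, 5, 6, 3, 4, 5, 2, 3, 4, 1, 3, 2], [4, 5, 6, 1, 3, 4, 5, 2, 3, 4, 1, 3, 2], [3, 4, 5, 6, 1, 3, 4, 5, 2,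 3, 4, 1, 3, 2], [2, 3, 4, 5, 6, 1, 3, 4, 5, 2, 3, 4, 1, 3, 2], [0, 2, 3, 4, 5, 6, 1, 3, 4, 5, 2, 3, 4, 1, 3, 2]]

/-- A table. -/
def reflCj : List (List (Fin 7)) := reflCj_0

/-- Part of a table. -/
def rot0_0 : List (List (Fin 7) × List (Fin 7)) := [([], []), ([0, 2, 0], [2]), ([], []), ([0, 2, 0, 3, 1], [2, 1, 3, 2, 1]), ([0, 2, 0], [2]), ([0, 2, 0], [2]), ([0, 2, 0], [2]), ([0], []), ([0, 2, 0, 3], [2, 3, 2]), ([3], []), ([0, 2, 0, 3], [2, 3, 2]), ([0, 2, 0], [2]), ([0, 2, 0], [2]), ([0, 3], []), ([3, 1], []), ([0, 2, 0, 3, 1], [2, 1, 3, 2, 1]), ([3, 4], []), ([0, 2, 0, 3], [2, 3, 2]), ([0, 2, 0], [2]), ([0, 3, 1], []), ([0, 3, 4], []), ([3, 1, 4], []), ([0, 2, 0, 3, 1], [2, 1, 3, 2, 1]), ([3, 4, 5], []), ([0, 2, 0, 3], [2, 3,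 2]), ([0, 3, 1, 4], []), ([0, 3, 4, 5], []), ([3, 1, 4, 3], []), ([3, 1, 4, 5], []), ([0, 2, 0, 3, 1], [2, 1, 3, 2, 1]), ([3, 4, 5, 6], []), ([0, 3, 1, 4, 3], []), ([0, 3, 1, 4, 5], []), ([0, 3, 4, 5, 6], []), ([3, 1, 4, 3, 5], []), ([3, 1, 4, 5, 6], []), ([0, 2, 0, 3, 4, 5], [2, 3, 4, 5, 4, 3, 2]), ([0, 3, 1, 4, 3, 5], []), ([0, 3, 1, 4, 5, 6], []), ([3, 1, 4, 3, 5, 4], []), ([3, 1, 4, 3, 5, 6], []), ([0, 2, 0, 3, 4], [2, 3, 4, 3, 2]), ([0, 3, 1, 4, 3, 5, 4], []), ([0, 3, 1, 4, 3, 5, 6], []), ([3, 1, 4, 3, 5, 4, 6], []), ([0, 2, 0, 3], [2, 3, 2]), ([0, 2, 0, 3, 4], [2, 3, 4, 3, 2]), ([0, 3, 1, 4, 3, 5, 4, 6], []), ([3, 1, 4, 3, 5, 4, 6, 5], []), ([0, 2, 0], [2]), ([0, 2, 0, 3], [2, 3, 2]), ([0, 3, 1, 4, 3, 5, 4, 6, 5], []), ([0,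 2, 0], [2]), ([0, 2, 0], [2]), ([0, 2, 0, 3], [2, 3, 2]), ([0, 2, 0], [2]), ([0, 2, 0], [2]), ([0, 2, 0], [2]), ([0, 2, 0], [2]), ([0, 2, 0], [2]), ([0, 2, 0, 3], [2, 3, 2]), ([3, 1, 4, 3, 2, 0, 5, 4, 3, 1, 2, 3, 6, 5, 4, 3, 1, 2, 0, 3, 2], []), ([0, 3, 1, 4, 3, 2, 0, 5, 4, 3, 1, 2, 3, 6, 5, 4, 3, 1, 2, 0, 3, 2], [])]

/-- A table. -/
def rot0 : List (List (Fin 7) × List (Fin 7)) := rot0_0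

/-- Part of a table. -/
def rot1_0 : List (List (Fin 7) × List (Fin 7)) := [([3, 1, 2, 0, 3, 2], [3]), ([], []), ([3, 1, 2, 3], [0, 2, 3, 2, 0]), ([0, 2, 0, 3, 1, 2, 0, 3, 2], []), ([3, 1, 2, 0, 3, 2, 4, 5], [3, 4, 5, 4, 3]), ([3, 1, 2, 0, 3, 2], [3]), ([3, 1, 2, 0, 3, 2], [3]), ([3, 1, 2, 0, 3], [2, 3, 2]), ([2, 0, 3, 1, 2, 0, 3, 2], []), ([0, 2, 0, 3, 1, 2, 0, 3], []), ([3, 2, 0, 4, 3, 1, 2, 3], []), ([3, 1, 2, 0, 3, 2, 4], [3, 4, 3]), ([3, 1, 2, 0, 3, 2], [3]), ([0, 2, 0, 3, 1, 2, 3], []), ([2, 0, 3, 1, 2, 0, 3], []), ([0, 3, 2, 0, 4, 3, 1, 2, 3], []), ([0, 2, 0, 3, 1, 2, 0, 3, 4], []), ([3, 2, 0, 4, 3, 1, 2, 3, 5], []), ([3, 1, 2, 0, 3, 2, 4], [3, 4, 3]), ([2, 0, 3, 1, 2, 3], []), ([0, 2, 0, 3, 1, 2, 3, 4], []), ([2, 0, 3, 1,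 2, 0, 3, 4], []), ([0, 3, 2, 0, 4, 3, 1, 2, 3, 5], []), ([0, 2, 0, 3, 1, 2, 0, 3, 4, 5], []), ([3, 2, 0, 4, 3, 1, 2, 3, 5, 6], []), ([2, 0, 3, 1, 2, 3, 4], []), ([0, 2, 0, 3, 1, 2, 3, 4, 5], []), ([3, 1, 2, 3], [0, 2, 3, 2, 0]), ([2, 0, 3, 1, 2, 0, 3, 4, 5], []), ([0, 3, 2, 0, 4, 3, 1, 2, 3, 5, 6], []), ([0, 2, 0, 3, 1, 2, 0, 3, 4, 5, 6], []), ([3, 1, 2, 0, 3], [2, 3, 2]), ([2, 0, 3, 1, 2, 3, 4, 5], []), ([0, 2, 0, 3, 1, 2, 3, 4, 5, 6], []), ([3, 1, 2, 0, 3, 2, 4], [3, 4, 3]), ([2, 0, 3, 1, 2, 0, 3, 4, 5, 6], []), ([3, 1, 2, 0, 3, 2], [3]), ([3, 1, 2, 0, 3], [2, 3, 2]), ([2, 0, 3, 1, 2, 3, 4, 5, 6], []), ([3, 1, 2, 0, 3, 2], [3]), ([3, 1, 2, 0, 3, 2, 4], [3, 4, 3]), ([3, 1, 2, 0, 3, 2], [3]), ([3, 1, 2, 0, 3, 2], [3]), ([3, 1, 2,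 0, 3], [2, 3, 2]), ([3, 1, 2, 0, 3, 2], [3]), ([3, 1, 2, 0, 3], [2, 3, 2]), ([3, 1, 2, 0, 3, 2], [3]), ([3, 1, 2, 0, 3, 2], [3]), ([3, 1, 2, 0, 3, 2], [3]), ([3, 1, 4, 3, 2, 0, 5, 4, 3, 1, 2, 3], []), ([3, 1, 2, 0, 3], [2, 3, 2]), ([3, 1, 2, 0, 3, 2], [3]), ([0, 3, 1, 4, 3, 2, 0, 5, 4, 3, 1, 2, 3], []), ([3, 1, 4, 3, 2, 0, 5, 4, 3, 1, 2, 3, 6], []), ([3, 1, 2, 0, 3], [2, 3, 2]), ([0, 3, 1, 4, 3, 2, 0, 5, 4, 3, 1, 2, 3, 6], []), ([3, 1, 4, 3, 2, 0, 5, 4, 3, 1, 2, 3, 6, 5], []), ([0, 3, 1, 4, 3, 2, 0, 5, 4, 3, 1, 2, 3, 6, 5], []), ([3, 1, 4, 3, 2, 0, 5, 4, 3, 1, 2, 3, 6, 5, 4], []), ([0, 3, 1, 4, 3, 2, 0, 5, 4, 3, 1, 2, 3, 6, 5, 4], []), ([3, 1, 2, 0, 3], [2, 3, 2]), ([3, 1, 2, 0, 3, 2], [3]), ([3, 1, 2, 0, 3, 2], [3])]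

/-- A table. -/
def rot1 : List (List (Fin 7) × List (Fin 7)) := rot1_0

/-- Part of a table. -/
def rot2_0 : List (List (Fin 7) × List (Fin 7)) := [([0, 2, 0], []), ([], [0]), ([], []), ([3, 2, 0], []), ([], [0]), ([], [0]), ([], [0]), ([2, 0], []), ([3, 1, 2, 0], []), ([0, 3, 2, 0], []), ([3, 2, 0, 4], []), ([], [0]), ([], [0]), ([0, 2, 0, 3, 1, 2, 0], [1, 3, 1]), ([0, 3, 1, 2, 0], []), ([3, 1, 2, 0, 4], []), ([0, 3, 2, 0, 4], []), ([3, 2, 0, 4, 5], []), ([], [0]), ([0, 2, 0, 3, 2, 0], [3]), ([0, 2, 0, 3, 2, 0], [3]), ([0, 3, 1, 2, 0, 4], []), ([3, 1, 2, 0, 4, 5], []), ([0, 3, 2, 0, 4, 5], []), ([3, 2, 0, 4, 5, 6], []), ([0, 2, 0, 3, 1, 2, 0], [1, 3, 1]), ([0, 2, 0, 3, 2, 0], [3]), ([0, 2, 0, 3, 2, 0, 4, 5], [3, 4, 5, 4, 3]),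 ([0, 3, 1, 2, 0, 4, 5], []), ([3, 1, 2, 0, 4, 5, 6], []), ([0, 3, 2, 0, 4, 5, 6], []), ([3, 1, 4, 3, 2, 0], []), ([0, 2, 0, 3, 1, 2, 0], [1, 3, 1]), ([0, 2, 0, 3, 2, 0], [3]), ([0, 2, 0, 3, 2, 0, 4], [3, 4, 3]), ([0, 3, 1, 2, 0, 4, 5, 6], []), ([0, 3, 1, 4, 3, 2, 0], []), ([3, 1, 4, 3, 2, 0, 5], []), ([0, 2, 0, 3, 1, 2, 0], [1, 3, 1]), ([0, 2, 0, 3, 2, 0], [3]), ([0, 2, 0, 3, 2, 0, 4], [3, 4, 3]), ([0, 3, 1, 4, 3, 2, 0, 5], []), ([3, 1, 4, 3, 2, 0, 5, 4], []), ([3, 1, 4, 3, 2, 0, 5, 6], []), ([0, 2, 0, 3, 2, 0], [3]), ([0, 3, 1, 4, 3, 2, 0, 5, 4], []), ([0, 3, 1, 4, 3, 2, 0, 5, 6], []), ([3, 1, 4, 3, 2, 0, 5, 4, 6], []), ([0, 2, 0, 3, 2, 0], [3]), ([], [0]), ([0, 3, 1, 4, 3, 2, 0, 5, 4, 6], []), ([3, 1, 4, 3, 2, 0, 5, 4, 6, 5], []),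 ([], [0]), ([], [0]), ([0, 3, 1, 4, 3, 2, 0, 5, 4, 6, 5], []), ([], [0]), ([], [0]), ([], [0]), ([], [0]), ([], [0]), ([3, 1, 4, 3, 2, 0, 5, 4, 3, 1, 2, 3, 6, 5, 4, 3, 1, 2, 3], []), ([0, 3, 1, 4, 3, 2, 0, 5, 4, 3, 1, 2, 3, 6, 5, 4, 3, 1, 2, 3], []), ([0, 2, 0, 3, 2, 0], [3])]

/-- A table. -/
def rot2 : List (List (Fin 7) × List (Fin 7)) := rot2_0

/-- Part of a table. -/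
def rot3_0 : List (List (Fin 7) × List (Fin 7)) := [([0, 2, 0, 3, 1, 2, 0, 3, 2], [1]), ([3, 1, 2, 0, 3, 2], []), ([0, 2, 0, 3, 2, 0], []), ([], []), ([3, 2, 0, 4, 3, 2], []), ([0, 2, 0, 3, 1, 2, 0, 3, 2], [1]), ([0, 2, 0, 3, 1, 2, 0, 3, 2], [1]), ([0, 2, 0, 3, 2], []), ([0, 3, 1, 2, 0, 3, 2], []), ([2, 0, 3, 2, 0], []), ([0, 3, 2, 0, 4, 3, 2], []), ([3, 2, 0, 4, 3, 2, 5], []), ([0, 2, 0, 3, 1, 2, 0, 3, 2], [1]), ([2, 0, 3, 2], []), ([3, 2], [0, 2, 0]), ([0, 2, 0, 3, 2, 0, 4, 3, 2, 5], [4, 5, 4]), ([3, 2], [0, 2, 0]), ([0, 3, 2, 0, 4, 3, 2, 5], []), ([3, 2, 0, 4, 3, 2, 5, 6], []), ([3, 2, 0], [2]), ([3, 2, 0], [2]), ([3, 1, 2, 0, 4, 3, 2], []), ([0, 2, 0, 3, 2, 0, 4, 3, 2], [4]), ([0, 2, 0, 3, 2, 0, 4, 3, 2], [4]), ([0, 3, 2, 0,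 4, 3, 2, 5, 6], []), ([3, 1, 2, 0, 4, 3, 2, 0], []), ([3, 2, 0], [2]), ([0, 3, 1, 2, 0, 4, 3, 2], []), ([3, 1, 2, 0, 4, 3, 2, 5], []), ([0, 2, 0, 3, 2, 0, 4, 3, 2], [4]), ([0, 2, 0, 3, 2, 0, 4, 3, 2], [4]), ([0, 3, 1, 2, 0, 4, 3, 2, 0], []), ([3, 1, 2, 0, 4, 3, 2, 0, 5], []), ([3, 2, 0], [2]), ([0, 3, 1, 2, 0, 4, 3, 2, 5], []), ([3, 1, 2, 0, 4, 3, 2, 5, 6], []), ([0, 2, 0, 3, 1, 2, 0, 3, 2], [1]), ([0, 3, 1, 2, 0, 4, 3, 2, 0, 5], []), ([3, 1, 2, 0, 4, 3, 2, 0, 5, 6], []), ([0, 2, 0, 3, 1, 2, 0, 3, 2], [1]), ([0, 3, 1, 2, 0, 4, 3, 2, 5, 6], []), ([0, 2, 0, 3, 1, 2, 0, 3, 2], [1]), ([0, 2, 0, 3, 1, 2, 0, 3, 2], [1]), ([0, 3, 1, 2, 0, 4, 3, 2, 0, 5, 6], []), ([0, 2, 0, 3, 1, 2, 0, 3, 2], [1]), ([3, 1, 4, 3, 2, 0, 5, 4, 3, 2], []), ([0,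 2, 0, 3, 1, 2, 0, 3, 2], [1]), ([0, 2, 0, 3, 1, 2, 0, 3, 2], [1]), ([0, 2, 0, 3, 1, 2, 0, 3, 2], [1]), ([0, 3, 1, 4, 3, 2, 0, 5, 4, 3, 2], []), ([3, 1, 4, 3, 2, 0, 5, 4, 3, 2, 6], []), ([0, 2, 0, 3, 1, 2, 0, 3, 2], [1]), ([3, 2, 0], [2]), ([0, 3, 1, 4, 3, 2, 0, 5, 4, 3, 2, 6], []), ([3, 1, 4, 3, 2, 0, 5, 4, 3, 2, 6, 5], []), ([3, 2, 0], [2]), ([0, 3, 1, 4, 3, 2, 0, 5, 4, 3, 2, 6, 5], []), ([3, 2, 0], [2]), ([3, 2, 0], [2]), ([3, 1, 4, 3, 2, 0, 5, 4, 3, 1, 2, 3, 6, 5, 4, 3, 1], []), ([0, 3, 1, 4, 3, 2, 0, 5, 4, 3, 1, 2, 3, 6, 5, 4, 3, 1], []), ([0, 2, 0, 3, 1, 2, 0, 3, 2], [1]), ([0, 2, 0, 3, 1, 2, 0, 3, 2], [1])]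

/-- A table. -/
def rot3 : List (List (Fin 7) × List (Fin 7)) := rot3_0

/-- Part of a table. -/
def rot4_0 : List (List (Fin 7) × List (Fin 7)) := [([3, 2, 0, 4, 3, 2], [3]), ([0, 2, 0, 3, 2, 0, 4, 3, 2, 5, 4, 3], [5]), ([0, 2, 0, 3, 2, 0, 4, 3, 2, 5, 4, 3], [5]), ([0, 2, 0, 3, 2, 0, 4, 3, 2], []), ([], []), ([3, 2, 0, 4, 3, 2, 5, 4, 3], []), ([3, 2, 0, 4, 3, 2], [3]), ([0, 2, 0, 3, 2, 0, 4, 3, 2, 5, 4, 3], [5]), ([3, 1, 2, 0, 3, 2, 4, 3], []), ([0, 2, 0, 3, 2, 0, 4, 3], []), ([2, 0, 3, 2, 0, 4, 3, 2], []), ([0, 3, 2, 0, 4, 3, 2, 5, 4, 3], []), ([3, 2, 0, 4, 3, 2, 5, 4, 3, 6], []), ([0, 2, 0, 3, 2, 4, 3], []), ([0, 2, 0, 3, 2, 0, 4, 3, 1], []), ([0, 3, 1, 2, 0, 3, 2, 4, 3], []), ([2, 0, 3, 2, 0, 4, 3], []), ([3, 2, 0, 4, 3, 1,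 2], [1, 3, 1]), ([0, 3, 2, 0, 4, 3, 2, 5, 4, 3, 6], []), ([0, 2, 0, 3, 2, 4, 3, 1], []), ([2, 0, 3, 2, 4, 3], []), ([2, 0, 3, 2, 0, 4, 3, 1], []), ([3, 2, 0, 4, 3, 2], [3]), ([3, 2, 0, 4, 3, 2], [3]), ([0, 2, 0, 3, 2, 0, 4, 3, 2, 5, 4, 3], [5]), ([2, 0, 3, 2, 4, 3, 1], []), ([3, 2, 0, 4, 3, 2], [3]), ([3, 2, 4, 3], [0, 2, 3, 2, 0]), ([3, 2, 0, 4, 3, 1, 2], [1, 3, 1]), ([3, 2, 0, 4, 3, 2], [3]), ([3, 2, 0, 4, 3, 2], [3]), ([3, 2, 0, 4, 3], [2, 3, 2]), ([3, 2, 0, 4, 3, 1, 2], [1, 3, 1]), ([3, 2, 0, 4, 3, 2], [3]), ([3, 1, 2, 0, 4, 3, 2, 5, 4, 3], []), ([0, 2, 0, 3, 2, 0, 4, 3, 2, 5, 4, 3], [5]), ([3, 2, 0, 4, 3, 2], [3]), ([3, 1, 2, 0, 4, 3, 2, 0, 5, 4, 3], []), ([0, 2, 0, 3, 2, 0, 4, 3, 2, 5, 4, 3], [5]), ([0, 3, 1, 2, 0, 4, 3, 2,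 5, 4, 3], []), ([3, 1, 2, 0, 4, 3, 2, 5, 4, 3, 6], []), ([3, 1, 2, 0, 4, 3, 2, 0, 5, 4, 3, 2], []), ([0, 3, 1, 2, 0, 4, 3, 2, 0, 5, 4, 3], []), ([3, 1, 2, 0, 4, 3, 2, 0, 5, 4, 3, 6], []), ([0, 3, 1, 2, 0, 4, 3, 2, 5, 4, 3, 6], []), ([0, 3, 1, 2, 0, 4, 3, 2, 0, 5, 4, 3, 2], []), ([3, 1, 2, 0, 4, 3, 2, 0, 5, 4, 3, 2, 6], []), ([0, 3, 1, 2, 0, 4, 3, 2, 0, 5, 4, 3, 6], []), ([3, 2, 0, 4, 3, 2], [3]), ([0, 2, 0, 3, 2, 0, 4, 3, 2, 5, 4, 3], [5]), ([0, 3, 1, 2, 0, 4, 3, 2, 0, 5, 4, 3, 2, 6], []), ([3, 2, 0, 4, 3, 2], [3]), ([3, 2, 0, 4, 3, 2], [3]), ([3, 2, 0, 4, 3, 1, 2], [1, 3, 1]), ([3, 2, 0, 4, 3], [2, 3, 2]), ([3, 2, 0, 4, 3, 2], [3]), ([3, 1, 4, 3, 2, 0, 5, 4, 3, 2, 6, 5, 4, 3], []), ([3, 1, 4, 3, 2, 0, 5, 4, 3, 2, 6, 5, 4, 3, 1],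 []), ([0, 3, 1, 4, 3, 2, 0, 5, 4, 3, 2, 6, 5, 4, 3], []), ([0, 3, 1, 4, 3, 2, 0, 5, 4, 3, 2, 6, 5, 4, 3, 1], []), ([0, 2, 0, 3, 2, 0, 4, 3, 2, 5, 4, 3], [5]), ([3, 2, 0, 4, 3, 2], [3]), ([3, 2, 0, 4, 3, 2], [3])]

/-- A table. -/
def rot4 : List (List (Fin 7) × List (Fin 7)) := rot4_0

/-- Part of a table. -/
def rot5_0 : List (List (Fin 7) × List (Fin 7)) := [([3, 2, 0, 4, 3, 2, 5, 4, 3], [4]), ([3, 2, 0, 4, 3, 2, 5, 4, 3], [4]), ([3, 2, 0, 4, 3, 2, 5, 4, 3], [4]), ([0, 2, 0, 3, 2, 0, 4, 3, 2, 5, 4, 3, 6, 5, 4], [6]), ([0, 2, 0, 3, 2, 0, 4, 3, 2, 5, 4, 3], []), ([], []), ([3, 2, 0, 4, 3, 2, 5, 4, 3, 6, 5, 4], []), ([3, 2, 0, 4, 3, 2, 5, 4, 3], [4]), ([0, 2, 0, 3, 2, 0, 4, 3, 2, 5, 4, 3, 6, 5, 4], [6]), ([0, 2, 0, 3, 2, 0, 4, 3,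 2, 5, 4, 3, 6, 5, 4], [6]), ([0, 2, 0, 3, 2, 0, 4, 3, 2, 5, 4], []), ([2, 0, 3, 2, 0, 4, 3, 2, 5, 4, 3], []), ([0, 3, 2, 0, 4, 3, 2, 5, 4, 3, 6, 5, 4], []), ([0, 2, 0, 3, 2, 0, 4, 3, 2, 5, 4, 3, 6, 5, 4], [6]), ([0, 2, 0, 3, 2, 0, 4, 3, 2, 5, 4, 3, 6, 5, 4], [6]), ([3, 1, 2, 0, 3, 2, 4, 3, 5, 4], []), ([0, 2, 0, 3, 2, 0, 4, 3, 5, 4], []), ([2, 0, 3, 2, 0, 4, 3, 2, 5, 4], []), ([3, 2, 0, 4, 3, 2, 5, 4], [3, 4, 3]), ([0, 2, 0, 3, 2, 0, 4, 3, 2, 5, 4, 3, 6, 5, 4], [6]), ([0, 2, 0, 3, 2, 4, 3, 5, 4], []), ([0, 2, 0, 3, 2, 0, 4, 3, 1, 5, 4], []), ([0, 3, 1, 2, 0, 3, 2, 4, 3, 5, 4], []), ([2, 0, 3, 2, 0, 4, 3, 5, 4], []), ([3, 2, 0, 4, 3, 2, 5, 4, 3], [4]), ([0, 2, 0, 3, 2, 4, 3, 1, 5, 4], []), ([2, 0, 3, 2, 4, 3, 5, 4], []), ([0, 2, 0,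 3, 2, 0, 4, 3, 1, 5, 4, 3], []), ([2, 0, 3, 2, 0, 4, 3, 1, 5, 4], []), ([3, 2, 0, 4, 3, 2, 5, 4, 3], [4]), ([3, 2, 0, 4, 3, 2, 5, 4, 3], [4]), ([0, 2, 0, 3, 2, 4, 3, 1, 5, 4, 3], []), ([2, 0, 3, 2, 4, 3, 1, 5, 4], []), ([3, 2, 0, 4, 3, 2, 5, 4, 3], [4]), ([2, 0, 3, 2, 0, 4, 3, 1, 5, 4, 3], []), ([3, 2, 0, 4, 3, 2, 5, 4, 3], [4]), ([0, 2, 0, 3, 2, 4, 3, 1, 5, 4, 3, 2], []), ([2, 0, 3, 2, 4, 3, 1, 5, 4, 3], []), ([3, 2, 0, 4, 3, 2, 5, 4, 3], [4]), ([3, 2, 4, 3, 5, 4], [0, 2, 3, 4, 3, 2, 0]), ([3, 2, 0, 4, 3, 2, 5, 4], [3, 4, 3]), ([2, 0, 3, 2, 4, 3, 1, 5, 4, 3, 2], []), ([3, 2, 0, 4, 3, 5, 4], [2, 3, 4, 3, 2]), ([3, 2, 0, 4, 3, 2, 5, 4], [3, 4, 3]), ([3, 1, 2, 0, 4, 3, 2, 5, 4, 3, 6, 5, 4], []), ([3, 2, 0, 4, 3, 2, 5, 4], [3, 4, 3]),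 ([3, 2, 0, 4, 3, 5, 4], [2, 3, 4, 3, 2]), ([3, 1, 2, 0, 4, 3, 2, 0, 5, 4, 3, 6, 5, 4], []), ([0, 3, 1, 2, 0, 4, 3, 2, 5, 4, 3, 6, 5, 4], []), ([3, 2, 0, 4, 3, 2, 5, 4, 3], [4]), ([3, 1, 2, 0, 4, 3, 2, 0, 5, 4, 3, 2, 6, 5, 4], []), ([0, 3, 1, 2, 0, 4, 3, 2, 0, 5, 4, 3, 6, 5, 4], []), ([3, 2, 0, 4, 3, 2, 5, 4, 3], [4]), ([3, 1, 2, 0, 4, 3, 2, 0, 5, 4, 3, 2, 6, 5, 4, 3], []), ([0, 3, 1, 2, 0, 4, 3, 2, 0, 5, 4, 3, 2, 6, 5, 4], []), ([3, 1, 2, 0, 4, 3, 2, 0, 5, 4, 3, 2, 6, 5, 4, 3, 1], []), ([0, 3, 1, 2, 0, 4, 3, 2, 0, 5, 4, 3, 2, 6, 5, 4, 3], []), ([0, 3, 1, 2, 0, 4, 3, 2, 0, 5, 4, 3, 2, 6, 5, 4, 3, 1], []), ([0, 2, 0, 3, 2, 0, 4, 3, 2, 5, 4, 3, 6, 5, 4], [6]), ([0, 2, 0, 3, 2, 0, 4, 3, 2, 5, 4, 3, 6, 5, 4], [6]), ([3, 2, 0, 4, 3, 2,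 5, 4, 3], [4]), ([3, 2, 0, 4, 3, 2, 5, 4, 3], [4]), ([3, 2, 0, 4, 3, 2, 5, 4, 3], [4])]

/-- A table. -/
def rot5 : List (List (Fin 7) × List (Fin 7)) := rot5_0

/-- Part of a table. -/
def rot6_0 : List (List (Fin 7) × List (Fin 7)) := [([3, 2, 0, 4, 3, 2, 5, 4, 3, 6, 5, 4], [5]), ([3, 2, 0, 4, 3, 2, 5, 4, 3, 6, 5, 4], [5]), ([3, 2, 0, 4, 3, 2, 5, 4, 3, 6, 5, 4], [5]), ([3, 2, 0, 4, 3, 2, 5, 4, 3, 6, 5, 4], [5]), ([3, 2, 0, 4, 3, 2, 5, 4, 6, 5], [3, 4, 5, 4, 3]), ([0, 2, 0, 3, 2, 0, 4, 3, 2, 5, 4, 3, 6, 5, 4], []), ([], []), ([3, 2, 0, 4, 3, 2, 5, 4, 3, 6, 5, 4], [5]), ([3, 2, 0, 4, 3, 2, 5, 4, 3, 6, 5, 4], [5]), ([3, 2, 0, 4, 3, 2, 5, 4, 3, 6, 5, 4], [5]), ([3, 2, 0, 4, 3, 2, 5, 4, 3, 6, 5], [4, 5, 4]), ([0, 2, 0, 3, 2, 0, 4, 3,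 2, 5, 4, 3, 6, 5], []), ([2, 0, 3, 2, 0, 4, 3, 2, 5, 4, 3, 6, 5, 4], []), ([3, 2, 0, 4, 3, 2, 5, 4, 3, 6, 5, 4], [5]), ([3, 2, 0, 4, 3, 2, 5, 4, 3, 6, 5, 4], [5]), ([3, 2, 0, 4, 3, 2, 5, 4, 3, 6, 5], [4, 5, 4]), ([3, 2, 0, 4, 3, 2, 5, 4, 3, 6, 5], [4, 5, 4]), ([0, 2, 0, 3, 2, 0, 4, 3, 2, 5, 4, 6, 5], []), ([2, 0, 3, 2, 0, 4, 3, 2, 5, 4, 3, 6, 5], []), ([3, 2, 0, 4, 3, 2, 5, 4, 3, 6, 5, 4], [5]), ([3, 2, 0, 4, 3, 2, 5, 4, 3, 6, 5], [4, 5, 4]), ([3, 2, 0, 4, 3, 2, 5, 4, 3, 6, 5], [4, 5, 4]), ([3, 1, 2, 0, 3, 2, 4, 3, 5, 4, 6, 5], []), ([0, 2, 0, 3, 2, 0, 4, 3, 5, 4, 6, 5], []), ([2, 0, 3, 2, 0, 4, 3, 2, 5, 4, 6, 5], []), ([3, 2, 0, 4, 3, 2, 5, 4, 3, 6, 5], [4, 5, 4]), ([0, 2, 0, 3, 2, 4, 3, 5, 4, 6, 5], []), ([3, 2, 0, 4, 3, 2, 5,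 4, 6, 5], [3, 4, 5, 4, 3]), ([0, 2, 0, 3, 2, 0, 4, 3, 1, 5, 4, 6, 5], []), ([0, 3, 1, 2, 0, 3, 2, 4, 3, 5, 4, 6, 5], []), ([2, 0, 3, 2, 0, 4, 3, 5, 4, 6, 5], []), ([3, 2, 0, 4, 3, 2, 5, 4, 6, 5], [3, 4, 5, 4, 3]), ([0, 2, 0, 3, 2, 4, 3, 1, 5, 4, 6, 5], []), ([2, 0, 3, 2, 4, 3, 5, 4, 6, 5], []), ([0, 2, 0, 3, 2, 0, 4, 3, 1, 5, 4, 3, 6, 5], []), ([2, 0, 3, 2, 0, 4, 3, 1, 5, 4, 6, 5], []), ([3, 2, 0, 4, 3, 5, 4, 6, 5], [2, 3, 4, 5, 4, 3, 2]), ([0, 2, 0, 3, 2, 4, 3, 1, 5, 4, 3, 6, 5], []), ([2, 0, 3, 2, 4, 3, 1, 5, 4, 6, 5], []), ([0, 2, 0, 3, 2, 0, 4, 3, 1, 5, 4, 3, 6, 5, 4], []), ([2, 0, 3, 2, 0, 4, 3, 1, 5, 4, 3, 6, 5], []), ([0, 2, 0, 3, 2, 4, 3, 1, 5, 4, 3, 2, 6, 5], []), ([0, 2, 0, 3, 2, 4, 3, 1, 5, 4, 3, 6, 5, 4], []), ([2, 0,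 3, 2, 4, 3, 1, 5, 4, 3, 6, 5], []), ([2, 0, 3, 2, 0, 4, 3, 1, 5, 4, 3, 6, 5, 4], []), ([0, 2, 0, 3, 2, 4, 3, 1, 5, 4, 3, 2, 6, 5, 4], []), ([2, 0, 3, 2, 4, 3, 1, 5, 4, 3, 2, 6, 5], []), ([2, 0, 3, 2, 4, 3, 1, 5, 4, 3, 6, 5, 4], []), ([3, 2, 4, 3, 5, 4, 6, 5], [0, 2, 3, 4, 5, 4, 3, 2, 0]), ([0, 2, 0, 3, 2, 4, 3, 1, 5, 4, 3, 2, 6, 5, 4, 3], []), ([2, 0, 3, 2, 4, 3, 1, 5, 4, 3, 2, 6, 5, 4], []), ([3, 2, 0, 4, 3, 5, 4, 6, 5], [2, 3, 4, 5, 4, 3, 2]), ([0, 2, 0, 3, 2, 4, 3, 1, 5, 4, 3, 2, 6, 5, 4, 3, 1], []), ([2, 0, 3, 2, 4, 3, 1, 5, 4, 3, 2, 6, 5, 4, 3], []), ([3, 2, 0, 4, 3, 2, 5, 4, 6, 5], [3, 4, 5, 4, 3]), ([2, 0, 3, 2, 4, 3, 1, 5, 4, 3, 2, 6, 5, 4, 3, 1], []), ([3, 2, 0, 4, 3, 2, 5, 4, 3, 6, 5], [4, 5, 4]), ([3, 2, 0, 4, 3, 2, 5,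 4, 3, 6, 5], [4, 5, 4]), ([3, 2, 0, 4, 3, 2, 5, 4, 3, 6, 5, 4], [5]), ([3, 2, 0, 4, 3, 2, 5, 4, 3, 6, 5, 4], [5]), ([3, 2, 0, 4, 3, 2, 5, 4, 3, 6, 5, 4], [5]), ([3, 2, 0, 4, 3, 2, 5, 4, 3, 6, 5, 4], [5]), ([3, 2, 0, 4, 3, 2, 5, 4, 3, 6, 5, 4], [5])]

/-- A table. -/
def rot6 : List (List (Fin 7) × List (Fin 7)) := rot6_0

/-- A table. -/
def rot : List (List (List (Fin 7) × List (Fin 7))) := [rot0, rot1, rot2, rot3, rot4, rot5, rot6]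

end Cfsg.Agent.Lie.PSpFourThreeFull.W7
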