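import Cfsg.Agent.Lib.Lie.PSpFourThreeFull.WeylPerm
import Cfsg.Agent.Lib.Lie.PSpFourThreeFull.WeylCert
import Cfsg.Agent.Lib.Lie.PSpFourThreeFull.W7Data
import Cfsg.Agent.Lib.Lie.PSpFourThreeFull.W7Syl
import Cfsg.Agent.Lib.Lie.PSpFourThreeFull.SylCert
import Cfsg.Agent.Lib.Lie.WeylE7
import Cfsg.Agent.S1093
import Cfsg.Agent.S2418

/-!
The certified facts on the Coxeter group of type E7.
-/

set_option autoImplicit false
set_option maxRecDepth 1000000
set_option Elab.async false

namespace Cfsg.Agent.Lie.PSpFourThreeFull.W7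

open Cfsg.Agent.Lie

theorem okTab7 : okTab Cfsg.Lie.chevE7 tab = true := by decide +kernel

theorem simp0_eq : simp0 = (List.range Cfsg.Lie.chevE7.rank).map Cfsg.Lie.chevE7.simple := by decide +kernel

/-- The model. -/
def model : WordModel (CoxeterMatrix.E₇ : CoxeterMatrix (Fin 7)).Group 7 where
  s := CoxeterMatrix.E₇.simple
  img ω := evImg tab simp0 (ω.map Fin.val)
  eq_iff := word_eq_iff factsE7 (CoxeterMatrix.E₇ : CoxeterMatrix (Fin Cfsg.Lie.chevE7.rank)) coxeterE7.1 coxeterE7.2
    okTab7 simp0_eq
  sq i := CoxeterMatrix.E₇.toCoxeterSystem.simple_mul_simple_self i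
  gen := CoxeterMatrix.E₇.toCoxeterSystem.subgroup_closure_range_simple

theorem closed : model.okClosed refls reflNxt = true := by decide +kernel

theorem conjOk : model.okConj refls reflCj 0 = true := by decide +kernel

theorem nodup : model.okNodup refls = true := by decide +kernel

theorem simple_mem : ∀ i : Fin 7, [i] ∈ refls := by decide +kernel

theorem rotOk : model.okRot refls rot 0 2 = true := by decide +kernel

/-- The table of the Sylow subgroup. -/
def sylTab : SylTable 7 := ⟨sGens, sPerm, sIms, sNxt, sPar, sOrd, sSlot, sCert⟩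

theorem permOk : sylTab.okPerm tab 126 = true := by decide +kernel

theorem entries : sylTab.okEntries simp0 126 12 1024 = true := by decide +kernel

theorem start : sylTab.okStart 12 = true := by decide +kernel

theorem certOk : sylTab.okCert tab simp0 reps 12 1024 = true := by decide +kernel

theorem card_eq : Nat.card (CoxeterMatrix.E₇ : CoxeterMatrix (Fin 7)).Group = 2903040 :=
  Cfsg.Agent.S1093.result (⟨7, CoxeterMatrix.E₇⟩, 2903040) (by simp)

theorem finite : Finite (CoxeterMatrix.E₇ : CoxeterMatrix (Fin 7)).Group :=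
  Nat.finite_of_card_ne_zero (by rw [card_eq]; norm_num)

theorem card_center : Nat.card (Subgroup.center (CoxeterMatrix.E₇ : CoxeterMatrix (Fin 7)).Group) = 2 :=
  (Cfsg.Agent.S2418.result (⟨7, CoxeterMatrix.E₇⟩, 2) (by simp)).1

theorem long_central : ∀ i : Fin 7, model.pr (i :: long7) = model.pr (long7 ++ [i]) := fun i =>
  model.pr_eq ((by decide +kernel : ∀ i : Fin 7, model.img (i :: long7) = model.img (long7 ++ [i])) i)

theorem long_ne : model.pr long7 ≠ 1 := model.pr_ne (by decide +kernel : model.img long7 ≠ model.img [])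

theorem index_centralizer :
    (Subgroup.centralizer ({model.s 0} : Set (CoxeterMatrix.E₇ : CoxeterMatrix (Fin 7)).Group)).index = 63 := by
  haveI := finite
  exact (model.index_centralizer closed 0 (simple_mem 0) conjOk nodup).trans (by decide +kernel)

theorem involution_conj {u : (CoxeterMatrix.E₇ : CoxeterMatrix (Fin 7)).Group} (hu : u * u = 1) (hu1 : u ≠ 1) :
    ∃ g, ∃ ω ∈ reps, g * u * g⁻¹ = model.pr ω := by
  haveI := finite
  exact model.involution_conj' sylTab tab simp0 (e := 10) (o := 2835) reps (fun _ => rfl) permOk entries start certOk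
    (by norm_num) (by rw [card_eq]; norm_num) hu hu1

theorem rot_mem (N : Subgroup (CoxeterMatrix.E₇ : CoxeterMatrix (Fin 7)).Group) [N.Normal]
    (hN : ¬ N ≤ Subgroup.center _) : model.s 0 * model.s 2 ∈ N := by
  obtain ⟨x, hx, hxc⟩ := SetLike.not_le_iff_exists.1 hN
  exact model.rot_mem closed simple_mem rotOk N hx hxc

end Cfsg.Agent.Lie.PSpFourThreeFull.W7
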