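/-
The Weyl group of type E7 modulo its centre is the symplectic group of dimension six over the field of two elements.
-/
import Cfsg.Agent.Lib.Lie.PSpFourThreeFull.W7
import Cfsg.Agent.S0245

set_option autoImplicit false
set_option maxRecDepth 100000
set_option Elab.async false

namespace Cfsg.Agent.Lie.PSpFourThreeFull

namespace SpSixCox

/-- The images of the simple roots in the six-dimensional space over the field of two elements. -/
def root : Fin 7 → Fin 6 → ZMod 2 :=
  ![![0, 0, 0, 0, 0, 1], ![0, 0, 0, 0, 1, 0], ![0, 0, 1, 0, 0, 0], ![0, 1, 0, 0, 0, 1], ![0, 0, 0, 1, 1, 0],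
    ![1, 0, 0, 0, 0, 0], ![0, 0, 0, 1, 0, 0]]

/-- The position of a coordinate. -/
def pos : Fin 3 ⊕ Fin 3 → Fin 6 := Sum.elim (fun i => ⟨i.1, by omega⟩) (fun i => ⟨3 + i.1, by omega⟩)

/-- The opposite position. -/
def opp : Fin 3 ⊕ Fin 3 → Fin 6 := fun x => pos x.swap

/-- The transvection of a root. -/
def tmat (i : Fin 7) : Matrix (Fin 3 ⊕ Fin 3) (Fin 3 ⊕ Fin 3) (ZMod 2) :=
  Matrix.of fun x y => (if x = y then 1 else 0) + root i (pos x) * root i (opp y)

theorem tmat_mem : ∀ i : Fin 7, tmat i * Matrix.J (Fin 3) (ZMod 2) * (tmat i).transpose = Matrix.J (Fin 3) (ZMod 2) := by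
  decide +kernel

/-- The transvection as an element of the symplectic group. -/
def tsp (i : Fin 7) : Matrix.symplecticGroup (Fin 3) (ZMod 2) := ⟨tmat i, SymplecticGroup.mem_iff.mpr (tmat_mem i)⟩

theorem tmat_rel : ∀ i j : Fin 7, (tmat i * tmat j) ^ (CoxeterMatrix.E₇.M i j) = 1 := by
  decide +kernel

theorem tsp_liftable : (CoxeterMatrix.E₇ : CoxeterMatrix (Fin 7)).IsLiftable tsp := fun i j => by
  refine Subtype.ext ?_
  simpa [tsp] using tmat_rel i j

theorem tmat_ne : tmat 0 * tmat 2 ≠ 1 := by decide +kernel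

end SpSixCox

open SpSixCox in
/-- `W(E7)` modulo its centre is `Sp6(2)`. -/
theorem cox_seven_symplectic :
    ∃ f : (CoxeterMatrix.E₇ : CoxeterMatrix (Fin 7)).Group →* Matrix.symplecticGroup (Fin 3) (ZMod 2),
      Function.Surjective f ∧ f.ker = Subgroup.center _ := by
  obtain ⟨f, hf⟩ : ∃ f : (CoxeterMatrix.E₇ : CoxeterMatrix (Fin 7)).Group →* Matrix.symplecticGroup (Fin 3) (ZMod 2),
      f = (CoxeterMatrix.E₇ : CoxeterMatrix (Fin 7)).toCoxeterSystem.lift ⟨tsp, tsp_liftable⟩ := ⟨_, rfl⟩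
  have hs : ∀ i, f (W7.model.s i) = tsp i := fun i => by
    rw [hf]
    exact (CoxeterMatrix.E₇ : CoxeterMatrix (Fin 7)).toCoxeterSystem.lift_apply_simple tsp_liftable i
  haveI := W7.finite
  have hle : f.ker ≤ Subgroup.center _ := by
    by_contra h
    have h1 : f (W7.model.s 0 * W7.model.s 2) = 1 := W7.rot_mem f.ker h
    rw [map_mul, hs, hs] at h1
    exact tmat_ne (congrArg Subtype.val h1)
  have hcard : Nat.card (Matrix.symplecticGroup (Fin 3) (ZMod 2)) = 1451520 := by
    rw [Cfsg.Agent.S0245.result (F := ZMod 2) (ZMod.card 2) 3]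
    decide +kernel
  have hk2 : Nat.card f.ker ≤ 2 := (Subgroup.card_le_of_le hle).trans_eq W7.card_center
  have hr : Nat.card f.range ≤ 1451520 := (Subgroup.card_le_card_group f.range).trans_eq hcard
  have hmul : Nat.card f.ker * Nat.card f.range = 2903040 := by
    rw [← Subgroup.index_ker, Subgroup.card_mul_index, W7.card_eq]
  have hk : Nat.card f.ker = 2 := by
    have : 2903040 ≤ Nat.card f.ker * 1451520 := hmul ▸ Nat.mul_le_mul_left _ hr
    omega
  refine ⟨f, ?_, Subgroup.eq_of_le_of_card_ge hle (by rw [hk, W7.card_center])⟩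
  rw [← MonoidHom.range_eq_top]
  refine Subgroup.eq_top_of_card_eq _ ?_
  rw [hcard]
  rw [hk] at hmul
  omega

end Cfsg.Agent.Lie.PSpFourThreeFull
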