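/-
Seven elements satisfying the relations of type E7 and generating a group with trivial centre generate `Sp6(2)`.
-/
import Cfsg.Agent.Lib.Lie.PSpFourThreeFull.SpSixCox

set_option autoImplicit false
set_option linter.unusedSectionVars false

namespace Cfsg.Agent.Lie.PSpFourThreeFull

theorem symplectic_of_nodes {G : Type*} [Group G] (f : Fin 7 → G)
    (hl : (CoxeterMatrix.E₇ : CoxeterMatrix (Fin 7)).IsLiftable f) (hne : f 0 * f 2 ≠ 1)
    (hcen : ∀ x ∈ Subgroup.closure (Set.range f), x * x = 1 → (∀ i, x * f i = f i * x) → x = 1) :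
    Nonempty (Subgroup.closure (Set.range f) ≃* Matrix.symplecticGroup (Fin 3) (ZMod 2)) := by
  obtain ⟨ρ, hρs, hρk⟩ := cox_seven_symplectic
  haveI := W7.finite
  obtain ⟨φ, hφ⟩ : ∃ φ : (CoxeterMatrix.E₇ : CoxeterMatrix (Fin 7)).Group →* G, ∀ i, φ (W7.model.s i) = f i :=
    ⟨(CoxeterMatrix.E₇ : CoxeterMatrix (Fin 7)).toCoxeterSystem.lift ⟨f, hl⟩,
      (CoxeterMatrix.E₇ : CoxeterMatrix (Fin 7)).toCoxeterSystem.lift_apply_simple hl⟩
  have hr : φ.range = Subgroup.closure (Set.range f) := by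
    rw [MonoidHom.range_eq_map, ← W7.model.gen, MonoidHom.map_closure, ← Set.range_comp]
    congr 1
    exact congrArg Set.range (funext hφ)
  have hle : φ.ker ≤ Subgroup.center _ := by
    by_contra h
    have h1 : φ (W7.model.s 0 * W7.model.s 2) = 1 := W7.rot_mem φ.ker h
    rw [map_mul, hφ, hφ] at h1
    exact hne h1
  have hk : φ.ker = ρ.ker := by
    rw [hρk]
    refine le_antisymm hle fun c hc => hcen (φ c) (hr ▸ ⟨c, rfl⟩) ?_ fun i => ?_
    · rw [← map_mul]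
      have h2 : (⟨c, hc⟩ : Subgroup.center _) ^ 2 = 1 := W7.card_center ▸ pow_card_eq_one'
      rw [pow_two] at h2
      rw [show c * c = 1 from congrArg Subtype.val h2, map_one]
    · rw [← hφ, ← map_mul, ← map_mul, Subgroup.mem_center_iff.1 hc]
  exact ⟨(MulEquiv.subgroupCongr hr.symm).trans ((QuotientGroup.quotientKerEquivRange φ).symm.trans
    ((QuotientGroup.quotientMulEquivOfEq hk).trans (QuotientGroup.quotientKerEquivOfSurjective ρ hρs)))⟩

theorem mapMatrix_mem {R S : Type*} [CommRing R] [CommRing S] (g : R →+* S)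
    (A : Matrix (Fin 3 ⊕ Fin 3) (Fin 3 ⊕ Fin 3) R) (hA : A ∈ Matrix.symplecticGroup (Fin 3) R) :
    g.mapMatrix A ∈ Matrix.symplecticGroup (Fin 3) S := by
  rw [SymplecticGroup.mem_iff] at hA ⊢
  have hJ : g.mapMatrix (Matrix.J (Fin 3) R) = Matrix.J (Fin 3) S := by
    ext (i | i) (j | j) <;> by_cases h : i = j <;> simp [Matrix.J, h]
  have ht : (g.mapMatrix A).transpose = g.mapMatrix A.transpose := rfl
  rw [ht, ← hJ, ← map_mul, ← map_mul, hA]

theorem symplectic_field {F₂ : Type*} [Field F₂] [Fintype F₂] (hF₂ : Fintype.card F₂ = 2) :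
    Nonempty (Matrix.symplecticGroup (Fin 3) (ZMod 2) ≃* Matrix.symplecticGroup (Fin 3) F₂) := by
  haveI : Fact (Nat.Prime 2) := ⟨Nat.prime_two⟩
  obtain ⟨e⟩ : Nonempty (ZMod 2 ≃+* F₂) := ⟨ZMod.ringEquivOfPrime F₂ Nat.prime_two hF₂⟩
  obtain ⟨ψ, hψ⟩ : ∃ ψ : Matrix (Fin 3 ⊕ Fin 3) (Fin 3 ⊕ Fin 3) (ZMod 2) ≃+* Matrix (Fin 3 ⊕ Fin 3) (Fin 3 ⊕ Fin 3) F₂,
      ψ = e.mapMatrix := ⟨_, rfl⟩
  refine ⟨{
    toFun := fun A => ⟨ψ A.1, hψ ▸ mapMatrix_mem e.toRingHom A.1 A.2⟩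
    invFun := fun A => ⟨ψ.symm A.1, hψ ▸ mapMatrix_mem e.symm.toRingHom A.1 A.2⟩
    left_inv := fun A => Subtype.ext (ψ.symm_apply_apply A.1)
    right_inv := fun A => Subtype.ext (ψ.apply_symm_apply A.1)
    map_mul' := fun A B => Subtype.ext (map_mul ψ A.1 B.1) }⟩

end Cfsg.Agent.Lie.PSpFourThreeFull
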