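import Cfsg.Agent.Lib.Lie.PSpFourThreeFull.CentLeft
import Cfsg.Agent.Lib.Lie.PSpFourThreeFull.CaseAWeyl
import Cfsg.Agent.Lib.Lie.PSpFourThreeFull.NodeSevenWords
import Cfsg.Agent.Lib.Lie.PSpFourThreeFull.SpSixEmbed

/-!
The seventh node and the symplectic subgroup.
-/

set_option autoImplicit false
set_option linter.unusedSectionVars false
set_option linter.style.haveILetI false
set_option maxRecDepth 100000
set_option synthInstance.maxSize 4000
set_option synthInstance.maxHeartbeats 400000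

namespace Cfsg.Agent.Lie.PSpFourThreeFull

open Cfsg.Agent.Lie.PSpFourThreeAmalgam
open Cfsg.Agent.Small.ShapeThree (M)

namespace Axis

theorem braid_rho : rho * (s1 * w1) * rho = s1 * w1 * rho * (s1 * w1) := by decide +kernel

theorem rho_w : rho * w1 = w1 * rho ∧ rho * w2 = w2 * rho := by decide +kernel

end Axis

namespace Conf.Signed.Label

variable {G : Type*} [Group G] [Finite G] {T : Conf G} {hS : T.Signed} (hL : hS.Label)
include hL

/-- The new reflection. -/
noncomputable def r : G := (hL.lift Axis.rho : G)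

theorem r_sq : hL.r * hL.r = 1 := congrArg Subtype.val (hL.lift_sq Axis.basic_sq.2.2.2.1)

theorem r_mem_Og : hL.r ∈ hL.Og := hL.lift_mem Axis.rho_inO.1

theorem Og_C {o : G} (ho : o ∈ hL.Og) : Commute o hS.C := by
  have hq : Commute o (T.φ qm) := Subgroup.mem_centralizer_iff.1 (hL.Qg_cent T.qm_mem) o ho
  exact (hq.mul_right (show Commute o hS.R from (hL.R_Og ho).symm)).mul_right hq.inv_right

theorem r_C_conj {v : V3} (hv : mT v = v) : Commute hL.r (T.q v * hS.C * (T.q v)⁻¹) := by
  have h := hL.Og_C (hL.Eg_Og (T.Eg.inv_mem (T.mem_Eg.2 ⟨v, hv, rfl⟩)) hL.r_mem_Og)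
  rw [inv_inv] at h
  have h2 := (Commute.conj_iff (T.q v)).2 h
  rwa [show T.q v * ((T.q v)⁻¹ * hL.r * T.q v) * (T.q v)⁻¹ = hL.r by group] at h2

/-- The reflections fixed by the new one. -/
theorem r_fix (k : Fin 7) : Commute hL.r (hS.wimg hL.comm (W6.fixWords.getD k.val [])) := by
  have hsingle := fun i => hS.wimg_single hL.comm i
  have hC : Commute hL.r hS.C := hL.Og_C hL.r_mem_Og
  obtain ⟨b1, b2, -, br, -⟩ := Axis.basic_sq
  fin_cases k
  · show Commute hL.r (hS.wimg hL.comm [0])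
    rw [hsingle]
    have h := congrArg Subtype.val (hL.lift_mul br b1 Axis.rho_w.1).2.eq
    rw [hL.lift_w1] at h
    exact h
  · show Commute hL.r (hS.wimg hL.comm [5])
    rw [hsingle]
    have h := congrArg Subtype.val (hL.lift_mul br b2 Axis.rho_w.2).2.eq
    rw [hL.lift_w2] at h
    exact h
  · show Commute hL.r (hS.wimg hL.comm W6.high)
    rw [hS.high_eq]
    exact (hL.R_Og hL.r_mem_Og).symm
  · show Commute hL.r (hS.wimg hL.comm [1])
    rw [hsingle]
    exact (show Commute hL.r (T.q (0, 0, 1)) from hL.Og_cent hL.r_mem_Og).mul_right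
      (hL.R_Og hL.r_mem_Og).symm
  · show Commute hL.r (hS.wimg hL.comm [3])
    rw [hsingle]
    exact hC
  · show Commute hL.r (hS.wimg hL.comm (W6.qw (1, 1, 0) ++ [3] ++ (W6.qw (1, 1, 0)).reverse))
    rw [hS.wimg_append, hS.wimg_append, hS.wimg_reverse, hS.wimg_qw, hsingle]
    exact hL.r_C_conj (by decide +kernel)
  · show Commute hL.r (hS.wimg hL.comm (W6.qw (2, 2, 0) ++ [3] ++ (W6.qw (2, 2, 0)).reverse))
    rw [hS.wimg_append, hS.wimg_append, hS.wimg_reverse, hS.wimg_qw, hsingle]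
    exact hL.r_C_conj (by decide +kernel)

theorem r_cert (l : List (Fin 7)) :
    Commute hL.r (hS.wimg hL.comm (l.map fun k : Fin 7 => W6.fixWords.getD k.val []).flatten) := by
  induction l with
  | nil => rw [List.map_nil, List.flatten_nil, hS.wimg_nil]; exact Commute.one_right _
  | cons a l ih =>
    rw [List.map_cons, List.flatten_cons, hS.wimg_append]
    exact (hL.r_fix a).mul_right ih

/-- The seventh node. -/
noncomputable def n6 : G := hS.wimg hL.comm W6.uWord * hL.r * (hS.wimg hL.comm W6.uWord)⁻¹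

theorem n6_sq : hL.n6 * hL.n6 = 1 := by rw [n6, conj_mul, hL.r_sq, mul_one, mul_inv_cancel]

theorem node_conj (i : Fin 6) {ω : List (Fin 6)}
    (h : W6.model.img (W6.uWord.reverse ++ [i] ++ W6.uWord) = W6.model.img ω) :
    hS.node i = hS.wimg hL.comm W6.uWord * hS.wimg hL.comm ω * (hS.wimg hL.comm W6.uWord)⁻¹ := by
  rw [← hS.wimg_congr hL.comm h, hS.wimg_append, hS.wimg_append, hS.wimg_reverse, hS.wimg_single]
  group

theorem n6_comm (i : Fin 5) : Commute hL.n6 (hS.node i.castSucc) := by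
  rw [hL.node_conj _ (W6.node_pull i), n6]
  exact (Commute.conj_iff _).2 (hL.r_cert _)

theorem n6_braid : (hS.node 5 * hL.n6) ^ 3 = 1 := by
  obtain ⟨b1, b2, -, br, b5, -⟩ := Axis.basic_sq
  have hb : T.qc (1, 0, 0) * hS.c1 = hL.lift (Axis.s1 * Axis.w1) := by
    refine hL.eq_lift (Subtype.ext ?_) (by rw [map_mul, hL.e1, hL.r1])
    show T.q (1, 0, 0) * T.rot hS.R * (T.q (1, 0, 0) * T.rot hS.R) = 1
    rw [← mU_axes.1, ← T.rot_q, ← map_mul, ← map_mul, show T.q (0, 0, 1) * hS.R = hS.B from rfl, hS.B_invol, map_one]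
  have hnode : hS.node 2 = ((hL.lift (Axis.s1 * Axis.w1) : T.centQ (0, 0, 1)) : G) := by
    rw [← hb]
    show T.rot hS.B = T.q (1, 0, 0) * T.rot hS.R
    rw [B, map_mul, T.rot_q, mU_axes.1]
  set ρ' := hL.lift Axis.rho
  set b := hL.lift (Axis.s1 * Axis.w1)
  have hρ : ρ' * ρ' = 1 := hL.lift_sq br
  have hbb : b * b = 1 := hL.lift_sq b5
  have hρi : ρ'⁻¹ = ρ' := inv_eq_of_mul_eq_one_right hρ
  have hbi : b⁻¹ = b := inv_eq_of_mul_eq_one_right hbb
  have heq : ρ' * b * ρ' = b * ρ' * b := by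
    refine hL.lift_eq ?_ ?_ ?_
    · calc ρ' * b * ρ' * (ρ' * b * ρ') = ρ' * b * (ρ' * ρ') * b * ρ' := by simp only [mul_assoc]
        _ = 1 := by rw [hρ, mul_one, mul_assoc ρ' b b, hbb, mul_one, hρ]
    · calc b * ρ' * b * (b * ρ' * b) = b * ρ' * (b * b) * ρ' * b := by simp only [mul_assoc]
        _ = 1 := by rw [hbb, mul_one, mul_assoc b ρ' ρ', hρ, mul_one, hbb]
    · rw [map_mul, map_mul, map_mul, map_mul, hL.π_lift br, hL.π_lift b5]
      exact Axis.braid_rho
  have h3 : (b * ρ') ^ 3 = 1 := by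
    rw [pow_succ, pow_two]
    calc b * ρ' * (b * ρ') * (b * ρ') = b * ρ' * b * (ρ' * b * ρ') := by simp only [mul_assoc]
      _ = b * ρ' * b * (b * ρ' * b) := by rw [heq]
      _ = b * ρ' * (b * b) * ρ' * b := by simp only [mul_assoc]
      _ = 1 := by rw [hbb, mul_one, mul_assoc b ρ' ρ', hρ, mul_one, hbb]
  have h3' : ((b : G) * hL.r) ^ 3 = 1 := congrArg Subtype.val h3
  rw [hL.node_conj 5 W6.node_last, n6, conj_mul, conj_pow, hS.wimg_single, hnode, h3', mul_one, mul_inv_cancel]

/-- The seven nodes. -/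
noncomputable def node7 : Fin 7 → G := Fin.snoc hS.node hL.n6

theorem node7_castSucc (i : Fin 6) : hL.node7 i.castSucc = hS.node i := by rw [node7, Fin.snoc_castSucc]

theorem node7_last : hL.node7 (Fin.last 6) = hL.n6 := by rw [node7, Fin.snoc_last]

theorem node7_liftable : (CoxeterMatrix.E₇ : CoxeterMatrix (Fin 7)).IsLiftable hL.node7 := by
  obtain ⟨hl2, hl3, hl3', hl1⟩ := W6.seven_last
  intro i j
  induction i using Fin.lastCases with
  | last =>
    induction j using Fin.lastCases with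
    | last => rw [hl1, pow_one, hL.node7_last, hL.n6_sq]
    | cast j =>
      rw [hL.node7_last, hL.node7_castSucc]
      induction j using Fin.lastCases with
      | last =>
        rw [hl3']
        have h := hL.n6_braid
        have h5 : hS.node 5 * hS.node 5 = 1 := hS.node_sq 5
        show (hL.n6 * hS.node 5) ^ 3 = 1
        rw [show hL.n6 * hS.node 5 = (hS.node 5 * hL.n6)⁻¹ by
          rw [mul_inv_rev, inv_eq_of_mul_eq_one_right hL.n6_sq, inv_eq_of_mul_eq_one_right h5], inv_pow, h, inv_one]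
      | cast j =>
        rw [(hl2 j).2, (hL.n6_comm j).mul_pow, pow_two, pow_two, hL.n6_sq, hS.node_sq, one_mul]
  | cast i =>
    induction j using Fin.lastCases with
    | last =>
      rw [hL.node7_last, hL.node7_castSucc]
      induction i using Fin.lastCases with
      | last =>
        rw [hl3]
        exact hL.n6_braid
      | cast i =>
        rw [(hl2 i).1, (hL.n6_comm i).symm.mul_pow, pow_two, pow_two, hL.n6_sq, hS.node_sq, one_mul]
    | cast j =>
      rw [hL.node7_castSucc, hL.node7_castSucc, W6.seven_restrict]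
      exact hS.node_liftable hL.comm i j

/-- The subgroup generated by the seven nodes. -/
noncomputable def H : Subgroup G := Subgroup.closure (Set.range hL.node7)

theorem psi_le : (hS.psi hL.comm).range ≤ hL.H := by
  rw [MonoidHom.range_eq_map, ← W6.model.gen, MonoidHom.map_closure, ← Set.range_comp]
  refine (Subgroup.closure_le _).2 ?_
  rintro _ ⟨i, rfl⟩
  show hS.psi hL.comm (CoxeterMatrix.E₆.simple i) ∈ hL.H
  rw [hS.psi_simple, ← hL.node7_castSucc]
  exact Subgroup.subset_closure ⟨_, rfl⟩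

theorem r_mem : hL.r ∈ hL.H := by
  have hu : hS.wimg hL.comm W6.uWord ∈ hL.H := hL.psi_le (hS.wimg_mem hL.comm _)
  have hn : hL.n6 ∈ hL.H := hL.node7_last ▸ Subgroup.subset_closure ⟨_, rfl⟩
  have h := hL.H.mul_mem (hL.H.mul_mem (hL.H.inv_mem hu) hn) hu
  rwa [n6, show (hS.wimg hL.comm W6.uWord)⁻¹ * (hS.wimg hL.comm W6.uWord * hL.r *
    (hS.wimg hL.comm W6.uWord)⁻¹) * hS.wimg hL.comm W6.uWord = hL.r by group] at h

theorem J_le_H : T.J ≤ hL.H := (hS.J_le hL.comm).trans hL.psi_le

/-- The subgroup is symplectic of dimension six. -/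
theorem H_equiv : Nonempty (hL.H ≃* Matrix.symplecticGroup (Fin 3) (ZMod 2)) := by
  refine symplectic_of_nodes hL.node7 hL.node7_liftable ?_ ?_
  · intro h
    change hL.node7 (Fin.castSucc (0 : Fin 6)) * hL.node7 (Fin.castSucc (2 : Fin 6)) = 1 at h
    rw [hL.node7_castSucc, hL.node7_castSucc, ← hS.wimg_single hL.comm, ← hS.wimg_single hL.comm,
      ← hS.wimg_append, ← hS.wimg_nil hL.comm] at h
    exact hS.wimg_ne hL.comm W6.distinct.2 h
  · intro x _ hx2 hx
    have hall : hL.H ≤ Subgroup.centralizer ({x} : Set G) := (Subgroup.closure_le _).2 (by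
      rintro _ ⟨i, rfl⟩
      exact Subgroup.mem_centralizer_singleton_iff.2 (hx i).symm)
    obtain ⟨v, rfl⟩ := T.mem_J.1 (T.cent_J fun y hy =>
      (Subgroup.mem_centralizer_singleton_iff.1 (hall (hL.J_le_H hy))).symm)
    have h3 := T.q_cube v
    rwa [pow_succ, pow_two, hx2, one_mul] at h3

end Conf.Signed.Label

end Cfsg.Agent.Lie.PSpFourThreeFull
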