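import Cfsg.Agent.Lib.Lie.PSpFourThreeFull.AxisFacts
import Cfsg.Agent.Lib.Lie.PSpFourThreeFull.QuatFacts

/-!
Finite facts for the centraliser of the elementary subgroup of order eight.
-/

set_option autoImplicit false
set_option maxRecDepth 100000
set_option synthInstance.maxSize 4000
set_option synthInstance.maxHeartbeats 400000
set_option Elab.async false

namespace Cfsg.Agent.Lie.PSpFourThreeFull

open Cfsg.Agent.Lie.PSpFourThreeAmalgam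
open Cfsg.Agent.Small.ShapeThree (M omega S)

theorem Qm_axis : ∀ g : S, g * g * (g * g) = 1 →
    (⟨0, 0, g⟩ : M) * jc (0, 0, 1) = jc (0, 0, 1) * ⟨0, 0, g⟩ → (⟨0, 0, g⟩ : M) = 1 ∨ (⟨0, 0, g⟩ : M) = tm := by
  decide +kernel

namespace Axis

theorem inO_card : (Finset.univ.filter fun σ : P6 => inO σ).card = 8 := by decide +kernel

theorem rho_inO : inO rho ∧ rho ≠ 1 ∧ rho ≠ tau := by decide +kernel

theorem single_inO : ∀ σ, inO σ → (∃ h : P6, h * σ * h⁻¹ = w1) →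
    σ = rho ∨ σ = Equiv.swap 1 4 ∨ σ = Equiv.swap 2 5 := by decide +kernel

theorem inO_pair : ∀ σ, inO σ → σ * (w1 * w2) = w1 * w2 * σ →
    σ * (w1 * w2) ≠ 1 ∧ ∀ h : P6, h * (σ * (w1 * w2)) * h⁻¹ ≠ w1 := by decide +kernel

theorem pair_conj : w1 * w2 * (w1 * w2) = 1 ∧ w1 * w2 * rho * (w1 * w2)⁻¹ = rho ∧
    w1 * w2 * Equiv.swap 1 4 * (w1 * w2)⁻¹ = Equiv.swap 2 5 ∧
    w1 * w2 * Equiv.swap 2 5 * (w1 * w2)⁻¹ = Equiv.swap 1 4 ∧
    (∀ σ, inO σ → inO (w1 * w2 * σ * (w1 * w2)⁻¹)) ∧ ¬ inO (w1 * w2) := by decide +kernel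

theorem three_swaps : inO (Equiv.swap 1 4) ∧ inO (Equiv.swap 2 5) ∧ rho ≠ Equiv.swap 1 4 ∧
    Equiv.swap (1 : Fin 6) 4 ≠ Equiv.swap 2 5 ∧ rho ≠ Equiv.swap 2 5 ∧ rho * Equiv.swap 1 4 * Equiv.swap 2 5 = tau ∧
    (∀ σ, inO σ → σ ∈ [1, rho, Equiv.swap 1 4, Equiv.swap 2 5, rho * Equiv.swap 1 4, rho * Equiv.swap 2 5,
      Equiv.swap 1 4 * Equiv.swap 2 5, rho * Equiv.swap 1 4 * Equiv.swap 2 5]) := by decide +kernel

end Axis

end Cfsg.Agent.Lie.PSpFourThreeFull
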