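import Cfsg.Agent.Lib.Lie.PSpFourThreeFull.ReflClass
import Cfsg.Agent.Lib.Lie.PSpFourThreeFull.OgFacts
import Cfsg.Agent.Lib.Lie.PSpFourThreeFull.EightSig
import Cfsg.Agent.Lib.Lie.PSpFourThreeFull.QuatSmall

/-!
The centraliser of the elementary subgroup of order eight.
-/

set_option autoImplicit false
set_option linter.unusedSectionVars false
set_option linter.style.haveILetI false
set_option maxRecDepth 100000
set_option synthInstance.maxSize 4000
set_option synthInstance.maxHeartbeats 400000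

namespace Cfsg.Agent.Lie.PSpFourThreeFull

open Cfsg.Agent.Lie.PSpFourThreeAmalgam
open Cfsg.Agent.Small.ShapeThree (M)

/-- The order is prime to thirty-five when the exponent is. -/
theorem coprime_of_exp {G : Type*} [Group G] [Finite G] (H : Subgroup G) {n : ℕ} (hn : n.Coprime 35)
    (h : ∀ x ∈ H, x ^ n = 1) : (Nat.card H).Coprime 35 := by
  refine Nat.coprime_of_dvd fun p hp hpH hp35 => ?_
  haveI : Fact p.Prime := ⟨hp⟩
  obtain ⟨x, hx⟩ := exists_prime_orderOf_dvd_card' p hpH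
  have h1 : orderOf x ∣ n := orderOf_dvd_iff_pow_eq_one.2 (Subtype.ext (by
    rw [SubgroupClass.coe_pow, h _ x.2]; rfl))
  rw [hx] at h1
  exact hp.ne_one (Nat.dvd_one.1 (hn.gcd_eq_one ▸ Nat.dvd_gcd h1 hp35))

namespace Conf

variable {G : Type*} [Group G] [Finite G] (T : Conf G)

theorem card_Eg : Nat.card T.Eg = 9 := by
  rw [← mT_fixed_nine]
  let ι : {v : V3 // mT v = v} → T.Eg := fun v => ⟨T.q v.1, T.mem_Eg.2 ⟨v.1, v.2, rfl⟩⟩
  refine (Nat.card_eq_of_bijective ι ⟨fun v w h => Subtype.ext (T.q_inj (congrArg Subtype.val h)), fun x => ?_⟩).symm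
  obtain ⟨v, hv, hvx⟩ := T.mem_Eg.1 x.2
  exact ⟨⟨v, hv⟩, Subtype.ext hvx⟩

theorem Eg_Qg {g : G} (hg : g ∈ T.Eg) {x : G} (hx : x ∈ T.Qg) : g * x * g⁻¹ ∈ T.Qg := by
  obtain ⟨v, hv, rfl⟩ := T.mem_Eg.1 hg
  exact T.map_Qg (Or.inl (by rw [← T.q_dia, T.q_comm, mul_inv_cancel_right]))
    ((Acts.comm_iff T T.tm_acts).2 hv).symm hx

namespace Signed

variable {T} (hS : T.Signed)
include hS

theorem pow_normalizer {g : G} {v : V3} (hg : g ∈ Subgroup.normalizer (T.J : Set G)) (hv : v ≠ 0)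
    (hw : v.1 = 0 ∨ v.2.1 = 0 ∨ v.2.2 = 0) (hc : g * T.q v = T.q v * g) : g ^ 24 = 1 := by
  obtain ⟨p, hp⟩ := hS.acts_smap hg
  have hit : ∀ n : ℕ, T.Acts (g ^ n) ((smap p)^[n]) := by
    intro n
    induction n with
    | zero => exact fun u => by simp
    | succ n ih => exact fun u => by rw [pow_succ, Function.iterate_succ_apply]; exact Acts.mul T ih hp u
  obtain ⟨u, hu⟩ := T.mem_J.1 (T.mem_J_of_acts (x := g ^ 8) fun u => by
    rw [hit 8 u, stab_eight v hv hw p ((Acts.comm_iff T hp).1 hc) u]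
    rfl)
  rw [show 24 = 8 * 3 from rfl, pow_mul, ← hu, T.q_cube]

theorem R_Eg {x : G} (hx : x ∈ T.Eg) : hS.R * x * hS.R ∈ T.Eg := by
  obtain ⟨v, hv, rfl⟩ := T.mem_Eg.1 hx
  refine T.mem_Eg.2 ⟨sgC v, (by decide +kernel : ∀ v, mT v = v → mT (sgC v) = sgC v) v hv, ?_⟩
  rw [← hS.R_acts v, hS.R_inv]

end Signed

namespace Signed.Label

variable {T} {hS : T.Signed} (hL : hS.Label)
include hL

theorem lift_mem {σ : Axis.P6} (h : Axis.inO σ) : (hL.lift σ : G) ∈ hL.Og := ⟨σ, h, rfl⟩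

/-- The centraliser of the subgroup inside the centraliser of the axis. -/
theorem cent_axis {x : G} (hx : x ∈ Subgroup.centralizer (hL.Og : Set G)) (he : x * T.q (0, 0, 1) = T.q (0, 0, 1) * x) :
    ∃ d ∈ hL.Og, ∃ a : ZMod 3, x = d * T.q (a • (0, 0, 1)) := by
  set x' : T.centQ (0, 0, 1) := ⟨x, T.mem_centQ.2 he⟩
  have hc : ∀ σ, Axis.inO σ → hL.π x' * σ = σ * hL.π x' := fun σ hσ => by
    rw [← hL.π_lift (Axis.inO_sq σ hσ), ← map_mul, ← map_mul]
    exact congrArg hL.π (Subtype.ext (Subgroup.mem_centralizer_iff.1 hx _ (hL.lift_mem hσ)).symm)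
  obtain ⟨i1, i2, -⟩ := Axis.three_swaps
  have hin : Axis.inO (hL.π x') := Axis.inO_cent _ (hc _ Axis.rho_inO.1) (hc _ i1) (hc _ i2)
  have hsq := Axis.inO_sq _ hin
  obtain ⟨a, ha⟩ := hL.π_one (x := hL.lift (hL.π x') * x') (by rw [map_mul, hL.π_lift hsq, hsq])
  refine ⟨_, hL.lift_mem hin, a, ?_⟩
  have h1 : x' = hL.lift (hL.π x') * T.qc (a • (0, 0, 1)) := by
    rw [← ha, ← mul_assoc, hL.lift_sq hsq, one_mul]
  exact congrArg Subtype.val h1

theorem axis_mem_cent : T.q (0, 0, 1) ∈ Subgroup.centralizer (hL.Og : Set G) :=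
  Subgroup.mem_centralizer_iff.2 fun _ hy => hL.Og_cent hy

theorem R_mem_cent : hS.R ∈ Subgroup.centralizer (hL.Og : Set G) :=
  Subgroup.mem_centralizer_iff.2 fun _ hy => (hL.R_Og hy).symm

theorem Eg_normal {g : G} (hg : g ∈ T.Eg) : g ∈ Subgroup.normalizer (hL.Og : Set G) := by
  rw [Subgroup.mem_normalizer_iff_map_conj_eq]
  refine Subgroup.eq_of_le_of_card_ge ?_ (Subgroup.card_map_of_injective (MulEquiv.injective _)).ge
  rintro _ ⟨x, hx, rfl⟩
  exact hL.Eg_Og hg hx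

theorem Og_two : IsPGroup 2 hL.Og := fun x => ⟨1, Subtype.ext (by
  rw [SubgroupClass.coe_pow, pow_one, pow_two]; exact hL.Og_sq x.2)⟩

/-- The signaliser of the subgroup. -/
theorem sig : ∃ N : Subgroup G, hL.Og ≤ N ∧ N ≤ Subgroup.centralizer (hL.Og : Set G) ∧
    T.Eg ≤ Subgroup.normalizer (N : Set G) ∧ Group.IsNilpotent N ∧ (Nat.card N).Coprime 3 ∧
    Nat.card (Subgroup.centralizer (hL.Og : Set G)) ∣ 6 * Nat.card N ∧
    ∀ W : Subgroup G, W ≤ Subgroup.centralizer (hL.Og : Set G) → IsPGroup 2 W →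
      T.q (0, 0, 1) ∈ Subgroup.normalizer (W : Set G) → W ≤ N := by
  refine sig_core hL.Og T.Eg (e := T.q (0, 0, 1)) (T.q_cube _) (fun h => axis_facts.1 (T.q_eq_one.1 h))
    (T.mem_Eg.2 ⟨_, fixed_basic.2.1, rfl⟩) T.card_Eg (fun x hx y hy => T.J_comm hx.1 hy.1) hL.Og_two
    (fun x hx y hy => hL.Og_comm hx hy) (fun g hg => hL.Eg_normal hg) (fun d hd => (hL.Og_cent hd).symm) ?_ ?_
  · intro x hx he
    obtain ⟨d, hd, a, rfl⟩ := hL.cent_axis hx he
    exact ⟨d, hd, a.val, by rw [T.q_smul]⟩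
  · intro y hy hy1
    obtain ⟨v, hv, rfl⟩ := T.mem_Eg.1 hy
    set H := Subgroup.centralizer (hL.Og : Set G) ⊓ Subgroup.centralizer ({T.q v} : Set G) with hH
    have hc : ∀ x ∈ H, x * T.q v = T.q v * x := fun x hx => Subgroup.mem_centralizer_singleton_iff.1 hx.2
    have hneg : ∀ {u : V3} {x : G}, x * T.q (-u) = T.q (-u) * x → x * T.q u = T.q u * x := fun {u x} h => by
      have := (show Commute x (T.q (-u)) from h).inv_right.eq
      rwa [← T.q_neg, neg_neg] at this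
    have hdia : ∀ x : G, x * T.q dia = T.q dia * x → x ^ 648 = 1 := fun x hx => by
      rw [T.q_dia] at hx
      obtain ⟨m, rfl⟩ := T.cent_a.1 hx
      rw [← map_pow, orderOf_dvd_iff_pow_eq_one.1 (M.card_eq ▸ orderOf_dvd_natCard m), map_one]
    have hprime : ∀ x : G, x * T.q (1, 1, 2) = T.q (1, 1, 2) * x → x ^ 648 = 1 := fun x hx => by
      have h1 : hS.R * x * hS.R⁻¹ * T.q dia = T.q dia * (hS.R * x * hS.R⁻¹) := by
        rw [show T.q dia = hS.R * T.q (1, 1, 2) * hS.R⁻¹ by rw [hS.R_acts, ← fixed_basic.1, sgC_two]]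
        exact Conf.conj_commute hx
      have h2 := hdia _ h1
      rw [conj_pow, mul_inv_eq_one] at h2
      calc x ^ 648 = hS.R⁻¹ * (hS.R * x ^ 648) := by group
        _ = 1 := by rw [h2]; group
    have hsix : ∀ x ∈ H, x * T.q (0, 0, 1) = T.q (0, 0, 1) * x → x ^ 6 = 1 := fun x hx he => by
      obtain ⟨d, hd, a, rfl⟩ := hL.cent_axis hx.1 he
      have hcd : Commute d (T.q (a • (0, 0, 1))) := by
        rw [T.q_smul]
        exact ((show Commute d _ from hL.Og_cent hd)).pow_right _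
      rw [hcd.mul_pow, show 6 = 2 * 3 from rfl, pow_mul, pow_two, hL.Og_sq hd, one_pow, pow_mul', T.q_cube, one_pow,
        one_mul]
    rcases fixed_cases v hv (fun h => hy1 (by rw [h, T.q_zero])) with
      rfl | rfl | rfl | rfl | rfl | rfl | rfl | rfl
    · exact coprime_of_exp H (by norm_num) fun x hx => hdia x (hc x hx)
    · exact coprime_of_exp H (by norm_num) fun x hx => hdia x (hneg (hc x hx))
    · exact coprime_of_exp H (by norm_num) fun x hx => hprime x (hc x hx)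
    · exact coprime_of_exp H (by norm_num) fun x hx => hprime x (hneg (hc x hx))
    · exact coprime_of_exp H (by norm_num) fun x hx => hsix x hx (hc x hx)
    · exact coprime_of_exp H (by norm_num) fun x hx => hsix x hx (hneg (hc x hx))
    · exact coprime_of_exp H (n := 24) (by norm_num) fun x hx =>
        hS.pow_normalizer (hS.pair_cent (T.mem_centQ.2 (hc x hx))) axis_facts.2 (Or.inr (Or.inr rfl)) (hc x hx)
    · exact coprime_of_exp H (n := 24) (by norm_num) fun x hx =>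
        hS.pow_normalizer (hS.pair_cent (T.mem_centQ.2 (hneg (hc x hx)))) axis_facts.2 (Or.inr (Or.inr rfl))
          (hneg (hc x hx))

/-- A non-central element of the quaternion group centralising the subgroup brings the whole group. -/
theorem Qg_le_cent {q : G} (hq : q ∈ T.Qg) (hqc : q ∈ Subgroup.centralizer (hL.Og : Set G)) (h1 : q ≠ 1)
    (ht : q ≠ T.φ tm) : T.Qg ≤ Subgroup.centralizer (hL.Og : Set G) :=
  T.Qg_le (Subgroup.le_normalizer hL.axis_mem_cent) hq hqc h1 ht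

/-- The second quaternion group. -/
theorem Qr_le_cent (h : T.Qg ≤ Subgroup.centralizer (hL.Og : Set G)) : hS.Qr ≤ Subgroup.centralizer (hL.Og : Set G) :=
  fun x hx => by
    have h1 := Subgroup.mul_mem _ (Subgroup.mul_mem _ hL.R_mem_cent (h (hS.mem_Qr.1 hx))) hL.R_mem_cent
    rwa [show hS.R * (hS.R * x * hS.R) * hS.R = x by
      rw [← mul_assoc, ← mul_assoc, hS.R_invol, one_mul, mul_assoc, hS.R_invol, mul_one]] at h1

theorem card_Og : Nat.card hL.Og = 8 := by
  classical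
  rw [← Axis.inO_card, ← Fintype.card_coe, ← Nat.card_eq_fintype_card]
  refine (Nat.card_eq_of_bijective (fun σ => (⟨_, hL.lift_mem (Finset.mem_filter.1 σ.2).2⟩ : hL.Og)) ⟨?_, ?_⟩).symm
  · intro σ σ' h
    have h0 : (hL.lift σ.1 : G) = (hL.lift σ'.1 : G) := congrArg (fun z : hL.Og => (z : G)) h
    have h1 := congrArg hL.π (Subtype.ext h0 : hL.lift σ.1 = hL.lift σ'.1)
    rw [hL.π_lift (Axis.inO_sq _ (Finset.mem_filter.1 σ.2).2),
      hL.π_lift (Axis.inO_sq _ (Finset.mem_filter.1 σ'.2).2)] at h1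
    exact Subtype.ext h1
  · rintro ⟨_, σ, hσ, rfl⟩
    exact ⟨⟨σ, Finset.mem_filter.2 ⟨Finset.mem_univ _, hσ⟩⟩, rfl⟩

/-- When the quaternion group does not centralise the subgroup, neither does anything else of order prime to three. -/
theorem sig_fail (hfail : ¬ T.Qg ≤ Subgroup.centralizer (hL.Og : Set G)) :
    Nat.card (Subgroup.centralizer (hL.Og : Set G)) ∣ 48 := by
  obtain ⟨N, hON, hNC, hEN, -, hN3, hidx, -⟩ := hL.sig
  have hNt : N ≤ Subgroup.centralizer ({T.φ tm} : Set G) := fun x hx =>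
    Subgroup.mem_centralizer_singleton_iff.2 (Subgroup.mem_centralizer_iff.1 (hNC hx) _ hL.tm_Og).symm
  have hQ : ∀ x, x ∈ T.Qg → x ∈ Subgroup.centralizer (hL.Og : Set G) → x ∈ hL.Og := fun x hq hc => by
    by_cases h1 : x = 1
    · exact h1 ▸ hL.Og.one_mem
    by_cases ht : x = T.φ tm
    · exact ht ▸ hL.tm_Og
    exact absurd (hL.Qg_le_cent hq hc h1 ht) hfail
  have hNO : N ≤ hL.Og := hS.plane_gen hNt hN3 hEN (fun x hx => hS.pair_cent hx)
    (fun x ⟨hx, hq⟩ => hQ x hq (hNC hx))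
    (fun x ⟨hx, hr⟩ => by
      have h1 := Subgroup.mul_mem _ (Subgroup.mul_mem _ hL.R_mem_cent (hNC hx)) hL.R_mem_cent
      have h2 := hQ _ (hS.mem_Qr.1 hr) h1
      have h3 := hL.R_Og h2
      have h4 : x = hS.R * x * hS.R := by
        calc x = hS.R * (hS.R * x * hS.R) * hS.R := by
              rw [← mul_assoc, ← mul_assoc, hS.R_invol, one_mul, mul_assoc, hS.R_invol, mul_one]
          _ = hS.R * x * hS.R := by rw [h3, mul_assoc, hS.R_invol, mul_one]
      rw [h4]; exact h2)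
    (fun x ⟨hx, he⟩ => by
      obtain ⟨d, hd, a, rfl⟩ := hL.cent_axis (hNC hx) (Subgroup.mem_centralizer_singleton_iff.1 he)
      have h1 : T.q (a • (0, 0, 1)) ∈ N := by
        have := N.mul_mem (N.inv_mem (hON hd)) hx
        rwa [inv_mul_cancel_left] at this
      have h2 : orderOf (T.q (a • (0, 0, 1))) ∣ Nat.gcd (Nat.card N) 3 :=
        Nat.dvd_gcd (Subgroup.orderOf_dvd_natCard N h1) (orderOf_dvd_iff_pow_eq_one.2 (T.q_cube _))
      rw [hN3.gcd_eq_one, Nat.dvd_one, orderOf_eq_one_iff] at h2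
      rw [h2, mul_one]
      exact hd)
  rw [le_antisymm hNO hON, hL.card_Og] at hidx
  exact hidx

end Signed.Label

end Conf

end Cfsg.Agent.Lie.PSpFourThreeFull
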