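import Cfsg.Agent.Lib.Lie.PSpFourThreeFull.Refl
import Cfsg.Agent.Lib.Lie.PSpFourThreeFull.SelfThree
import Cfsg.Agent.Lib.Lie.PSpFourThreeFull.PlaneFacts

/-!
Centralisers and normalisers of the subgroups of order nine.
-/

set_option autoImplicit false
set_option linter.unusedSectionVars false
set_option maxRecDepth 100000
set_option synthInstance.maxSize 4000
set_option synthInstance.maxHeartbeats 400000

namespace Cfsg.Agent.Lie.PSpFourThreeFull

open Cfsg.Agent.Lie.PSpFourThreeAmalgam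
open Cfsg.Agent.Small.ShapeThree (M)

namespace Conf

variable {G : Type*} [Group G] [Finite G] (T : Conf G)

theorem q_smul (a : ZMod 3) (v : V3) : T.q (a • v) = T.q v ^ a.val := by
  conv_lhs => rw [← ZMod.natCast_zmod_val a, Nat.cast_smul_eq_nsmul]
  induction a.val with
  | zero => rw [zero_smul, T.q_zero, pow_zero]
  | succ n ih => rw [succ_nsmul, T.q_add, ih, pow_succ]

theorem comm_comb {g : G} {v w : V3} (hv : g * T.q v = T.q v * g) (hw : g * T.q w = T.q w * g) (a b : ZMod 3) :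
    g * T.q (a • v + b • w) = T.q (a • v + b • w) * g := by
  rw [T.q_add, T.q_smul, T.q_smul]
  exact (((show Commute g (T.q v) from hv).pow_right _).mul_right ((show Commute g (T.q w) from hw).pow_right _)).eq

theorem acts_conj_comm {g h : G} {f : V3 → V3} (hh : T.Acts h f) {v : V3} (hv : g * T.q v = T.q v * g) :
    h * g * h⁻¹ * T.q (f v) = T.q (f v) * (h * g * h⁻¹) := by
  rw [← hh]
  calc h * g * h⁻¹ * (h * T.q v * h⁻¹) = h * (g * T.q v) * h⁻¹ := by group
    _ = _ := by rw [hv]; group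

namespace Signed

variable {T} (hS : T.Signed)
include hS

theorem exists_acts (p : Fin 24 × Bool) : ∃ g, T.Acts g (smap p) := by
  obtain ⟨i, b⟩ := p
  cases b
  · obtain ⟨g, -, hg⟩ := hS.neg i
    exact ⟨g, fun v => (hg v).trans (congrArg T.q (by simp [smap]))⟩
  · obtain ⟨g, -, hg⟩ := hS.pos i
    exact ⟨g, fun v => (hg v).trans (congrArg T.q (by simp [smap]))⟩

theorem acts_smap {g : G} (hg : g ∈ Subgroup.normalizer (T.J : Set G)) : ∃ p, T.Acts g (smap p) := by
  obtain ⟨i, h | h⟩ := hS.dir g hg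
  · exact ⟨(i, true), fun v => (h v).trans (congrArg T.q (by simp [smap]))⟩
  · exact ⟨(i, false), fun v => (h v).trans (congrArg T.q (by simp [smap]))⟩

/-- The centraliser of the first two axes normalises the subgroup. -/
theorem axes_cent {g : G} (h1 : g * T.q (1, 0, 0) = T.q (1, 0, 0) * g) (h2 : g * T.q (0, 1, 0) = T.q (0, 1, 0) * g) :
    g ∈ Subgroup.normalizer (T.J : Set G) := by
  haveI : Fact (Nat.Prime 3) := ⟨Nat.prime_three⟩
  set X := Subgroup.centralizer ({T.q (1, 0, 0), T.q (0, 1, 0)} : Set G) with hX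
  have hmX : ∀ x, x ∈ X ↔ x * T.q (1, 0, 0) = T.q (1, 0, 0) * x ∧ x * T.q (0, 1, 0) = T.q (0, 1, 0) * x := by
    intro x
    rw [hX, Subgroup.mem_centralizer_iff]
    exact ⟨fun h => ⟨(h _ (Or.inl rfl)).symm, (h _ (Or.inr rfl)).symm⟩,
      fun h y hy => by rcases hy with rfl | rfl; exacts [h.1.symm, h.2.symm]⟩
  have hxy : ∀ x ∈ X, ∀ a b : ZMod 3, x * T.q (a, b, 0) = T.q (a, b, 0) * x := by
    intro x hx a b
    have h := T.comm_comb ((hmX x).1 hx).1 ((hmX x).1 hx).2 a b
    rwa [show a • ((1, 0, 0) : V3) + b • (0, 1, 0) = (a, b, 0) by simp] at h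
  have hJX : T.J ≤ X := fun x hx => (hmX x).2 ⟨T.J_comm hx (T.q_mem _), T.J_comm hx (T.q_mem _)⟩
  let ι : Multiplicative (ZMod 3 × ZMod 3) →* X := MonoidHom.mk' (fun x => ⟨T.q (x.toAdd.1, x.toAdd.2, 0), hJX (T.q_mem _)⟩)
    fun x y => Subtype.ext (by simp [← T.q_add])
  set P := ι.range with hP
  have hPc : Nat.card P = 9 := by
    rw [hP, ← Nat.card_congr (MonoidHom.ofInjective (f := ι) fun x y h => by
      have h1 := T.q_inj (congrArg Subtype.val h)
      simp only [Prod.mk.injEq, and_true] at h1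
      exact Prod.ext h1.1 h1.2).toEquiv, Nat.card_congr Multiplicative.toAdd, Nat.card_prod, Nat.card_zmod]
  have hPmem : ∀ a b, (⟨T.q (a, b, 0), hJX (T.q_mem _)⟩ : X) ∈ P := fun a b => ⟨Multiplicative.ofAdd (a, b), rfl⟩
  have hPcen : P ≤ Subgroup.center X := by
    rintro _ ⟨x, rfl⟩
    exact Subgroup.mem_center_iff.2 fun y => Subtype.ext (hxy y y.2 _ _)
  haveI hPn : P.Normal := ⟨fun x hx y => by rwa [Subgroup.mem_center_iff.1 (hPcen hx) y, mul_inv_cancel_right]⟩
  let z : X := ⟨T.q (0, 0, 1), hJX (T.q_mem _)⟩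
  set zb : X ⧸ P := QuotientGroup.mk z
  have hz3 : zb ^ 3 = 1 := by
    rw [← QuotientGroup.mk_pow, show z ^ 3 = 1 from Subtype.ext (by simpa [z] using T.q_cube (0, 0, 1))]
    rfl
  have hz1 : zb ≠ 1 := fun h => by
    obtain ⟨x, hx⟩ := (QuotientGroup.eq_one_iff z).1 h
    have h1 := congrArg Prod.snd (congrArg Prod.snd (T.q_inj (congrArg Subtype.val hx)))
    exact absurd h1 (by simp)
  have hCz : ∀ gb : X ⧸ P, gb * zb = zb * gb → gb ∈ Subgroup.zpowers zb := by
    intro gb hg
    induction gb using QuotientGroup.induction_on with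
    | H x =>
      rw [← QuotientGroup.mk_mul, ← QuotientGroup.mk_mul] at hg
      obtain ⟨w, hw⟩ := (QuotientGroup.eq).1 hg.symm
      have hw' : (x : G) * T.q (0, 0, 1) * (x : G)⁻¹ = T.q (w.toAdd.1, w.toAdd.2, 1) := by
        have h1 : T.q (w.toAdd.1, w.toAdd.2, 0) = ((z * x)⁻¹ * (x * z) : X) := congrArg Subtype.val hw
        simp only [Subgroup.coe_mul, Subgroup.coe_inv, z] at h1
        rw [show ((w.toAdd.1, w.toAdd.2, 1) : V3) = (0, 0, 1) + (w.toAdd.1, w.toAdd.2, 0) by simp, T.q_add,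
          mul_inv_eq_iff_eq_mul, mul_assoc (T.q (0, 0, 1)), ← hxy x x.2, h1]
        group
      have hN : (x : G) ∈ Subgroup.normalizer (T.J : Set G) := by
        rw [Subgroup.mem_normalizer_iff_map_conj_eq]
        refine Subgroup.eq_of_le_of_card_ge ?_ (by rw [Subgroup.card_map_of_injective (MulEquiv.injective _)])
        rintro _ ⟨y, hy, rfl⟩
        obtain ⟨v, rfl⟩ := T.mem_J.1 hy
        show (x : G) * T.q v * (x : G)⁻¹ ∈ T.J
        rw [third_split v, T.q_add, ← conj_mul, show ((0, 0, v.2.2) : V3) = v.2.2 • (0, 0, 1) by simp, T.q_smul,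
          ← conj_pow, hw', hxy x x.2 v.1 v.2.1, mul_inv_cancel_right]
        exact T.J.mul_mem (T.q_mem _) (T.J.pow_mem (T.q_mem _) _)
      obtain ⟨p, hp⟩ := hS.acts_smap hN
      have e1 : smap p (1, 0, 0) = (1, 0, 0) := (Acts.comm_iff T hp).1 ((hmX x).1 x.2).1
      have e2 : smap p (0, 1, 0) = (0, 1, 0) := (Acts.comm_iff T hp).1 ((hmX x).1 x.2).2
      have e3 := T.q_inj ((hp (0, 0, 1)).symm.trans hw')
      obtain ⟨v, hv⟩ := T.mem_J.1 (T.mem_J_of_acts (show T.Acts (x : G) id from fun u => by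
        rw [hp u, smap_fix_plane p e1 e2 _ _ e3 u]; rfl))
      refine Subgroup.mem_zpowers_iff.2 ⟨(v.2.2.val : ℕ), ?_⟩
      rw [zpow_natCast, ← QuotientGroup.mk_pow]
      refine QuotientGroup.eq.2 ?_
      convert hPmem v.1 v.2.1
      simp only [Subgroup.coe_mul, Subgroup.coe_inv, SubgroupClass.coe_pow, z, ← hv]
      rw [← T.q_smul, inv_mul_eq_iff_eq_mul, ← T.q_add]
      congr 1
      simp [Prod.ext_iff]
  -- no subgroup of order prime to three of the quotient is normalised by the third axis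
  have key : ∀ V : Subgroup (X ⧸ P), (Nat.card V).Coprime 3 → zb ∈ Subgroup.normalizer (V : Set (X ⧸ P)) → V = ⊥ := by
    intro V hV hzV
    set Vh := V.comap (QuotientGroup.mk' P) with hVh
    have hPV : P ≤ Vh := fun x hx => by
      show QuotientGroup.mk' P x ∈ V
      rw [show QuotientGroup.mk' P x = 1 from (QuotientGroup.eq_one_iff x).2 hx]
      exact V.one_mem
    have hPc' : Nat.card (P.subgroupOf Vh) = 9 := by
      rw [Nat.card_congr (Subgroup.subgroupOfEquivOfLe hPV).toEquiv, hPc]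
    have hidx : (P.subgroupOf Vh).index = Nat.card V := by
      show P.relIndex Vh = _
      have h := Subgroup.relIndex_ker (f := QuotientGroup.mk' P) Vh
      rw [QuotientGroup.ker_mk'] at h
      rw [h, hVh, Subgroup.map_comap_eq_self_of_surjective (QuotientGroup.mk'_surjective P)]
    obtain ⟨K, hK, hKc⟩ := central_complement (P.subgroupOf Vh)
      (fun x hx => Subgroup.mem_center_iff.2 fun y => Subtype.ext (Subgroup.mem_center_iff.1 (hPcen hx) (y : X)))
      (by rw [hPc', hidx, show (9 : ℕ) = 3 ^ 2 from rfl]; exact (hV.symm).pow_left 2)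
    have hb : (K.map Vh.subtype).map X.subtype = ⊥ := by
      refine T.sig _ ?_ fun j hj => ?_
      · rw [Subgroup.card_map_of_injective X.subtype_injective, Subgroup.card_map_of_injective Vh.subtype_injective,
          hKc, hidx]
        exact hV
      · obtain ⟨v, rfl⟩ := T.mem_J.1 hj
        set jj : X := ⟨T.q v, hJX (T.q_mem v)⟩
        have hjb : QuotientGroup.mk' P jj = zb ^ v.2.2.val := by
          rw [QuotientGroup.mk'_apply, ← QuotientGroup.mk_pow]
          refine QuotientGroup.eq.2 ?_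
          convert hPmem (-v.1) (-v.2.1)
          simp only [Subgroup.coe_mul, Subgroup.coe_inv, SubgroupClass.coe_pow, z, jj]
          rw [← T.q_smul, inv_mul_eq_iff_eq_mul, ← T.q_add]
          congr 1
          simp [Prod.ext_iff]
        have hjV : jj ∈ Subgroup.normalizer (Vh : Set X) := by
          rw [Subgroup.mem_normalizer_iff]
          intro y
          show QuotientGroup.mk' P y ∈ V ↔ QuotientGroup.mk' P (jj * y * jj⁻¹) ∈ V
          rw [map_mul, map_mul, map_inv, hjb]
          exact Subgroup.mem_normalizer_iff.1 (Subgroup.pow_mem _ hzV _) _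
        rw [Subgroup.mem_normalizer_iff_map_conj_eq]
        refine Subgroup.eq_of_le_of_card_ge ?_ (le_of_eq ?_)
        swap
        · exact (Subgroup.card_map_of_injective (f := (MulAut.conj (T.q v)).toMonoidHom)
            (MulEquiv.injective (MulAut.conj (T.q v)))).symm
        rintro _ ⟨_, ⟨_, ⟨x, hx, rfl⟩, rfl⟩, rfl⟩
        refine ⟨_, ⟨⟨jj * x * jj⁻¹, (Subgroup.mem_normalizer_iff.1 hjV _).1 x.2⟩, (hK _).2 ?_, rfl⟩, rfl⟩
        refine Subtype.ext ?_
        rw [SubgroupClass.coe_pow, conj_pow, ← SubgroupClass.coe_pow, (hK x).1 hx]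
        simp
    rw [Subgroup.map_eq_bot_iff_of_injective _ X.subtype_injective,
      Subgroup.map_eq_bot_iff_of_injective _ Vh.subtype_injective] at hb
    rw [hb, Subgroup.card_bot, hidx] at hKc
    exact Subgroup.eq_bot_of_card_eq _ hKc.symm
  -- conclusion
  rcases self_three hz3 hz1 hCz with ⟨N, hN, -, hNco, hNc, -⟩ | ⟨⟨V, hV1, hVc, hVz⟩, -⟩
  · have hNb := key N hNco (by rw [Subgroup.normalizer_eq_top_iff.2 hN]; exact Subgroup.mem_top _)
    rw [hNb, Subgroup.card_bot] at hNc
    have hXc : Nat.card X = Nat.card (X ⧸ P) * 9 := by rw [Subgroup.card_eq_card_quotient_mul_card_subgroup P, hPc]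
    have hi := (T.J.subgroupOf X).card_mul_index
    rw [Nat.card_congr (Subgroup.subgroupOfEquivOfLe hJX).toEquiv, T.card_J, hXc] at hi
    have hn : (T.J.subgroupOf X).Normal := by
      rcases hNc with h | h <;> rw [h] at hi
      · rw [Subgroup.index_eq_one.1 (by omega : (T.J.subgroupOf X).index = 1)]
        infer_instance
      · exact Subgroup.normal_of_index_eq_two (by omega)
    rw [Subgroup.mem_normalizer_iff]
    have hgX : g ∈ X := (hmX g).2 ⟨h1, h2⟩
    intro y
    refine ⟨fun hy => Subgroup.mem_subgroupOf.1 (hn.conj_mem ⟨y, hJX hy⟩ (Subgroup.mem_subgroupOf.2 hy) ⟨g, hgX⟩),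
      fun hy => ?_⟩
    have := Subgroup.mem_subgroupOf.1 (hn.conj_mem ⟨_, hJX hy⟩ (Subgroup.mem_subgroupOf.2 hy) ⟨g⁻¹, X.inv_mem hgX⟩)
    simpa [mul_assoc] using this
  · exact absurd (key V hVc hVz) hV1

/-- The centraliser of two independent elements normalises the subgroup. -/
theorem plane_cent {g : G} {v w : V3} (hvw : indep v w) (hv : g * T.q v = T.q v * g)
    (hw : g * T.q w = T.q w * g) : g ∈ Subgroup.normalizer (T.J : Set G) := by
  have back : ∀ {h : G} {f : V3 → V3}, T.Acts h f → h * g * h⁻¹ ∈ Subgroup.normalizer (T.J : Set G) →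
      g ∈ Subgroup.normalizer (T.J : Set G) := fun {h f} hh hN => by
    have h1 := Acts.mem_normalizer T hh
    have h2 := Subgroup.mul_mem _ (Subgroup.mul_mem _ (Subgroup.inv_mem _ h1) hN) h1
    rwa [show h⁻¹ * (h * g * h⁻¹) * h = g by group] at h2
  rcases plane_span v w hvw with ⟨a, b, n1, n2, n3⟩ | ⟨i, j, hij, ⟨a, b, e1⟩, ⟨c, d, e2⟩⟩
  · obtain ⟨p, hp⟩ := smap_dia _ n1 n2 n3
    obtain ⟨h, hh⟩ := hS.exists_acts p
    have hk1 := T.acts_conj_comm hh (T.comm_comb hv hw a b)
    rw [hp, T.q_dia] at hk1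
    refine back hh ?_
    have hne : ∀ {x : V3}, x ≠ 0 → x ≠ a • v + b • w → x ≠ -(a • v + b • w) →
        smap p x ≠ 0 ∧ smap p x ≠ dia ∧ smap p x ≠ -dia := by
      intro x h0 h1 h2
      refine ⟨fun h => ?_, fun h => h1 (smap_inj p _ _ (h.trans hp.symm)), fun h => h2 ?_⟩
      · refine h0 (smap_inj p _ _ (h.trans ?_))
        have := smap_add p 0 0
        rw [add_zero, left_eq_add] at this
        exact this.symm
      · refine smap_inj p _ _ (h.trans ?_)
        have h3 := smap_add p (-(a • v + b • w)) (a • v + b • w)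
        have h4 : smap p 0 = 0 := by
          have := smap_add p 0 0
          rwa [add_zero, left_eq_add] at this
        rw [neg_add_cancel, h4, hp] at h3
        exact (eq_neg_of_add_eq_zero_left h3.symm).symm
    rcases smap_second v w hvw (a • v + b • w) with ⟨e, e'⟩ | ⟨e, e'⟩
    · obtain ⟨h0, h1, h2⟩ := hne (indep_ne v w hvw).1 e e'
      obtain ⟨m, k, -, hk⟩ := T.normalises_of_plane hk1 h0 h1 h2 (T.acts_conj_comm hh hv)
      exact Acts.mem_normalizer T hk
    · obtain ⟨h0, h1, h2⟩ := hne (indep_ne v w hvw).2 e e'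
      obtain ⟨m, k, -, hk⟩ := T.normalises_of_plane hk1 h0 h1 h2 (T.acts_conj_comm hh hw)
      exact Acts.mem_normalizer T hk
  · obtain ⟨p, hp1, hp2⟩ := smap_axes i j hij
    obtain ⟨h, hh⟩ := hS.exists_acts p
    have hk1 := T.acts_conj_comm hh (T.comm_comb hv hw a b)
    have hk2 := T.acts_conj_comm hh (T.comm_comb hv hw c d)
    rw [e1, hp1] at hk1
    rw [e2, hp2] at hk2
    exact back hh (hS.axes_cent hk1 hk2)

/-- The normaliser of such a plane normalises the subgroup. -/
theorem plane_conj {g : G} {v w v' w' : V3} (hvw : indep v w) (hv : g * T.q v * g⁻¹ = T.q v')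
    (hw : g * T.q w * g⁻¹ = T.q w') : g ∈ Subgroup.normalizer (T.J : Set G) := by
  have key : ∀ x ∈ T.J, g⁻¹ * x * g ∈ T.J := by
    intro x hx
    have hc : ∀ {u u' : V3}, g * T.q u * g⁻¹ = T.q u' → g⁻¹ * x * g * T.q u = T.q u * (g⁻¹ * x * g) := by
      intro u u' h
      have h1 := T.J_comm hx (h ▸ T.q_mem u')
      calc g⁻¹ * x * g * T.q u = g⁻¹ * (x * (g * T.q u * g⁻¹)) * g := by group
        _ = _ := by rw [h1]; group
    obtain ⟨p, hp⟩ := hS.acts_smap (hS.plane_cent hvw (hc hv) (hc hw))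
    have h3 : (g⁻¹ * x * g) ^ 3 = 1 := by
      obtain ⟨u, rfl⟩ := T.mem_J.1 hx
      rw [show (g⁻¹ * T.q u * g) = g⁻¹ * T.q u * g⁻¹⁻¹ by group, conj_pow, T.q_cube]
      group
    have hfix := smap_three v w hvw p ((Acts.comm_iff T hp).1 (hc hv)) ((Acts.comm_iff T hp).1 (hc hw)) fun u =>
      T.q_inj (by
        have h4 := Acts.mul T (Acts.mul T hp hp) hp u
        rw [← h4, ← pow_two, ← pow_succ, h3]
        simp)
    exact T.mem_J_of_acts fun u => by rw [hp u, hfix u]; rfl
  rw [← inv_inv g]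
  refine Subgroup.inv_mem _ ?_
  rw [Subgroup.mem_normalizer_iff_map_conj_eq]
  refine Subgroup.eq_of_le_of_card_ge ?_ (by rw [Subgroup.card_map_of_injective (MulEquiv.injective _)])
  rintro _ ⟨x, hx, rfl⟩
  show g⁻¹ * x * g⁻¹⁻¹ ∈ T.J
  rw [inv_inv]
  exact key x hx

end Signed

end Conf

end Cfsg.Agent.Lie.PSpFourThreeFull
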