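import Mathlib.GroupTheory.Transfer
import Mathlib.GroupTheory.Nilpotent

/-!
A normal complement of a self-centralising subgroup of order three that is not inverted.
-/

set_option autoImplicit false
set_option linter.unusedSectionVars false
set_option linter.style.haveILetI false

namespace Cfsg.Agent.Lie.PSpFourThreeFull

/-- Burnside's transfer for a subgroup of order three. -/
theorem three_complement {G : Type*} [Group G] [Finite G] (X : Subgroup G) {a : G} (haX : a ∈ X) (ha : a ^ 3 = 1)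
    (ha1 : a ≠ 1) (hcent : ∀ x ∈ X, x * a = a * x → (∃ n : ℕ, x ^ 3 ^ n = 1) → x ∈ Subgroup.zpowers a)
    (hinv : ∀ x ∈ X, x * a * x⁻¹ ≠ a⁻¹) :
    ∃ K : Subgroup G, (∀ x, x ∈ K ↔ x ∈ X ∧ (orderOf x).Coprime 3) ∧ (Nat.card K).Coprime 3 ∧
      Nat.card X = 3 * Nat.card K := by
  classical
  haveI : Fact (Nat.Prime 3) := ⟨Nat.prime_three⟩
  set a' : X := ⟨a, haX⟩ with ha'
  set P₀ := Subgroup.zpowers a' with hP₀
  have ha3 : a' ^ 3 = 1 := Subtype.ext ha
  have hor : orderOf a' = 3 := orderOf_eq_prime ha3 fun h => ha1 (congrArg Subtype.val h)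
  have hc3 : Nat.card P₀ = 3 := by rw [Nat.card_zpowers, hor]
  have hmem : ∀ x : X, (x : G) ∈ Subgroup.zpowers a ↔ x ∈ P₀ := fun x => by
    constructor
    · rintro ⟨k, hk⟩
      exact ⟨k, Subtype.ext (by rw [SubgroupClass.coe_zpow]; exact hk)⟩
    · rintro ⟨k, rfl⟩
      exact ⟨k, (SubgroupClass.coe_zpow a' k).symm⟩
  have hnorm : ∀ x : X, x ∈ Subgroup.normalizer (P₀ : Set X) → (x : G) * a = a * (x : G) := by
    intro x hx
    obtain ⟨k, hk⟩ := (hmem _).2 ((Subgroup.mem_normalizer_iff.1 hx a').1 (Subgroup.mem_zpowers _))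
    have hk3 : a ^ k = a ^ (k % 3) := by
      conv_lhs => rw [← Int.mul_ediv_add_emod k 3, zpow_add, zpow_mul, show a ^ (3 : ℤ) = 1 from by exact_mod_cast ha,
        one_zpow, one_mul]
    have hk' : a ^ (k % 3) = (x : G) * a * (x : G)⁻¹ := hk3.symm.trans hk
    have := Int.emod_nonneg k (show (3 : ℤ) ≠ 0 by norm_num)
    have := Int.emod_lt_of_pos k (show (0 : ℤ) < 3 by norm_num)
    rcases (by omega : k % 3 = 0 ∨ k % 3 = 1 ∨ k % 3 = 2) with e | e | e <;> rw [e] at hk'
    · exact absurd (conj_eq_one_iff.1 (hk'.symm.trans (zpow_zero _))) ha1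
    · rw [zpow_one] at hk'
      exact mul_inv_eq_iff_eq_mul.1 hk'.symm
    · refine absurd (hk'.symm.trans (eq_inv_of_mul_eq_one_left ?_)) (hinv x x.2)
      rw [← zpow_add_one]
      exact_mod_cast ha
  obtain ⟨P, hP⟩ := (IsPGroup.of_card (n := 1) (by rw [hc3]; norm_num) : IsPGroup 3 P₀).exists_le_sylow
  have hPe : (P : Subgroup X) = P₀ := by
    by_contra hne
    haveI : Group.IsNilpotent (P : Subgroup X) := P.2.isNilpotent
    have hlt : P₀.subgroupOf P < ⊤ := lt_top_iff_ne_top.2 fun e =>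
      hne (le_antisymm (Subgroup.subgroupOf_eq_top.1 e) hP)
    obtain ⟨x, hxN, hxP⟩ := SetLike.exists_of_lt (Group.normalizerCondition_of_isNilpotent _ hlt)
    have hxN' : (x : X) ∈ Subgroup.normalizer (P₀ : Set X) := by
      rw [Subgroup.mem_normalizer_iff]
      intro y
      refine ⟨fun hy => Subgroup.mem_subgroupOf.1 ((Subgroup.mem_normalizer_iff.1 hxN ⟨y, hP hy⟩).1
        (Subgroup.mem_subgroupOf.2 hy)), fun hy => ?_⟩
      have hyP : y ∈ (P : Subgroup X) := by
        have := (P : Subgroup X).mul_mem ((P : Subgroup X).mul_mem ((P : Subgroup X).inv_mem x.2) (hP hy)) x.2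
        simpa [mul_assoc] using this
      exact Subgroup.mem_subgroupOf.1 ((Subgroup.mem_normalizer_iff.1 hxN ⟨y, hyP⟩).2
        (Subgroup.mem_subgroupOf.2 hy))
    obtain ⟨n, hn⟩ := P.2 x
    refine hxP (Subgroup.mem_subgroupOf.2 ((hmem _).1 (hcent _ (x : X).2 (hnorm _ hxN') ⟨n, ?_⟩)))
    exact congrArg (fun z : (P : Subgroup X) => ((z : X) : G)) hn
  have hle : Subgroup.normalizer ((P : Subgroup X) : Set X) ≤ Subgroup.centralizer ((P : Subgroup X) : Set X) := by
    intro x hx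
    rw [hPe] at hx ⊢
    refine Subgroup.mem_centralizer_iff.2 fun y hy => ?_
    obtain ⟨k, rfl⟩ := hy
    exact (Commute.zpow_left (show Commute a' x from Subtype.ext (hnorm x hx).symm) k).eq
  set K₀ := (MonoidHom.transferSylow P hle).ker with hK₀
  have hnd : ¬ 3 ∣ Nat.card K₀ := MonoidHom.not_dvd_card_ker_transferSylow P hle
  have hcomp := (MonoidHom.ker_transferSylow_isComplement' P hle).card_mul
  rw [← hK₀, hPe, hc3] at hcomp
  refine ⟨K₀.map X.subtype, fun x => ⟨?_, ?_⟩, ?_, by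
    rw [Subgroup.card_map_of_injective X.subtype_injective, mul_comm, hcomp]⟩
  · rintro ⟨y, hy, rfl⟩
    refine ⟨y.2, ?_⟩
    rw [Subgroup.coe_subtype, Subgroup.orderOf_coe]
    exact ((Nat.prime_three.coprime_iff_not_dvd.2 hnd).symm).coprime_dvd_left (Subgroup.orderOf_dvd_natCard K₀ hy)
  · rintro ⟨hxX, hx3⟩
    refine ⟨⟨x, hxX⟩, ?_, rfl⟩
    haveI : K₀.Normal := MonoidHom.normal_ker _
    have h1 : (QuotientGroup.mk ⟨x, hxX⟩ : X ⧸ K₀) ^ 3 = 1 := by
      have h2 : Nat.card (X ⧸ K₀) = 3 := by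
        have := Subgroup.card_eq_card_quotient_mul_card_subgroup K₀
        rw [← hcomp, mul_comm] at this
        exact (Nat.eq_of_mul_eq_mul_right Nat.card_pos this).symm
      rw [← h2]
      exact pow_card_eq_one'
    have h4 : orderOf (QuotientGroup.mk ⟨x, hxX⟩ : X ⧸ K₀) ∣ Nat.gcd (orderOf x) 3 := by
      refine Nat.dvd_gcd ?_ (orderOf_dvd_iff_pow_eq_one.2 h1)
      rw [← Subgroup.orderOf_mk x hxX]
      exact orderOf_map_dvd (QuotientGroup.mk' K₀) _
    rw [hx3.gcd_eq_one, Nat.dvd_one, orderOf_eq_one_iff, QuotientGroup.eq_one_iff] at h4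
    exact h4
  · rw [Subgroup.card_map_of_injective X.subtype_injective]
    exact (Nat.prime_three.coprime_iff_not_dvd.2 hnd).symm

end Cfsg.Agent.Lie.PSpFourThreeFull
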