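import Cfsg.Agent.Lib.Lie.PSpFourThreeFull.Quat
import Cfsg.Agent.Lib.Lie.PSpFourThreeFull.ThreeComplement

/-!
The centraliser of the first quaternion subgroup.
-/

set_option autoImplicit false
set_option linter.unusedSectionVars false
set_option linter.style.haveILetI false
set_option maxRecDepth 100000
set_option synthInstance.maxSize 4000
set_option synthInstance.maxHeartbeats 400000

namespace Cfsg.Agent.Lie.PSpFourThreeFull

open Cfsg.Agent.Lie.PSpFourThreeAmalgam
open Cfsg.Agent.Small.ShapeThree (M omega S)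

theorem sgC_neg_comm : ∀ v : V3, sgC (-v) = -(sgC v) := by decide +kernel

theorem mT_neg_v : ∀ v : V3, mT (-v) = -(mT v) := by decide +kernel

theorem double_neg_mT : ∀ v : V3, mT (-(mT (-v))) = v ∧ sgC (-(sgC (-v))) = v := by decide +kernel

theorem mT_shift : ∀ u : V3, mT u = -u → mT (-u) + u = -u := by decide +kernel

theorem id_neg : ∃ i, ∀ v, act i v = v := ⟨0, by decide +kernel⟩

theorem v3_arith : ∀ u : V3, (-u = u → u = 0) ∧ (mT u = -u → -u + -(mT (-u)) = -u + -u ∧ -u + -u = u) ∧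
    (sgC u = -u → mT u = u → mT (-u) = -u ∧ sgC (-u) + u = u + u ∧ u + u = -u) := by decide +kernel

namespace Conf

variable {G : Type*} [Group G] [Finite G] (T : Conf G)

/-- Conjugation of a centralising relation. -/
theorem conj_commute {g x y : G} (h : x * y = y * x) :
    g * x * g⁻¹ * (g * y * g⁻¹) = g * y * g⁻¹ * (g * x * g⁻¹) := by rw [conj_mul, conj_mul, h]

theorem tm_conj : ∀ v, T.φ tm * T.q v = T.q (mT v) * T.φ tm := fun _ => Acts.comm T T.tm_acts

namespace Signed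

variable {T} (hS : T.Signed)
include hS

/-- An involution inverting the elementary subgroup, commuting with the involution and the reflection. -/
theorem exists_neg : ∃ z, T.Acts z (fun v => -v) ∧ z * z = 1 ∧ z * T.φ tm = T.φ tm * z ∧ z * hS.R = hS.R * z := by
  set t := T.φ tm with ht
  have htt := T.tm_invol
  obtain ⟨i, hi⟩ := id_neg
  obtain ⟨g, -, hg⟩ := hS.neg i
  have hg' : T.Acts g (fun v => -v) := fun v => by rw [hg, hi]
  obtain ⟨u₀, hu₀⟩ := T.mem_J.1 (T.mem_J_of_acts (show T.Acts (g * g) id from fun v =>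
    (Acts.mul T hg' hg' v).trans (congrArg T.q (neg_neg v))))
  have hu0 : u₀ = 0 := (v3_arith u₀).1 ((Acts.comm_iff T hg').1 (by rw [hu₀, mul_assoc]))
  subst hu0
  rw [T.q_zero] at hu₀
  have hgi : g⁻¹ = g := inv_eq_of_mul_eq_one_right hu₀.symm
  obtain ⟨u, hu⟩ := T.mem_J.1 (T.mem_J_of_acts (show T.Acts (t * g * t * g) id from fun v => by
    rw [Acts.mul T (Acts.mul T (Acts.mul T T.tm_acts hg') T.tm_acts) hg' v]
    exact congrArg T.q (double_neg_mT v).1))
  have hmu : mT u = -u := T.q_inj (by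
    rw [← T.tm_acts u, T.q_neg, hu, ← ht]
    calc t * (t * g * t * g) * t⁻¹ = (t * t) * g * t * g * t⁻¹ := by group
      _ = _ := by
        have hti : t⁻¹ = t := inv_eq_of_mul_eq_one_right T.tm_invol
        rw [show t * t = 1 from T.tm_invol, one_mul]
        simp only [mul_inv_rev, hgi, hti, mul_assoc])
  obtain ⟨e1, e2⟩ := (v3_arith u).2.1 hmu
  set g' := T.q (-u) * g with hg'def
  have hga : T.Acts g' (fun v => -v) := fun v => Acts.mul T (T.acts_of_mem (T.q_mem _)) hg' v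
  have hg2 : g' * g' = 1 := by
    rw [hg'def, show T.q (-u) * g * (T.q (-u) * g) = T.q (-u) * (g * T.q (-u)) * g by group, Acts.comm T hg',
      neg_neg, show T.q (-u) * (T.q u * g) * g = T.q (-u) * T.q u * (g * g) by group, ← hu₀, mul_one, ← T.q_add,
      neg_add_cancel, T.q_zero]
  have htg : t * g = T.q u * g * t := by
    rw [hu]
    simp only [mul_assoc]
    rw [← mul_assoc g g, ← hu₀, one_mul, htt, mul_one]
  have hg't : g' * t = t * g' := by
    rw [hg'def, show t * (T.q (-u) * g) = T.q (mT (-u)) * (t * g) by rw [← mul_assoc, T.tm_conj, mul_assoc], htg,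
      show T.q (mT (-u)) * (T.q u * g * t) = T.q (mT (-u)) * T.q u * g * t by group, ← T.q_add,
      mT_shift u hmu]
  -- now the reflection
  obtain ⟨w, hw⟩ := T.mem_J.1 (T.mem_J_of_acts (show T.Acts (hS.R * g' * hS.R * g') id from fun v => by
    rw [Acts.mul T (Acts.mul T (Acts.mul T hS.R_acts hga) hS.R_acts) hga v]
    exact congrArg T.q (double_neg_mT v).2))
  have hg'i : g'⁻¹ = g' := inv_eq_of_mul_eq_one_right hg2
  have hsw : sgC w = -w := T.q_inj (by
    rw [← hS.R_acts w, T.q_neg, hw]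
    calc hS.R * (hS.R * g' * hS.R * g') * hS.R⁻¹ = (hS.R * hS.R) * g' * hS.R * g' * hS.R⁻¹ := by group
      _ = _ := by rw [hS.R_invol, one_mul]; simp only [mul_inv_rev, hg'i, hS.R_inv, mul_assoc])
  have htw : mT w = w := (Acts.comm_iff T T.tm_acts).1 (by
    have hc : Commute t (hS.R * g' * hS.R * g') :=
      (((show Commute t hS.R from hS.R_tm.symm).mul_right (show Commute t g' from hg't.symm)).mul_right
        hS.R_tm.symm).mul_right hg't.symm
    rw [hw]
    exact hc.eq)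
  obtain ⟨f1, f2, f3⟩ := (v3_arith w).2.2 hsw htw
  refine ⟨T.q (-w) * g', fun v => Acts.mul T (T.acts_of_mem (T.q_mem _)) hga v, ?_, ?_, ?_⟩
  · rw [show T.q (-w) * g' * (T.q (-w) * g') = T.q (-w) * (g' * T.q (-w)) * g' by group, Acts.comm T hga, neg_neg,
      show T.q (-w) * (T.q w * g') * g' = T.q (-w) * T.q w * (g' * g') by group, hg2, mul_one, ← T.q_add,
      neg_add_cancel, T.q_zero]
  · exact ((show Commute t (T.q (-w)) from (Acts.comm_iff T T.tm_acts).2 f1).mul_right hg't.symm).symm.eq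
  · have hRg : hS.R * g' = T.q w * g' * hS.R := by
      rw [hw]
      simp only [mul_assoc]
      rw [← mul_assoc g' g', hg2, one_mul, hS.R_invol, mul_one]
    symm
    rw [← mul_assoc, Acts.comm T hS.R_acts, mul_assoc, hRg,
      show T.q (sgC (-w)) * (T.q w * g' * hS.R) = T.q (sgC (-w)) * T.q w * g' * hS.R by group, ← T.q_add, f2, f3,
      mul_assoc]

/-- The inverting involution. -/
noncomputable def Z : G := hS.exists_neg.choose

theorem Z_acts : T.Acts hS.Z (fun v => -v) := hS.exists_neg.choose_spec.1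

theorem Z_invol : hS.Z * hS.Z = 1 := hS.exists_neg.choose_spec.2.1

theorem Z_tm : hS.Z * T.φ tm = T.φ tm * hS.Z := hS.exists_neg.choose_spec.2.2.1

theorem Z_R : hS.Z * hS.R = hS.R * hS.Z := hS.exists_neg.choose_spec.2.2.2

theorem Z_inv : hS.Z⁻¹ = hS.Z := inv_eq_of_mul_eq_one_right hS.Z_invol

theorem Z_a : hS.Z * T.a * hS.Z⁻¹ = T.a⁻¹ := by rw [← T.q_dia, hS.Z_acts, T.q_neg]

theorem Z_Qg {x : G} (hx : x ∈ T.Qg) : hS.Z * x * hS.Z⁻¹ ∈ T.Qg := T.map_Qg (Or.inr hS.Z_a) hS.Z_tm hx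

theorem Z_qe (i : ZMod 3) {x : M} (hx : hS.Z * T.φ qm * hS.Z⁻¹ = T.φ x) :
    hS.Z * T.φ (qe i) * hS.Z⁻¹ = T.φ (fz x i) := by
  have h1 : hS.Z * T.q (0, 0, i) * hS.Z⁻¹ = T.q (0, 0, -i) := by
    rw [hS.Z_acts]
    exact congrArg T.q (by simp)
  rw [hS.qe_eq, fz, map_mul, map_mul, map_inv, ← hx, show T.φ (jc (0, 0, -i)) = T.q (0, 0, -i) from rfl, ← h1]
  group

/-- The involution does not square an outer element to the central involution. -/
theorem Z_out {x : G} (hx : x ∈ T.Qg) : x * hS.Z * (x * hS.Z) ≠ T.φ tm := by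
  obtain ⟨y, hy, hyx⟩ := hS.Z_Qg T.qm_mem
  obtain ⟨hye, hyg⟩ := Qm_mem_form hy
  have hyy : y * y = tm := T.inj (by
    rw [map_mul, hyx, conj_mul, ← map_mul, qm_sq, hS.Z_tm, mul_inv_cancel_right])
  obtain ⟨j, hj⟩ := Qm_root y.g (by rw [← hye]; exact hyy)
  rw [← hye] at hj
  obtain ⟨s, hs⟩ : ∃ s : Bool, y = if s then qe j * tm else qe j :=
    hj.elim (fun h => ⟨false, by simpa using h⟩) fun h => ⟨true, by simpa using h⟩
  have hzz : ∀ w : G, hS.Z * (hS.Z * w * hS.Z⁻¹) * hS.Z⁻¹ = w := fun w => by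
    calc hS.Z * (hS.Z * w * hS.Z⁻¹) * hS.Z⁻¹ = (hS.Z * hS.Z) * w * (hS.Z * hS.Z)⁻¹ := by group
      _ = w := by rw [hS.Z_invol]; simp
  have hzt : hS.Z * T.φ tm * hS.Z⁻¹ = T.φ tm := by rw [hS.Z_tm, mul_inv_cancel_right]
  have hf := fun i => hS.Z_qe i hyx.symm
  have hk : fz y j = if s then qm * tm else qm := by
    apply T.inj
    rw [← hf j]
    have h2 : hS.Z * T.φ y * hS.Z⁻¹ = T.φ qm := by rw [hyx]; exact hzz _
    cases s
    · simp only [Bool.false_eq_true, if_false] at hs ⊢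
      rw [← hs, h2]
    · simp only [if_true] at hs ⊢
      rw [map_mul]
      rw [hs, map_mul, ← conj_mul, hzt] at h2
      rw [← h2, mul_assoc (hS.Z * T.φ (qe j) * hS.Z⁻¹), ← map_mul, tm_sq, map_one, mul_one]
  have hp : fz y 0 * fz y 2 * fz y 1 = qm * qe 2 * qe 1 := by
    apply T.inj
    rw [map_mul, map_mul, ← hf, ← hf, ← hf, conj_mul, conj_mul, ← map_mul, ← map_mul, qe_zero]
    rcases qe_prod' with h | h <;> rw [h]
    · simp
    · rw [hzt]
  subst hs
  have key := z_orient j s hk hp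
  have hsq : T.φ tm * hS.Z * (T.φ tm * hS.Z) = 1 := by
    calc T.φ tm * hS.Z * (T.φ tm * hS.Z) = T.φ tm * (hS.Z * T.φ tm) * hS.Z := by group
      _ = (T.φ tm * T.φ tm) * (hS.Z * hS.Z) := by rw [hS.Z_tm]; group
      _ = 1 := by rw [T.tm_invol, hS.Z_invol, one_mul]
  have ht1 : T.φ tm ≠ 1 := fun h => qe_moved.2.2.1 (T.inj (h.trans T.φ.map_one.symm))
  obtain ⟨m, hm, rfl⟩ := hx
  obtain ⟨hme, hmg⟩ := Qm_mem_form hm
  have hq : ∀ i, T.φ (qe i) * hS.Z * (T.φ (qe i) * hS.Z) ≠ T.φ tm := fun i h => key i (T.inj (by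
    rw [map_mul, ← hf i, hS.Z_inv]
    calc T.φ (qe i) * (hS.Z * T.φ (qe i) * hS.Z) = T.φ (qe i) * hS.Z * (T.φ (qe i) * hS.Z) := by group
      _ = _ := h))
  rcases Qm_cases m.g hmg with h | h | ⟨i, h | h⟩ <;> rw [← hme] at h <;> subst h <;> intro hcon
  · rw [map_one, one_mul, hS.Z_invol] at hcon
    exact ht1 hcon.symm
  · exact ht1 (hcon.symm.trans hsq)
  · exact hq i hcon
  · refine hq i ?_
    have hc : Commute (T.φ tm) (T.φ (qe i) * hS.Z) :=
      (show Commute (T.φ tm) (T.φ (qe i)) from (T.Qg_comm_t (T.qe_mem i)).symm).mul_right hS.Z_tm.symm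
    have he : T.φ (qe i * tm) * hS.Z = T.φ (qe i) * hS.Z * T.φ tm := by
      rw [map_mul, mul_assoc, mul_assoc, hS.Z_tm]
    rw [he, hc.mul_mul_mul_comm, T.tm_invol, mul_one] at hcon
    exact hcon

/-- The centraliser of the quaternion subgroup has a normal complement to the element of order three. -/
theorem exists_core : ∃ K : Subgroup G,
    (∀ x, x ∈ K ↔ x ∈ Subgroup.centralizer (T.Qg : Set G) ∧ (orderOf x).Coprime 3) ∧ (Nat.card K).Coprime 3 ∧
      Nat.card (Subgroup.centralizer (T.Qg : Set G)) = 3 * Nat.card K := by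
  have hmem : ∀ x, x ∈ Subgroup.centralizer (T.Qg : Set G) ↔ ∀ y ∈ T.Qg, x * y = y * x := fun x => by
    rw [Subgroup.mem_centralizer_iff]
    exact ⟨fun h y hy => (h y hy).symm, fun h y hy => (h y hy).symm⟩
  refine three_complement _ ((hmem _).2 fun y hy => (T.Qg_comm_a hy).symm) T.a_cube T.a_ne ?_ ?_
  · rintro x hx ha ⟨n, hn⟩
    obtain ⟨m, rfl⟩ := T.cent_a.1 ha
    obtain ⟨i, h⟩ := cent_quat m
      (T.inj (by rw [map_mul, map_mul]; exact (hmem _).1 hx _ T.qm_mem))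
      (T.inj (by rw [map_mul, map_mul]; exact (hmem _).1 hx _ (T.qe_mem 1)))
    have hi : T.φ (jc (i, i, i)) = T.a ^ i.val := by
      rw [← T.q_dia, ← T.q_smul, show i • dia = ((i, i, i) : V3) by simp [dia]]
      rfl
    rcases h with rfl | rfl
    · exact Subgroup.mem_zpowers_iff.2 ⟨(i.val : ℤ), by rw [zpow_natCast, hi]⟩
    · exfalso
      have hodd : Odd (3 ^ n) := Odd.pow (by decide)
      rw [map_mul, hi, (show Commute (T.a ^ i.val) (T.φ tm) from
        ((show Commute (T.φ tm) T.a from T.cent_a.2 ⟨tm, rfl⟩).pow_right _).symm).mul_pow] at hn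
      obtain ⟨k, hk⟩ := hodd
      rw [hk, pow_succ (T.φ tm), pow_mul (T.φ tm), pow_two, T.tm_invol, one_pow, one_mul] at hn
      have h3 : (T.a ^ i.val) ^ (2 * k + 1) * T.φ tm = 1 := hn
      have hcube : T.φ tm ^ 3 = 1 := by
        rw [eq_inv_of_mul_eq_one_right h3, inv_pow, ← pow_mul, ← pow_mul,
          show i.val * ((2 * k + 1) * 3) = 3 * (i.val * (2 * k + 1)) by ring, pow_mul, T.a_cube, one_pow, inv_one]
      rw [pow_succ, pow_two, T.tm_invol, one_mul] at hcube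
      exact qe_moved.2.2.1 (T.inj (hcube.trans T.φ.map_one.symm))
  · intro x hx hxa
    have hc := (hmem x).1 hx
    have hxt : x * T.φ tm = T.φ tm * x := hc _ T.tm_mem_Qg
    have hxa' : x * T.a⁻¹ * x⁻¹ = T.a := by rw [← conj_inv, hxa, inv_inv]
    have hza : x * hS.Z * T.a = T.a * (x * hS.Z) := by
      have h1 : x * (hS.Z * T.a * hS.Z⁻¹) * x⁻¹ = T.a := by rw [hS.Z_a, hxa']
      calc x * hS.Z * T.a = x * (hS.Z * T.a * hS.Z⁻¹) * x⁻¹ * (x * hS.Z) := by group
        _ = _ := by rw [h1]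
    obtain ⟨m, hm⟩ := T.cent_a.1 hza
    have hv := tm_cent m (T.inj (by
      rw [map_mul, map_mul, hm]
      exact ((show Commute x (T.φ tm) from hxt).mul_left (show Commute hS.Z (T.φ tm) from hS.Z_tm)).eq))
    obtain ⟨i, hi⟩ := no_inner m hv
    apply hi
    obtain ⟨y, hy, hyx⟩ := hS.Z_Qg T.qm_mem
    have hf := fun i => hS.Z_qe i hyx.symm
    have key : ∀ w ∈ T.Qg, hS.Z * w * hS.Z⁻¹ = (T.φ m)⁻¹ * w * T.φ m := by
      intro w hw
      rw [hm, hS.Z_inv]
      have h1 := hc _ (hS.Z_Qg hw)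
      rw [hS.Z_inv] at h1
      calc hS.Z * w * hS.Z = (x * hS.Z)⁻¹ * w * (x * hS.Z) := by
            have h2 : x⁻¹ * w * x = w := by rw [mul_assoc, ← hc _ hw, inv_mul_cancel_left]
            rw [mul_inv_rev, hS.Z_inv]
            calc hS.Z * w * hS.Z = hS.Z * (x⁻¹ * w * x) * hS.Z := by rw [h2]
              _ = _ := by group
        _ = _ := rfl
    have e1 : m⁻¹ * qe i * m = fz y i := T.inj (by
      rw [← hf i, key _ (T.qe_mem i), map_mul, map_mul, map_inv])
    have e0 : m⁻¹ * qm * m = y := T.inj (by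
      rw [hyx]
      show _ = hS.Z * T.φ qm * hS.Z⁻¹
      rw [key _ T.qm_mem, map_mul, map_mul, map_inv])
    rw [e1, e0]
    rfl

end Signed

end Conf

end Cfsg.Agent.Lie.PSpFourThreeFull
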