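import Cfsg.Agent.Lib.Lie.PSpFourThreeFull.ReflFacts

/-!
Reflections in the normaliser of the elementary abelian subgroup and the extra node of the diagram.
-/

set_option autoImplicit false
set_option linter.unusedSectionVars false
set_option linter.unusedVariables false

namespace Cfsg.Agent.Lie.PSpFourThreeFull

open Cfsg.Agent.Lie.PSpFourThreeAmalgam
open Cfsg.Agent.Small.ShapeThree (M omega S)
open scoped Matrix

namespace Conf

variable {G : Type*} [Group G] [Finite G] (T : Conf G)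

/-- Conjugation on the coordinates. -/
def Acts (g : G) (f : V3 → V3) : Prop := ∀ v, g * T.q v * g⁻¹ = T.q (f v)

theorem Acts.mul {g h : G} {f e : V3 → V3} (hg : T.Acts g f) (hh : T.Acts h e) :
    T.Acts (g * h) fun v => f (e v) := fun v => by
  rw [← hg, ← hh]
  group

theorem Acts.comm {g : G} {f : V3 → V3} (hg : T.Acts g f) {v : V3} : g * T.q v = T.q (f v) * g := by
  rw [← hg, inv_mul_cancel_right]

theorem Acts.comm_iff {g : G} {f : V3 → V3} (hg : T.Acts g f) {v : V3} : g * T.q v = T.q v * g ↔ f v = v := by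
  rw [Acts.comm T hg, mul_left_inj]
  exact ⟨fun h => T.q_inj h, fun h => by rw [h]⟩

theorem Acts.mem_normalizer {g : G} {f : V3 → V3} (hg : T.Acts g f) : g ∈ Subgroup.normalizer (T.J : Set G) := by
  rw [Subgroup.mem_normalizer_iff_map_conj_eq]
  refine Subgroup.eq_of_le_of_card_ge ?_ (by rw [Subgroup.card_map_of_injective (MulEquiv.injective _)])
  rintro _ ⟨x, hx, rfl⟩
  obtain ⟨v, rfl⟩ := T.mem_J.1 hx
  exact T.mem_J.2 ⟨f v, (hg v).symm⟩

theorem acts_of_mem {x : G} (hx : x ∈ T.J) : T.Acts x id := fun v => by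
  rw [T.J_comm hx (T.q_mem v), mul_inv_cancel_right]
  rfl

theorem mem_J_of_acts {x : G} (hx : T.Acts x id) : x ∈ T.J := T.cent_J fun y hy => by
  obtain ⟨v, rfl⟩ := T.mem_J.1 hy
  exact Acts.comm T hx

theorem sm_acts : T.Acts (T.φ sm) mU := T.sm_act'

theorem tm_acts : T.Acts (T.φ tm) mT := T.tm_act'

theorem q_eq_one {v : V3} : T.q v = 1 ↔ v = 0 := ⟨fun h => T.q_inj (h.trans T.q_zero.symm), fun h => h ▸ T.q_zero⟩

theorem tm_invol : T.φ tm * T.φ tm = 1 := by rw [← map_mul, tm_sq, map_one]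

/-- An element fixing a plane through the central element normalises the subgroup. -/
theorem normalises_of_plane {g : G} (ha : g * T.a = T.a * g) {v : V3} (hv : v ≠ 0) (h1 : v ≠ dia) (h2 : v ≠ -dia)
    (h : g * T.q v = T.q v * g) :
    ∃ m k, T.φ m = g ∧ T.Acts g (six k) := by
  obtain ⟨m, rfl⟩ := T.cent_a.1 ha
  obtain ⟨e1, e2, e3⟩ := plane_normalises m v hv h1 h2 (T.inj (by rw [map_mul, map_mul]; exact h))
  obtain ⟨k, hk⟩ := normalising m e1 e2 e3
  refine ⟨m, k, rfl, fun w => ?_⟩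
  have hadd : ∀ x y : V3, jc (x + y) = jc x * jc y := jc_add
  have hw : m * jc w * m⁻¹ = jc (six k w) := by
    let F : V3 → M := fun x => m * jc x * m⁻¹
    have hF : ∀ x y, F (x + y) = F x * F y := fun x y => by simp only [F, hadd]; group
    have hG : ∀ x y, jc (six k (x + y)) = jc (six k x) * jc (six k y) := fun x y => by rw [six_add, hadd]
    have hn : ∀ (n : ℕ) (u : V3), F u = jc (six k u) → F (n • u) = jc (six k (n • u)) := by
      intro n u hu
      induction n with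
      | zero =>
        have hz : six k 0 = 0 := by
          have := six_add k 0 0
          rwa [add_zero, left_eq_add] at this
        simp [F, hz, jc_zero]
      | succ n ih => rw [succ_nsmul, hF, hG, ih, hu]
    show F w = _
    rw [eq_sum w, hF, hF, hG, hG, hn _ _ (hk _ (by simp)), hn _ _ (hk _ (by simp)), hn _ _ (hk _ (by simp))]
  show T.φ m * T.φ (jc w) * (T.φ m)⁻¹ = T.φ (jc (six k w))
  rw [← hw, map_mul, map_mul, map_inv]

namespace Signed

variable {T} (hS : T.Signed)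
include hS

theorem exists_sign : ∃ R, T.Acts R sgC ∧ R * R = 1 := by
  obtain ⟨i, hi⟩ := sgC_neg
  obtain ⟨g, hg, hga⟩ := hS.neg i
  have hga' : T.Acts g sgC := fun v => by rw [hga, hi]
  have h2 : T.Acts (g * g) id := fun v => (Acts.mul T hga' hga' v).trans (congrArg T.q (sgC_two v))
  obtain ⟨u, hu⟩ := T.mem_J.1 (T.mem_J_of_acts h2)
  have hfix : sgC u = u := by
    refine (Acts.comm_iff T hga').1 ?_
    rw [hu, mul_assoc]
  refine ⟨g * T.q u, fun v => ?_, ?_⟩
  · rw [Acts.mul T hga' (T.acts_of_mem (T.q_mem u))]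
    rfl
  · calc g * T.q u * (g * T.q u) = g * (T.q u * g) * T.q u := by group
      _ = g * g * (T.q u * T.q u) := by rw [← (Acts.comm_iff T hga').2 hfix]; group
      _ = T.q (u + u + u) := by rw [T.q_add, T.q_add, hu]; group
      _ = 1 := by rw [(sgC_add u hfix).1, T.q_zero]

/-- The reflection of the third axis. -/
noncomputable def R : G := hS.exists_sign.choose

theorem R_acts : T.Acts hS.R sgC := hS.exists_sign.choose_spec.1

theorem R_invol : hS.R * hS.R = 1 := hS.exists_sign.choose_spec.2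

theorem R_inv : hS.R⁻¹ = hS.R := inv_eq_of_mul_eq_one_right hS.R_invol

theorem R_ne : hS.R ≠ 1 := fun h => by
  have h1 := (Acts.comm_iff T hS.R_acts (v := (0, 0, 1))).1 (by rw [h]; simp)
  exact absurd h1 (by decide)

theorem R_tm : hS.R * T.φ tm = T.φ tm * hS.R := by
  set t := T.φ tm
  have ht := T.tm_invol
  have hti : t⁻¹ = t := inv_eq_of_mul_eq_one_right ht
  have hid : T.Acts (t * hS.R * (t * hS.R)) id := fun v => by
    rw [Acts.mul T (Acts.mul T T.tm_acts hS.R_acts) (Acts.mul T T.tm_acts hS.R_acts)]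
    exact congrArg T.q ((by decide +kernel : ∀ v, mT (sgC (mT (sgC v))) = v) v)
  obtain ⟨u, hu⟩ := T.mem_J.1 (T.mem_J_of_acts hid)
  have hswap : (t * hS.R * (t * hS.R))⁻¹ = hS.R * t * (hS.R * t) := by
    simp only [_root_.mul_inv_rev, hti, hS.R_inv]
  have h1 : T.q (mT u) = T.q (-u) := by
    rw [← T.tm_acts u, T.q_neg, hu, hswap]
    calc t * (t * hS.R * (t * hS.R)) * t⁻¹ = (t * t) * hS.R * t * hS.R * t⁻¹ := by group
      _ = _ := by rw [ht, hti]; group
  have h2 : T.q (sgC u) = T.q (-u) := by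
    rw [← hS.R_acts u, T.q_neg, hu, hswap]
    calc hS.R * (t * hS.R * (t * hS.R)) * hS.R⁻¹ = hS.R * t * hS.R * t := by group
      _ = _ := by group
  have hu0 := (by decide +kernel : ∀ u, mT u = -u → sgC u = -u → u = 0) u (T.q_inj h1) (T.q_inj h2)
  rw [hu0, T.q_zero] at hu
  have h4 : t * hS.R * t = hS.R := by
    calc t * hS.R * t = t * hS.R * t * (hS.R * hS.R) := by rw [hS.R_invol, mul_one]
      _ = (t * hS.R * (t * hS.R)) * hS.R := by group
      _ = hS.R := by rw [← hu, one_mul]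
  calc hS.R * t = (t * hS.R * t) * t := by rw [h4]
    _ = t * hS.R * (t * t) := by group
    _ = t * hS.R := by rw [ht, mul_one]

/-- The part of the centraliser of the element of order three fixing the reflection. -/
theorem cent_R {g : G} (ha : g * T.a = T.a * g) (hR : g * hS.R = hS.R * g) :
    ∃ x y, g = T.q (x, y, 0) ∨ g = T.q (x, y, 0) * T.φ tm := by
  have hda : g * T.q (sgC dia) = T.q (sgC dia) * g := by
    rw [← hS.R_acts, T.q_dia]
    exact ((show Commute g hS.R from hR).mul_right (show Commute g T.a from ha) |>.mul_right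
      (show Commute g hS.R from hR).inv_right).eq
  obtain ⟨m, k, rfl, hk⟩ := T.normalises_of_plane ha (by decide) (by decide) (by decide) hda
  have hcomm : ∀ v, six k (sgC v) = sgC (six k v) := fun v => T.q_inj (by
    rw [← Acts.mul T hk hS.R_acts v, ← Acts.mul T hS.R_acts hk v, hR])
  have hfix : ∀ g' : G, T.Acts g' id → g' * hS.R = hS.R * g' → ∃ x y, g' = T.q (x, y, 0) := by
    intro g' h1 h2
    obtain ⟨u, hu⟩ := T.mem_J.1 (T.mem_J_of_acts h1)
    have hf := jc_sgC u ((Acts.comm_iff T hS.R_acts).1 (by rw [hu]; exact h2.symm))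
    exact ⟨u.1, u.2.1, by rw [← hf, hu]⟩
  rcases six_sgC k hcomm with rfl | rfl
  · obtain ⟨x, y, h⟩ := hfix _ (fun v => hk v) hR
    exact ⟨x, y, Or.inl h⟩
  · obtain ⟨x, y, h⟩ := hfix (T.φ m * T.φ tm) (fun v => by
      rw [Acts.mul T hk T.tm_acts]
      exact congrArg T.q ((by decide +kernel : ∀ v, six 3 (mT v) = v) v))
      ((show Commute (T.φ m) hS.R from hR).mul_left hS.R_tm.symm).eq
    refine ⟨x, y, Or.inr ?_⟩
    rw [← h, mul_assoc, T.tm_invol, mul_one]

theorem R_inverts (i : ZMod 3) : hS.R * T.q (0, 0, i) = T.q (0, 0, -i) * hS.R := by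
  rw [Acts.comm T hS.R_acts]
  rfl

theorem R_fixes (x y : ZMod 3) : T.q (x, y, 0) * hS.R = hS.R * T.q (x, y, 0) := by
  refine ((Acts.comm_iff T hS.R_acts).2 ?_).symm
  show (_, _, _) = _
  simp

/-- The reflection followed by the third unit vector. -/
noncomputable def B : G := T.q (0, 0, 1) * hS.R

theorem B_invol : hS.B * hS.B = 1 := by
  calc T.q (0, 0, 1) * hS.R * (T.q (0, 0, 1) * hS.R) = T.q (0, 0, 1) * (hS.R * T.q (0, 0, 1)) * hS.R := by group
    _ = T.q (0, 0, 1) * T.q (0, 0, -1) * (hS.R * hS.R) := by rw [hS.R_inverts]; group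
    _ = 1 := by
      rw [hS.R_invol, mul_one, ← T.q_add]
      exact T.q_eq_one.2 (by decide)

theorem B_acts : T.Acts hS.B sgC := fun v => by
  rw [B, Acts.mul T (T.acts_of_mem (T.q_mem _)) hS.R_acts]
  rfl

/-- The extra node. -/
noncomputable def C : G := T.φ qm * hS.R * (T.φ qm)⁻¹

theorem C_invol : hS.C * hS.C = 1 := by
  rw [C, show ∀ x r : G, x * r * x⁻¹ * (x * r * x⁻¹) = x * (r * r) * x⁻¹ from fun x r => by group, hS.R_invol,
    mul_one, mul_inv_cancel]

theorem C_tm : T.φ tm * hS.C = hS.C * T.φ tm := by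
  have h1 : Commute (T.φ tm) (T.φ qm) := by rw [Commute, SemiconjBy, ← map_mul, ← map_mul, qm_tm]
  exact (h1.mul_right (show Commute (T.φ tm) hS.R from hS.R_tm.symm) |>.mul_right h1.inv_right).eq

theorem C_sm : T.φ sm * hS.C = hS.C * T.φ sm := by
  obtain ⟨x, y, h⟩ := qm_sm
  have h1 : T.φ qm * T.q (x, y, 0) * (T.φ qm)⁻¹ = T.φ sm := by
    rw [q, ← h, ← map_mul, ← map_inv, ← map_mul]
    congr 1
    group
  rw [← h1, C]
  calc T.φ qm * T.q (x, y, 0) * (T.φ qm)⁻¹ * (T.φ qm * hS.R * (T.φ qm)⁻¹)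
      = T.φ qm * (T.q (x, y, 0) * hS.R) * (T.φ qm)⁻¹ := by group
    _ = _ := by rw [hS.R_fixes]; group

/-- The commutation of the two quaternion groups. -/
def Comm : Prop := ∀ i, T.φ (qe i) * (hS.R * T.φ qm * hS.R) = hS.R * T.φ qm * hS.R * T.φ (qe i)

theorem qe_eq (k : ZMod 3) : T.φ (qe k) = T.q (0, 0, k) * T.φ qm * (T.q (0, 0, k))⁻¹ := by
  rw [q, qe, map_mul, map_mul, map_inv]

theorem conj_R (k : ZMod 3) (Z : G) : T.q (0, 0, k) * (hS.R * Z * hS.R) * (T.q (0, 0, k))⁻¹ =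
    hS.R * (T.q (0, 0, -k) * Z * (T.q (0, 0, -k))⁻¹) * hS.R := by
  have h1 : hS.R * T.q (0, 0, -k) = T.q (0, 0, k) * hS.R := by rw [hS.R_inverts, neg_neg]
  have h2 : (T.q (0, 0, -k))⁻¹ * hS.R = hS.R * (T.q (0, 0, k))⁻¹ := by
    rw [← T.q_neg, ← T.q_neg, show (-(0, 0, -k) : V3) = (0, 0, k) by simp,
      show (-(0, 0, k) : V3) = (0, 0, -k) by simp, hS.R_inverts, neg_neg]
  calc T.q (0, 0, k) * (hS.R * Z * hS.R) * (T.q (0, 0, k))⁻¹
      = T.q (0, 0, k) * hS.R * Z * (hS.R * (T.q (0, 0, k))⁻¹) := by group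
    _ = _ := by rw [← h1, ← h2]; group

theorem comm_shift (hc : hS.Comm) (i j : ZMod 3) :
    Commute (T.φ (qe i)) (hS.R * T.φ (qe j) * hS.R) := by
  have h0 : Commute (T.φ (qe (i + j))) (hS.R * T.φ qm * hS.R) := hc (i + j)
  have h1 := (Commute.conj_iff (T.q (0, 0, -j))).2 h0
  have e1 : T.q (0, 0, -j) * T.φ (qe (i + j)) * (T.q (0, 0, -j))⁻¹ = T.φ (qe i) := by
    rw [q, ← map_mul, ← map_inv, ← map_mul, qe_shift, show -j + (i + j) = i by ring]
  have e2 : T.q (0, 0, -j) * (hS.R * T.φ qm * hS.R) * (T.q (0, 0, -j))⁻¹ = hS.R * T.φ (qe j) * hS.R := by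
    rw [hS.conj_R, neg_neg, hS.qe_eq j]
  rwa [e1, e2] at h1

theorem R_phi_tm : hS.R * T.φ tm * hS.R = T.φ tm := by
  rw [hS.R_tm, mul_assoc, hS.R_invol, mul_one]

/-- The extra node commutes with the outer node. -/
theorem C_R (hc : hS.Comm) : hS.C * hS.R = hS.R * hS.C := by
  set X := T.φ qm with hX
  set Y := hS.R * X * hS.R with hY
  have hXY : Commute X Y := by
    have := hS.comm_shift hc 0 0
    rwa [qe_zero] at this
  have hX2 : X * X = T.φ tm := by rw [hX, ← map_mul, qm_sq]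
  have hY2 : Y * Y = T.φ tm := by
    rw [hY, show hS.R * X * hS.R * (hS.R * X * hS.R) = hS.R * X * (hS.R * hS.R) * X * hS.R by group, hS.R_invol,
      mul_one, mul_assoc hS.R X X, hX2, hS.R_phi_tm]
  have hCR : hS.C * hS.R = X * Y⁻¹ := by
    simp only [hY, hX, C, _root_.mul_inv_rev, hS.R_inv]
    group
  have hsq : hS.C * hS.R * (hS.C * hS.R) = 1 := by
    rw [hCR, (hXY.inv_right.symm).mul_mul_mul_comm, ← _root_.mul_inv_rev, hX2, hY2, mul_inv_cancel]
  rw [← eq_inv_iff_mul_eq_one, _root_.mul_inv_rev, hS.R_inv, inv_eq_of_mul_eq_one_right hS.C_invol] at hsq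
  exact hsq

/-- The extra node braids with the middle node. -/
theorem C_B (hc : hS.Comm) : (hS.C * hS.B) ^ 3 = 1 := by
  set F := T.q (0, 0, -1) with hF
  set x := T.φ qm * (hS.R * T.φ qm * hS.R)⁻¹ with hx
  have hCB : hS.C * hS.B = x * F := by
    rw [hx, C, B, hF]
    calc T.φ qm * hS.R * (T.φ qm)⁻¹ * (T.q (0, 0, 1) * hS.R)
        = T.φ qm * hS.R * (T.φ qm)⁻¹ * (hS.R * (hS.R * T.q (0, 0, 1))) * hS.R := by
          rw [← mul_assoc hS.R hS.R, hS.R_invol]; group
      _ = _ := by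
        rw [hS.R_inverts]
        simp only [_root_.mul_inv_rev, hS.R_inv, mul_assoc, hS.R_invol, mul_one]
  have hF3 : F * F * F = 1 := by
    rw [hF, ← T.q_add, ← T.q_add]
    exact T.q_eq_one.2 (by decide)
  have hconj : ∀ i : ZMod 3, T.q (0, 0, -i) * x * (T.q (0, 0, -i))⁻¹ =
      T.φ (qe (-i)) * (hS.R * T.φ (qe i) * hS.R)⁻¹ := by
    intro i
    rw [hx, show T.q (0, 0, -i) * (T.φ qm * (hS.R * T.φ qm * hS.R)⁻¹) * (T.q (0, 0, -i))⁻¹ =
      T.q (0, 0, -i) * T.φ qm * (T.q (0, 0, -i))⁻¹ *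
        (T.q (0, 0, -i) * (hS.R * T.φ qm * hS.R) * (T.q (0, 0, -i))⁻¹)⁻¹ by group,
      hS.conj_R, neg_neg, ← hS.qe_eq, ← hS.qe_eq]
  have h1 := hconj 1
  have h2 := hconj 2
  rw [show (T.q (0, 0, -1) : G) = F from rfl, show (-1 : ZMod 3) = 2 by decide] at h1
  rw [show T.q (0, 0, -2) = F * F by rw [hF, ← T.q_add]; exact congrArg T.q (by decide),
    show (-2 : ZMod 3) = 1 by decide] at h2
  have hexp : (x * F) ^ 3 = x * (F * x * F⁻¹) * (F * F * x * (F * F)⁻¹) * (F * F * F) := by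
    rw [pow_succ, pow_two]
    group
  have hcc := fun i j => hS.comm_shift hc i j
  have hc0 : ∀ j, Commute (T.φ qm) (hS.R * T.φ (qe j) * hS.R) := fun j => qe_zero ▸ hcc 0 j
  rw [hCB, hexp, hF3, mul_one, h1, h2, hx]
  set A := T.φ qm
  set A2 := T.φ (qe 2)
  set A1 := T.φ (qe 1)
  set P := (hS.R * A * hS.R)⁻¹
  set P1 := (hS.R * A1 * hS.R)⁻¹
  set P2 := (hS.R * A2 * hS.R)⁻¹
  have k1 : Commute P A2 := by
    have := (hcc 2 0).inv_right.symm
    rwa [qe_zero] at this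
  have k2 : Commute P A1 := by
    have := (hcc 1 0).inv_right.symm
    rwa [qe_zero] at this
  have k3 : Commute P1 A1 := (hcc 1 1).inv_right.symm
  have h : A * P * (A2 * P1) * (A1 * P2) = A * A2 * A1 * (P * P1 * P2) := by
    rw [show A * P * (A2 * P1) * (A1 * P2) = A * (P * A2) * (P1 * A1) * P2 by group, k1.eq, k3.eq,
      show A * (A2 * P) * (A1 * P1) * P2 = A * A2 * (P * A1) * P1 * P2 by group, k2.eq]
    group
  rw [h, show P * P1 * P2 = hS.R * (A⁻¹ * A1⁻¹ * A2⁻¹) * hS.R by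
    simp only [P, P1, P2, _root_.mul_inv_rev, hS.R_inv]
    calc hS.R * (A⁻¹ * hS.R) * (hS.R * (A1⁻¹ * hS.R)) * (hS.R * (A2⁻¹ * hS.R))
        = hS.R * A⁻¹ * (hS.R * hS.R) * A1⁻¹ * (hS.R * hS.R) * A2⁻¹ * hS.R := by group
      _ = _ := by rw [hS.R_invol]; group]
  obtain ⟨p1, p2⟩ := qe_prod
  have p1' : A * A2 * A1 * (A⁻¹ * A1⁻¹ * A2⁻¹) = 1 := by
    simp only [A, A1, A2, ← map_inv, ← map_mul, p1, map_one]
  have p3 : hS.R * (A⁻¹ * A1⁻¹ * A2⁻¹) * hS.R = A⁻¹ * A1⁻¹ * A2⁻¹ := by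
    simp only [A, A1, A2, ← map_inv, ← map_mul]
    rcases p2 with h | h <;> rw [h]
    · rw [map_one, mul_one, hS.R_invol]
    · exact hS.R_phi_tm
  rw [p3, p1']

end Signed

end Conf

end Cfsg.Agent.Lie.PSpFourThreeFull
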