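import Cfsg.Agent.Lib.Lie.PSpFourThreeFull.Flat

/-!
Finite facts for the reflections.
-/

set_option autoImplicit false
set_option linter.unusedSectionVars false
set_option linter.unusedVariables false

namespace Cfsg.Agent.Lie.PSpFourThreeFull

open Cfsg.Agent.Lie.PSpFourThreeAmalgam
open Cfsg.Agent.Small.ShapeThree (M omega S)
open scoped Matrix

/-- The sign change of the third coordinate. -/
def sgC (v : V3) : V3 := (v.1, v.2.1, -v.2.2)

theorem sgC_two : ∀ v, sgC (sgC v) = v := by decide +kernel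

theorem sgC_neg : ∃ i, ∀ v, -(act i v) = sgC v := by decide +kernel

theorem sgC_add : ∀ v, sgC v = v → v + v + v = 0 ∧ -v + -v = v := by decide +kernel

/-- The element of order four. -/
def qm : M := ⟨0, 0, ⟨!![0, 2; 1, 0], by decide⟩⟩

/-- Its conjugates by the third unit vector. -/
def qe (i : ZMod 3) : M := jc (0, 0, i) * qm * (jc (0, 0, i))⁻¹

theorem qm_sq : qm * qm = tm := by decide +kernel

theorem qe_zero : qe 0 = qm := by decide +kernel

theorem qm_tm : qm * tm = tm * qm := by decide +kernel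

theorem sm_cube : sm * sm * sm = 1 := by decide +kernel

theorem tm_sm : tm * sm * tm⁻¹ = sm⁻¹ := by decide +kernel

theorem qm_sm : ∃ x y : ZMod 3, qm⁻¹ * sm * qm = jc (x, y, 0) := by decide +kernel

theorem qe_shift : ∀ i j, jc (0, 0, i) * qe j * (jc (0, 0, i))⁻¹ = qe (i + j) := by decide +kernel

theorem qe_prod : qm * qe 2 * qe 1 * (qm⁻¹ * (qe 1)⁻¹ * (qe 2)⁻¹) = 1 ∧
    (qm⁻¹ * (qe 1)⁻¹ * (qe 2)⁻¹ = 1 ∨ qm⁻¹ * (qe 1)⁻¹ * (qe 2)⁻¹ = tm) := by decide +kernel

theorem plane_normalises : ∀ m : M, ∀ v : V3, v ≠ 0 → v ≠ (1, 1, 1) → v ≠ -(1, 1, 1) →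
    m * jc v = jc v * m → inJ (m * jc (1, 0, 0) * m⁻¹) ∧ inJ (m * jc (0, 1, 0) * m⁻¹) ∧
      inJ (m * jc (0, 0, 1) * m⁻¹) := by decide +kernel

theorem six_sgC : ∀ k, (∀ v, six k (sgC v) = sgC (six k v)) → k = 0 ∨ k = 3 := by decide +kernel

theorem jc_sgC : ∀ v, sgC v = v → v = (v.1, v.2.1, 0) := by decide +kernel

end Cfsg.Agent.Lie.PSpFourThreeFull
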