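import Cfsg.Agent.Lib.Lie.PSpFourThreeFull.EightFacts
import Cfsg.Agent.Lib.Lie.PSpFourThreeFull.ReflFacts

/-!
Finite facts on the maps commuting with the reflection.
-/

set_option autoImplicit false
set_option maxRecDepth 100000
set_option synthInstance.maxSize 4000
set_option synthInstance.maxHeartbeats 400000
set_option Elab.async false

namespace Cfsg.Agent.Lie.PSpFourThreeFull

open Cfsg.Agent.Lie.PSpFourThreeAmalgam

theorem weight_cases : ∀ v : V3, v ≠ 0 → (v.1 = 0 ∨ v.2.1 = 0 ∨ v.2.2 = 0) →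
    ∃ p : Fin 24 × Bool, smap p v = (0, 0, 1) ∨ smap p v = (1, 1, 0) := by decide +kernel

theorem dia_orbit : ∀ v : V3, v ≠ 0 → ¬ (v.1 = 0 ∨ v.2.1 = 0 ∨ v.2.2 = 0) → ∃ p : Fin 24 × Bool, smap p v = dia := by
  decide +kernel

theorem dia_weight : ∀ p : Fin 24 × Bool, ¬ ((smap p dia).1 = 0 ∨ (smap p dia).2.1 = 0 ∨ (smap p dia).2.2 = 0) := by
  decide +kernel

theorem plane_fix : ∀ p : Fin 24 × Bool, smap p (1, 0, 0) = (1, 0, 0) → smap p (0, 1, 0) = (0, 1, 0) →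
    (∀ u, smap p u = u) ∨ ∀ u, smap p u = sgC u := by decide +kernel

theorem sgC_inv_three : ∀ p : Fin 24 × Bool, (∀ u, smap p (sgC u) = sgC (smap p u)) →
    (∀ u, (smap p)^[8] u = u) := by decide +kernel

theorem sgC_plane : ∀ p : Fin 24 × Bool, (∀ u, smap p (sgC u) = sgC (smap p u)) →
    (smap p (1, 0, 0)).2.2 = 0 ∧ (smap p (0, 1, 0)).2.2 = 0 ∧ ∀ a b : ZMod 3, (smap p (a, b, 0)).2.2 = 0 := by
  decide +kernel

theorem dcode_mul' : ∀ p : Fin 24 × Bool, (∀ u, smap p (sgC u) = sgC (smap p u)) → ∀ q : Fin 24 × Bool,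
    (∀ u, smap q (sgC u) = sgC (smap q u)) →
    dcode (smap p (smap q (1, 0, 0))) (smap p (smap q (0, 1, 0))) =
      dcode (smap p (1, 0, 0)) (smap p (0, 1, 0)) * dcode (smap q (1, 0, 0)) (smap q (0, 1, 0)) := by
  decide +kernel

theorem dcode_inj' : ∀ p : Fin 24 × Bool, (∀ u, smap p (sgC u) = sgC (smap p u)) →
    dcode (smap p (1, 0, 0)) (smap p (0, 1, 0)) = 1 → (∀ u, smap p u = u) ∨ ∀ u, smap p u = sgC u := by
  decide +kernel

theorem dcode_surj : ∀ d : DihedralGroup 4, ∃ p : Fin 24 × Bool, (∀ u, smap p (sgC u) = sgC (smap p u)) ∧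
    dcode (smap p (1, 0, 0)) (smap p (0, 1, 0)) = d := by decide +kernel

theorem dcode_id : dcode (1, 0, 0) (0, 1, 0) = 1 ∧ dcode (sgC (1, 0, 0)) (sgC (0, 1, 0)) = 1 := by decide +kernel

theorem plane_basic : indep ((1, 0, 0) : V3) (0, 1, 0) ∧ sgC ((1, 0, 0) : V3) = (1, 0, 0) ∧
    sgC ((0, 1, 0) : V3) = (0, 1, 0) ∧ sgC ((0, 0, 1) : V3) = -((0, 0, 1) : V3) := by decide +kernel

theorem stab_trivial : ∀ v : V3, v ≠ 0 → (v.1 = 0 ∨ v.2.1 = 0 ∨ v.2.2 = 0) → ∀ p : Fin 24 × Bool, smap p v = v →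
    (∀ u, smap p (smap p (smap p u)) = u) → ∀ u, smap p u = u := by decide +kernel

theorem sgC_fixed : ∀ v : V3, sgC v = v ↔ v.2.2 = 0 := by decide +kernel

end Cfsg.Agent.Lie.PSpFourThreeFull
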