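import Cfsg.Agent.Lib.Lie.PSpFourThreeFull.EightLocal
import Cfsg.Agent.Lib.Lie.PSpFourThreeFull.Refl
import Cfsg.Agent.Lib.Lie.PSpFourThreeFull.ReflCentFacts

/-!
The centraliser of the reflection when the centralisers of the axes normalise the elementary subgroup.
-/

set_option autoImplicit false
set_option linter.unusedSectionVars false
set_option linter.style.haveILetI false
set_option maxRecDepth 100000

namespace Cfsg.Agent.Lie.PSpFourThreeFull

open Cfsg.Agent.Lie.PSpFourThreeAmalgam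

namespace Conf

variable {G : Type*} [Group G] [Finite G] (T : Conf G)

theorem q_pow_eq {x : G} {v : V3} (h : T.q v = x) : x ^ 3 = 1 := h ▸ T.q_cube v

namespace Signed

variable {T} (hS : T.Signed)
include hS

/-- A vector of weight three gives a conjugate of the central element. -/
theorem conj_a {v : V3} (hv : v ≠ 0) (hw : ¬ (v.1 = 0 ∨ v.2.1 = 0 ∨ v.2.2 = 0)) :
    ∃ n, n * T.q v * n⁻¹ = T.a := by
  obtain ⟨p, hp⟩ := dia_orbit v hv hw
  obtain ⟨n, hn⟩ := hS.exists_acts p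
  exact ⟨n, by rw [hn, hp, T.q_dia]⟩

/-- A conjugate of the central element in the subgroup has weight three. -/
theorem weight_of_conj {v : V3} {g : G} (h : g * T.a * g⁻¹ = T.q v) : ¬ (v.1 = 0 ∨ v.2.1 = 0 ∨ v.2.2 = 0) := by
  obtain ⟨n, hn, hna⟩ := T.fusion (g := g) (h ▸ T.q_mem v)
  obtain ⟨p, hp⟩ := hS.acts_smap hn
  rw [h, ← T.q_dia, hp] at hna
  exact T.q_inj hna ▸ dia_weight p

/-- Centralisers of vectors of smaller weight. -/
theorem weight_cent (hA : T.centQ (0, 0, 1) ≤ Subgroup.normalizer (T.J : Set G)) {v : V3} (hv : v ≠ 0)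
    (hw : v.1 = 0 ∨ v.2.1 = 0 ∨ v.2.2 = 0) {x : G} (hx : x * T.q v = T.q v * x) :
    x ∈ Subgroup.normalizer (T.J : Set G) := by
  obtain ⟨p, hp⟩ := weight_cases v hv hw
  obtain ⟨n, hn⟩ := hS.exists_acts p
  have h1 := T.acts_conj_comm hn hx
  have hnN := Acts.mem_normalizer T hn
  have h2 : n * x * n⁻¹ ∈ Subgroup.normalizer (T.J : Set G) := by
    rcases hp with h | h <;> rw [h] at h1
    · exact hA (T.mem_centQ.2 h1)
    · exact hS.pair_cent (T.mem_centQ.2 h1)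
  have h3 := Subgroup.mul_mem _ (Subgroup.mul_mem _ (Subgroup.inv_mem _ hnN) h2) hnN
  rwa [show n⁻¹ * (n * x * n⁻¹) * n = x by group] at h3

/-- The plane of the reflection. -/
noncomputable def Pr : Subgroup G := T.J ⊓ Subgroup.centralizer ({hS.R} : Set G)

theorem mem_Pr {x : G} : x ∈ hS.Pr ↔ ∃ v, v.2.2 = 0 ∧ T.q v = x := by
  constructor
  · rintro ⟨hx, hc⟩
    obtain ⟨v, rfl⟩ := T.mem_J.1 hx
    exact ⟨v, (sgC_fixed v).1 ((Acts.comm_iff T hS.R_acts).1 (Subgroup.mem_centralizer_singleton_iff.1 hc).symm), rfl⟩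
  · rintro ⟨v, hv, rfl⟩
    exact ⟨T.q_mem v, Subgroup.mem_centralizer_singleton_iff.2
      ((Acts.comm_iff T hS.R_acts).2 ((sgC_fixed v).2 hv)).symm⟩

theorem Pr_R {x : G} (hx : x ∈ hS.Pr) : x * hS.R = hS.R * x := Subgroup.mem_centralizer_singleton_iff.1 hx.2

theorem card_Pr : Nat.card hS.Pr = 9 := by
  let f : ZMod 3 × ZMod 3 → hS.Pr := fun p => ⟨T.q (p.1, p.2, 0), hS.mem_Pr.2 ⟨_, rfl, rfl⟩⟩
  rw [← Nat.card_eq_of_bijective f ⟨fun p q h => ?_, fun x => ?_⟩, Nat.card_prod, Nat.card_zmod]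
  · have := T.q_inj (congrArg Subtype.val h)
    simp only [Prod.mk.injEq, and_true] at this
    exact Prod.ext this.1 this.2
  · obtain ⟨⟨a, b, c⟩, hc, hx⟩ := hS.mem_Pr.1 x.2
    simp only at hc
    subst hc
    exact ⟨(a, b), Subtype.ext hx⟩

/-- An element normalising the plane of the reflection normalises the subgroup. -/
theorem Pr_normal {g : G} (h : ∀ x ∈ hS.Pr, g * x * g⁻¹ ∈ hS.Pr) : g ∈ Subgroup.normalizer (T.J : Set G) := by
  obtain ⟨u, -, hu⟩ := hS.mem_Pr.1 (h _ (hS.mem_Pr.2 ⟨(1, 0, 0), rfl, rfl⟩))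
  obtain ⟨w, -, hw⟩ := hS.mem_Pr.1 (h _ (hS.mem_Pr.2 ⟨(0, 1, 0), rfl, rfl⟩))
  exact hS.plane_conj plane_basic.1 hu.symm hw.symm

/-- The maps induced by the normaliser inside the centraliser of the reflection commute with it. -/
theorem R_maps {g : G} (hg : g ∈ Subgroup.normalizer (T.J : Set G)) (hR : g * hS.R = hS.R * g) :
    ∃ p, T.Acts g (smap p) ∧ ∀ u, smap p (sgC u) = sgC (smap p u) := by
  obtain ⟨p, hp⟩ := hS.acts_smap hg
  exact ⟨p, hp, fun u => T.q_inj (by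
    rw [← Acts.mul T hp hS.R_acts u, ← Acts.mul T hS.R_acts hp u, hR])⟩

/-- Elements of order three of the centraliser of the reflection lie in a conjugate of its plane. -/
theorem three_R {x : G} (hx : x * hS.R = hS.R * x) (h3 : x ^ 3 = 1) :
    ∃ c, c * hS.R = hS.R * c ∧ c * x * c⁻¹ ∈ hS.Pr := by
  haveI : Fact (Nat.Prime 3) := ⟨Nat.prime_three⟩
  set X := Subgroup.centralizer ({hS.R} : Set G)
  have hPX : hS.Pr ≤ X := inf_le_right
  set P₀ := hS.Pr.subgroupOf X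
  obtain ⟨Q, hQ⟩ := (IsPGroup.of_card (n := 2) (by
    rw [Nat.card_congr (Subgroup.subgroupOfEquivOfLe hPX).toEquiv, hS.card_Pr]; norm_num) :
      IsPGroup 3 P₀).exists_le_sylow
  have hQe : (Q : Subgroup X) = P₀ := by
    by_contra hne
    haveI : Group.IsNilpotent (Q : Subgroup X) := Q.2.isNilpotent
    have hlt : P₀.subgroupOf Q < ⊤ := lt_top_iff_ne_top.2 fun e =>
      hne (le_antisymm (Subgroup.subgroupOf_eq_top.1 e) hQ)
    obtain ⟨y, hyN, hyP⟩ := SetLike.exists_of_lt (Group.normalizerCondition_of_isNilpotent _ hlt)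
    have hy : ∀ z ∈ hS.Pr, ((y : X) : G) * z * ((y : X) : G)⁻¹ ∈ hS.Pr := fun z hz =>
      Subgroup.mem_subgroupOf.1 ((Subgroup.mem_normalizer_iff.1 hyN
        ⟨⟨z, hPX hz⟩, hQ (Subgroup.mem_subgroupOf.2 hz)⟩).1 (Subgroup.mem_subgroupOf.2 hz))
    have hyR : ((y : X) : G) * hS.R = hS.R * ((y : X) : G) := Subgroup.mem_centralizer_singleton_iff.1 (y : X).2
    obtain ⟨p, hp, hpc⟩ := hS.R_maps (hS.Pr_normal hy) hyR
    have hit : ∀ n : ℕ, T.Acts (((y : X) : G) ^ n) ((smap p)^[n]) := by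
      intro n
      induction n with
      | zero => exact fun u => by simp
      | succ n ih => exact fun u => by rw [pow_succ, Function.iterate_succ_apply]; exact Acts.mul T ih hp u
    have h8 : ((y : X) : G) ^ 8 ∈ T.J := T.mem_J_of_acts fun u => by
      rw [hit 8 u, sgC_inv_three p hpc u]
      rfl
    obtain ⟨n, hn⟩ := Q.2 y
    have hn' : ((y : X) : G) ^ 3 ^ n = 1 := congrArg (fun z : (Q : Subgroup X) => ((z : X) : G)) hn
    obtain ⟨k, hk⟩ := exists_pow_eq_self_of_coprime (x := ((y : X) : G)) (n := 8)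
      (Nat.Coprime.coprime_dvd_right (orderOf_dvd_iff_pow_eq_one.2 hn') (Nat.Coprime.pow_right n (by norm_num)))
    exact hyP (Subgroup.mem_subgroupOf.2 (Subgroup.mem_subgroupOf.2
      ⟨hk ▸ T.J.pow_mem h8 k, Subgroup.mem_centralizer_singleton_iff.2 hyR⟩))
  have hxX : x ∈ X := Subgroup.mem_centralizer_singleton_iff.2 hx
  have hz : IsPGroup 3 (Subgroup.zpowers (⟨x, hxX⟩ : X)) := by
    intro y
    refine ⟨1, ?_⟩
    obtain ⟨k, hk⟩ := Subgroup.mem_zpowers_iff.1 y.2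
    refine Subtype.ext ?_
    rw [SubgroupClass.coe_pow, ← hk, ← zpow_natCast, ← zpow_mul, mul_comm, zpow_mul, zpow_natCast, pow_one,
      show (⟨x, hxX⟩ : X) ^ 3 = 1 from Subtype.ext h3, one_zpow]
    rfl
  obtain ⟨Q', hQ'⟩ := hz.exists_le_sylow
  obtain ⟨c, hc⟩ := MulAction.exists_smul_eq X Q' Q
  refine ⟨c, Subgroup.mem_centralizer_singleton_iff.1 c.2, ?_⟩
  have h1 : (MulAut.conj c) ⟨x, hxX⟩ ∈ ((c • Q' : Sylow 3 X) : Subgroup X) := by
    rw [Sylow.coe_subgroup_smul]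
    exact Subgroup.smul_mem_pointwise_smul _ (MulAut.conj c) _ (hQ' (Subgroup.mem_zpowers _))
  rw [hc, hQe] at h1
  exact Subgroup.mem_subgroupOf.1 h1

/-- A conjugate of the reflection commuting with an element of the subgroup. -/
theorem refl_conj (hA : T.centQ (0, 0, 1) ≤ Subgroup.normalizer (T.J : Set G)) {g : G} {v : V3} (hv : v ≠ 0)
    (h : g * hS.R * g⁻¹ * T.q v = T.q v * (g * hS.R * g⁻¹)) :
    ∃ n ∈ Subgroup.normalizer (T.J : Set G), g * hS.R * g⁻¹ = n * hS.R * n⁻¹ := by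
  have hy : g⁻¹ * T.q v * g * hS.R = hS.R * (g⁻¹ * T.q v * g) := by
    calc g⁻¹ * T.q v * g * hS.R = g⁻¹ * (T.q v * (g * hS.R * g⁻¹)) * g := by group
      _ = _ := by rw [← h]; group
  obtain ⟨c, hc, hcx⟩ := hS.three_R hy (by
    rw [show g⁻¹ * T.q v * g = g⁻¹ * T.q v * g⁻¹⁻¹ by group, conj_pow, T.q_cube]
    group)
  obtain ⟨w, hw, hwq⟩ := hS.mem_Pr.1 hcx
  set g' := g * c⁻¹ with hg'
  have hgR : g' * hS.R * g'⁻¹ = g * hS.R * g⁻¹ := by
    have : c⁻¹ * hS.R * c = hS.R := by rw [mul_assoc, ← hc, inv_mul_cancel_left]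
    calc g' * hS.R * g'⁻¹ = g * (c⁻¹ * hS.R * c) * g⁻¹ := by rw [hg']; group
      _ = _ := by rw [this]
  have hconj : g' * T.q w * g'⁻¹ = T.q v := by rw [hwq, hg']; group
  have hweight : v.1 = 0 ∨ v.2.1 = 0 ∨ v.2.2 = 0 := by
    by_contra hcon
    obtain ⟨n, hn⟩ := hS.conj_a hv hcon
    refine hS.weight_of_conj (v := w) (g := g'⁻¹ * n⁻¹) ?_ (Or.inr (Or.inr hw))
    rw [← hn, ← hconj]
    group
  have hin : ∀ u : V3, u.2.2 = 0 → g' * T.q u * g'⁻¹ ∈ T.J := by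
    intro u hu
    have hcomm : g' * T.q u * g'⁻¹ * T.q v = T.q v * (g' * T.q u * g'⁻¹) := by
      rw [← hconj, conj_mul, conj_mul, T.q_comm]
    obtain ⟨p, hp⟩ := hS.acts_smap (hS.weight_cent hA hv hweight hcomm)
    have h3 : ∀ z, smap p (smap p (smap p z)) = z := fun z => T.q_inj (by
      rw [← Acts.mul T (Acts.mul T hp hp) hp z, ← pow_two, ← pow_succ, conj_pow, T.q_cube]
      simp)
    exact T.mem_J_of_acts fun z => by
      rw [hp z, stab_trivial v hv hweight p ((Acts.comm_iff T hp).1 hcomm) h3 z]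
      rfl
  obtain ⟨u₁, hu₁⟩ := T.mem_J.1 (hin (1, 0, 0) rfl)
  obtain ⟨u₂, hu₂⟩ := T.mem_J.1 (hin (0, 1, 0) rfl)
  exact ⟨g', hS.plane_conj plane_basic.1 hu₁.symm hu₂.symm, hgR.symm⟩

end Signed

end Conf

end Cfsg.Agent.Lie.PSpFourThreeFull
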