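import Cfsg.Agent.Lib.Lie.PSpFourThreeFull.AxisFacts
import Cfsg.Agent.Lib.Lie.PSpFourThreeFull.ReflCentFacts

/-!
Finite facts separating the classes of the products of reflections.
-/

set_option autoImplicit false
set_option maxRecDepth 100000
set_option synthInstance.maxSize 4000
set_option synthInstance.maxHeartbeats 400000
set_option Elab.async false

namespace Cfsg.Agent.Lie.PSpFourThreeFull

open Cfsg.Agent.Lie.PSpFourThreeAmalgam
open Cfsg.Agent.Small.ShapeThree (M omega S)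

theorem plane_other : ∀ v : V3, v.2.2 = 0 → ∃ w : V3, w.2.2 = 0 ∧ ∀ a : ZMod 3, w ≠ a • v := by decide +kernel

theorem pair_fixed : ∀ v : V3, mT (sgC v) = v → sgC (mT v) = v → ∃ a : ZMod 3, v = a • ((1, 1, 0) : V3) := by
  decide +kernel

theorem uni_flat : ∀ u : V3, uni (2 * (u.1 + u.2.1 + u.2.2)) = 1 → u.1 + u.2.1 + u.2.2 = 0 := by decide +kernel

theorem flat_pair : ∀ u : V3, u.1 + u.2.1 + u.2.2 = 0 → u ≠ 0 → u ≠ dia → u ≠ -dia →
    (u.1 = 0 ∨ u.2.1 = 0 ∨ u.2.2 = 0) ∧ ∃ p : Fin 24 × Bool, smap p u = (1, 1, 0) := by decide +kernel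

theorem flat_inverting : ∀ u : V3, u.1 + u.2.1 + u.2.2 = 0 → u ≠ 0 → u ≠ dia → u ≠ -dia →
    ∀ p : Fin 24 × Bool, smap p u = u → smap p dia = -dia → ∀ v : V3, smap p v = v → ∃ a : ZMod 3, v = a • u := by
  decide +kernel

theorem three_maps : ∀ v : V3, sgC (mU (sgC (mU (mU (mU (mU (sgC (mU (mU (mU (mU v))))))))))) = -v := by
  decide +kernel

theorem sm_form : (⟨0, ![0, 1], 1⟩ : M) = sm := rfl

theorem six_pair : ∀ p : Fin 24 × Bool, smap p (1, 1, 0) = (1, 1, 0) → (∀ u, smap p (smap p (smap p u)) = u) →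
    ∀ u, smap p u = u := by decide +kernel

namespace Axis

theorem invol_reps : ∀ σ : P6, σ * σ = 1 → σ ≠ 1 →
    ∃ h : P6, h * σ * h⁻¹ = w1 ∨ h * σ * h⁻¹ = w1 * w2 ∨ h * σ * h⁻¹ = tau := by decide +kernel

theorem edges : Equiv.swap (0 : Fin 6) 1 = s1 * w1 ∧ Equiv.swap (3 : Fin 6) 4 = s2 * w2 ∧ Equiv.swap (1 : Fin 6) 2 = w1 ∧ Equiv.swap (4 : Fin 6) 5 = w2 ∧ Equiv.swap (0 : Fin 6) 3 = rho := by
  decide +kernel



end Axis

end Cfsg.Agent.Lie.PSpFourThreeFull
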