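import Cfsg.Agent.Lib.Lie.PSpFourThreeFull.AxisLift
import Cfsg.Agent.Lib.Lie.PSpFourThreeFull.ReflClassFacts
import Cfsg.Agent.Lib.Lie.PSpFourThreeFull.ReflCent
import Cfsg.Agent.Lib.Lie.PSpFourThreeFull.QuatCent

/-!
Products of commuting reflections are no conjugates of the reflection.
-/

set_option autoImplicit false
set_option linter.unusedSectionVars false
set_option maxRecDepth 100000
set_option synthInstance.maxSize 4000
set_option synthInstance.maxHeartbeats 400000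

namespace Cfsg.Agent.Lie.PSpFourThreeFull

open Cfsg.Agent.Lie.PSpFourThreeAmalgam
open Cfsg.Agent.Small.ShapeThree (M)

namespace Conf

variable {G : Type*} [Group G] [Finite G] (T : Conf G)

theorem pow_q {v : V3} (k : ℕ) : T.q v ^ k = T.q ((k : ZMod 3) • v) := by
  rw [T.q_smul, ZMod.val_natCast]
  exact (pow_eq_pow_mod k (T.q_cube v))

theorem three_smap {g : G} {p : Fin 24 × Bool} (hp : T.Acts g (smap p)) (h3 : g ^ 3 = 1) :
    ∀ u, smap p (smap p (smap p u)) = u := fun u => T.q_inj (by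
  rw [← hp, ← hp, ← hp]
  calc g * (g * (g * T.q u * g⁻¹) * g⁻¹) * g⁻¹ = g ^ 3 * T.q u * (g ^ 3)⁻¹ := by
        rw [pow_succ, pow_two]; group
    _ = T.q u := by rw [h3]; simp)

namespace Signed

variable {T} (hS : T.Signed)
include hS

/-- A conjugate of the reflection and an element of order three in its centraliser leave room for another one. -/
theorem conj_R_three {g y : G} (hy : Commute y (g * hS.R * g⁻¹)) (h3 : y ^ 3 = 1) :
    ∃ w, w ^ 3 = 1 ∧ Commute w (g * hS.R * g⁻¹) ∧ Commute w y ∧ ∀ k : ℕ, w ≠ y ^ k := by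
  have hy' : g⁻¹ * y * g * hS.R = hS.R * (g⁻¹ * y * g) := by
    calc g⁻¹ * y * g * hS.R = g⁻¹ * (y * (g * hS.R * g⁻¹)) * g := by group
      _ = _ := by rw [hy.eq]; group
  obtain ⟨c, hc, hcy⟩ := hS.three_R hy' (by
    calc (g⁻¹ * y * g) ^ 3 = g⁻¹ * y ^ 3 * g := by rw [pow_succ, pow_two, pow_succ, pow_two]; group
      _ = 1 := by rw [h3]; group)
  obtain ⟨v, hv, hvq⟩ := hS.mem_Pr.1 hcy
  obtain ⟨w, hw, hwv⟩ := plane_other v hv
  have hy0 : y = g * c⁻¹ * T.q v * (g * c⁻¹)⁻¹ := by rw [hvq]; group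
  have hR0 : g * hS.R * g⁻¹ = g * c⁻¹ * hS.R * (g * c⁻¹)⁻¹ := by
    calc g * hS.R * g⁻¹ = g * c⁻¹ * (c * hS.R) * g⁻¹ := by group
      _ = g * c⁻¹ * (hS.R * c) * g⁻¹ := by rw [hc]
      _ = _ := by group
  refine ⟨g * c⁻¹ * T.q w * (g * c⁻¹)⁻¹, by rw [conj_pow, T.q_cube, mul_one, mul_inv_cancel], ?_, ?_, fun k hk => ?_⟩
  · rw [hR0]
    exact conj_commute (hS.Pr_R (hS.mem_Pr.2 ⟨w, hw, rfl⟩))
  · rw [hy0]
    exact conj_commute (T.q_comm w v)
  · rw [hy0, conj_pow, T.pow_q] at hk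
    exact hwv _ (T.q_inj (mul_left_cancel (mul_right_cancel hk)))

/-- The involution is not conjugate to the reflection. -/
theorem tm_not_R (g : G) : g * hS.R * g⁻¹ ≠ T.φ tm := fun h => by
  have ha : Commute T.a (g * hS.R * g⁻¹) := by rw [h]; exact (T.cent_a.2 ⟨tm, rfl⟩).symm
  have hy' : g⁻¹ * T.a * g * hS.R = hS.R * (g⁻¹ * T.a * g) := by
    calc g⁻¹ * T.a * g * hS.R = g⁻¹ * (T.a * (g * hS.R * g⁻¹)) * g := by group
      _ = _ := by rw [ha.eq]; group
  obtain ⟨c, -, hcy⟩ := hS.three_R hy' (by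
    calc (g⁻¹ * T.a * g) ^ 3 = g⁻¹ * T.a ^ 3 * g := by rw [pow_succ, pow_two, pow_succ, pow_two]; group
      _ = 1 := by rw [T.a_cube]; group)
  obtain ⟨v, hv, hvq⟩ := hS.mem_Pr.1 hcy
  exact hS.weight_of_conj (v := v) (g := c * g⁻¹) (by rw [hvq]; group) (Or.inr (Or.inr hv))

/-- The product with the involution is not conjugate to the reflection. -/
theorem R_tm_not_R (g : G) : g * hS.R * g⁻¹ ≠ hS.R * T.φ tm := fun h => by
  have hact : T.Acts (hS.R * T.φ tm) fun v => sgC (mT v) := Acts.mul T hS.R_acts T.tm_acts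
  have hf : Commute (T.q (1, 1, 0)) (g * hS.R * g⁻¹) := by
    rw [h]
    exact ((Acts.comm_iff T hact).2 (by decide +kernel)).symm
  obtain ⟨w, hw3, hwR, hwf, hwk⟩ := hS.conj_R_three hf (T.q_cube _)
  obtain ⟨p, hp⟩ := hS.acts_smap (hS.pair_cent (T.mem_centQ.2 hwf.eq))
  have hpf := (Acts.comm_iff T hp).1 hwf.eq
  obtain ⟨v, rfl⟩ := T.mem_J.1 (T.mem_J_of_acts (x := w) fun u => by
    rw [hp u, six_pair p hpf (T.three_smap hp hw3) u]
    rfl)
  rw [h] at hwR
  have hv : sgC (mT v) = v := (Acts.comm_iff T hact).1 hwR.symm.eq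
  obtain ⟨a, ha⟩ := pair_fixed v ((by decide +kernel : ∀ v, sgC (mT v) = mT (sgC v)) v ▸ hv) hv
  exact hwk a.val (by rw [ha, T.q_smul])

end Signed

namespace Signed.Label

variable {T} {hS : T.Signed} (hL : hS.Label)
include hL

/-- The product of the two reflections is not conjugate to the reflection. -/
theorem c12_not_R (g : G) : g * hS.R * g⁻¹ ≠ ((hS.c1 * hS.c2 : T.centQ (0, 0, 1)) : G) := fun h => by
  have he : Commute (T.q (0, 0, 1)) (g * hS.R * g⁻¹) := by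
    rw [h]
    exact (T.mem_centQ.1 (hS.c1 * hS.c2).2).symm
  obtain ⟨w, hw3, hwR, hwe, hwk⟩ := hS.conj_R_three he (T.q_cube _)
  rw [h] at hwR
  set w' : T.centQ (0, 0, 1) := ⟨w, T.mem_centQ.2 hwe.eq⟩
  have h1 : hL.π w' = 1 := by
    refine Axis.three_pair _ ?_ ?_
    · show _ * (Axis.w1 * Axis.w2) = Axis.w1 * Axis.w2 * _
      rw [← hL.r1, ← hL.r2, ← map_mul, ← map_mul, ← map_mul]
      exact congrArg hL.π (Subtype.ext hwR.eq)
    · rw [← map_mul, ← map_mul, ← map_one hL.π]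
      exact congrArg hL.π (Subtype.ext (show w * w * w = 1 by rw [← hw3, pow_succ, pow_two]))
  obtain ⟨a, ha⟩ := hL.π_one h1
  exact hwk a.val ((congrArg Subtype.val ha).trans (T.q_smul a _))

/-- The product of the three reflections is not conjugate to the reflection. -/
theorem three_not_R (g : G) : g * hS.R * g⁻¹ ≠ hS.R * ((hS.c1 * hS.c2 : T.centQ (0, 0, 1)) : G) := fun h => by
  change g * hS.R * g⁻¹ = hS.R * (T.rot hS.R * T.rot (T.rot hS.R)) at h
  set z := hS.R * (T.rot hS.R * T.rot (T.rot hS.R)) with hz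
  have hc2 : Commute hS.R (T.rot (T.rot hS.R)) := by
    have := hS.rot_comm (hS.rot_comm hS.R_rotR)
    rw [T.rot_three] at this
    exact this.symm
  have hzs : T.rot z = z := by
    rw [hz, map_mul, map_mul, T.rot_three, ← mul_assoc]
    exact ((hS.R_rotR.mul_right hc2).symm.eq)
  have hza : z * T.a * z⁻¹ = T.a⁻¹ := by
    have h1 : T.Acts (T.rot hS.R) fun v => mU (sgC (mU (mU v))) := Acts.rot T hS.R_acts
    have h2 : T.Acts (T.rot (T.rot hS.R)) fun v => mU (mU (sgC (mU (mU (mU (mU v)))))) := Acts.rot T h1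
    have hact : T.Acts z fun v => sgC (mU (sgC (mU (mU (mU (mU (sgC (mU (mU (mU (mU v))))))))))) :=
      Acts.mul T (f := sgC) (e := fun v => mU (sgC (mU (mU (mU (mU (sgC (mU (mU (mU (mU v))))))))))) hS.R_acts
        (Acts.mul T (f := fun v => mU (sgC (mU (mU v)))) (e := fun v => mU (mU (sgC (mU (mU (mU (mU v))))))) h1 h2)
    rw [← T.q_dia, hact dia, ← T.q_neg]
    exact congrArg T.q (three_maps dia)
  obtain ⟨m, hm⟩ := radical_into 0 0 1
  rw [sm_form] at hm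
  obtain ⟨u, hu⟩ := (inJ_iff _).1 hm
  have hu0 : u.1 + u.2.1 + u.2.2 = 0 := uni_flat u (by
    have h1 := congrArg (fun x : M => x.g) hu
    simp only [M.mul_g, M.inv_g] at h1
    show (jc u).g = 1
    rw [h1]
    show m.g * 1 * m.g⁻¹ = 1
    simp)
  have hne : u ≠ 0 ∧ u ≠ dia ∧ u ≠ -dia := by
    have hcen : ∀ k : ZMod 3, u ≠ k • dia := fun k hk => sm_P.2 (by
      have hc : ∀ x : M, jc u * x = x * jc u := fun x => T.inj (by
        rw [map_mul, map_mul]
        show T.q u * T.φ x = T.φ x * T.q u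
        rw [hk, T.q_smul, T.q_dia]
        exact (((show Commute (T.φ x) T.a from T.cent_a.2 ⟨x, rfl⟩).symm).pow_left _).eq)
      refine (inJ_iff _).2 ⟨u, ?_⟩
      calc jc u = m⁻¹ * (m * jc u) := by group
        _ = m⁻¹ * (jc u * m) := by rw [hc]
        _ = sm := by rw [hu]; group)
    exact ⟨fun e => hcen 0 (by rw [e, zero_smul]), fun e => hcen 1 (by rw [e, one_smul]),
      fun e => hcen (-1) (by rw [e, neg_one_smul])⟩
  obtain ⟨hwt, p₀, hp₀⟩ := flat_pair u hu0 hne.1 hne.2.1 hne.2.2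
  obtain ⟨n, hn⟩ := hS.exists_acts p₀
  have hcent : ∀ x, Commute x (T.q u) → x ∈ Subgroup.normalizer (T.J : Set G) := fun x hx => by
    have h1 : n * x * n⁻¹ ∈ T.centQ (1, 1, 0) := T.mem_centQ.2 (by
      rw [← hp₀, ← hn u]
      exact conj_commute hx.eq)
    have hnN := Acts.mem_normalizer T hn
    have h2 := Subgroup.mul_mem _ (Subgroup.mul_mem _ (Subgroup.inv_mem _ hnN) (hS.pair_cent h1)) hnN
    rwa [show n⁻¹ * (n * x * n⁻¹) * n = x by group] at h2
  set z' := T.φ m * z * (T.φ m)⁻¹ with hz'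
  have hconj : T.φ m * g * hS.R * (T.φ m * g)⁻¹ = z' := by rw [hz', ← h]; group
  have hqu : T.q u = T.φ m * T.φ sm * (T.φ m)⁻¹ := by
    rw [← map_inv, ← map_mul, ← map_mul, ← hu]
    rfl
  have hzu : Commute z' (T.q u) := by
    rw [hz', hqu]
    refine conj_commute ?_
    rw [T.rot_apply] at hzs
    exact (mul_inv_eq_iff_eq_mul.1 hzs).symm
  have hza' : z' * T.a * z'⁻¹ = T.a⁻¹ := by
    have hma : T.φ m * T.a * (T.φ m)⁻¹ = T.a := by rw [T.cent_a.2 ⟨m, rfl⟩, mul_inv_cancel_right]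
    calc z' * T.a * z'⁻¹ = T.φ m * z * ((T.φ m)⁻¹ * T.a * T.φ m) * z⁻¹ * (T.φ m)⁻¹ := by rw [hz']; group
      _ = T.φ m * (z * T.a * z⁻¹) * (T.φ m)⁻¹ := by
        rw [show (T.φ m)⁻¹ * T.a * T.φ m = T.a by rw [mul_assoc, ← T.cent_a.2 ⟨m, rfl⟩, inv_mul_cancel_left]]
        group
      _ = _ := by rw [hza, ← conj_inv, hma]
  obtain ⟨w, hw3, hwz, hwu, hwk⟩ := hS.conj_R_three (g := T.φ m * g) (y := T.q u)
    (by rw [hconj]; exact hzu.symm) (T.q_cube _)
  rw [hconj] at hwz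
  obtain ⟨p, hp⟩ := hS.acts_smap (hcent w hwu)
  obtain ⟨v, rfl⟩ := T.mem_J.1 (T.mem_J_of_acts (x := w) fun x => by
    rw [hp x, stab_trivial u hne.1 hwt p ((Acts.comm_iff T hp).1 hwu.eq) (T.three_smap hp hw3) x]
    rfl)
  obtain ⟨p', hp'⟩ := hS.acts_smap (hcent z' hzu)
  obtain ⟨a, ha⟩ := flat_inverting u hu0 hne.1 hne.2.1 hne.2.2 p' ((Acts.comm_iff T hp').1 hzu.eq)
    (T.q_inj (by rw [← hp' dia, T.q_dia, hza', ← T.q_dia, T.q_neg]))
    v ((Acts.comm_iff T hp').1 hwz.symm.eq)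
  exact hwk a.val (by rw [ha, T.q_smul])

/-- Every permutation has a preimage commuting with the reflection. -/
theorem exists_R (h : Axis.P6) : ∃ x : T.centQ (0, 0, 1), hL.π x = h ∧ hS.R * (x : G) = (x : G) * hS.R := by
  let H : Subgroup Axis.P6 :=
    ((Subgroup.centralizer ({hS.R} : Set G)).subgroupOf (T.centQ (0, 0, 1))).map hL.π
  suffices hall : ∀ σ : Axis.P6, σ ∈ H by
    obtain ⟨x, hx, rfl⟩ := hall h
    exact ⟨x, rfl, (Subgroup.mem_centralizer_singleton_iff.1 (Subgroup.mem_subgroupOf.1 hx)).symm⟩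
  have hmem : ∀ x : T.centQ (0, 0, 1), hS.R * (x : G) = (x : G) * hS.R → hL.π x ∈ H := fun x hx =>
    ⟨x, Subgroup.mem_subgroupOf.2 (Subgroup.mem_centralizer_singleton_iff.2 hx.symm), rfl⟩
  obtain ⟨e1, e2, e3, e4, e5⟩ := Axis.edges
  have hb : ∀ v : V3, sgC v = v → hS.R * T.q v = T.q v * hS.R := fun v hv => (Acts.comm_iff T hS.R_acts).2 hv
  have m1 : Equiv.swap (1 : Fin 6) 2 ∈ H := by rw [e3, ← hL.r1]; exact hmem _ hS.R_rotR.eq
  have m4 : Equiv.swap (4 : Fin 6) 5 ∈ H := by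
    rw [e4, ← hL.r2]
    refine hmem _ ?_
    have := hS.rot_comm (hS.rot_comm hS.R_rotR)
    rw [T.rot_three] at this
    exact this.symm.eq
  have m0 : Equiv.swap (0 : Fin 6) 1 ∈ H := by
    rw [e1, ← hL.e1]
    exact H.mul_mem (hmem _ (hb _ (by decide +kernel))) (e3 ▸ m1)
  have m3 : Equiv.swap (3 : Fin 6) 4 ∈ H := by
    rw [e2, ← hL.e2]
    exact H.mul_mem (hmem _ (hb _ (by decide +kernel))) (e4 ▸ m4)
  have m2 : Equiv.swap (0 : Fin 6) 3 ∈ H := by
    rw [e5, ← hL.π_lift Axis.basic_sq.2.2.2.1]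
    exact hmem _ hL.R_rho
  have c02 := SubmonoidClass.swap_mem_trans H m0 m1
  have c04 := SubmonoidClass.swap_mem_trans H m2 m3
  have c05 := SubmonoidClass.swap_mem_trans H c04 m4
  have hz : ∀ i : Fin 6, Equiv.swap (0 : Fin 6) i ∈ H := by
    intro i
    fin_cases i
    · show Equiv.swap (0 : Fin 6) 0 ∈ H
      rw [Equiv.swap_self]
      exact H.one_mem
    · exact m0
    · exact c02
    · exact m2
    · exact c04
    · exact c05
  intro σ
  induction σ using Equiv.Perm.swap_induction_on with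
  | one => exact H.one_mem
  | swap_mul f x y _ ih =>
    refine H.mul_mem ?_ ih
    exact SubmonoidClass.swap_mem_trans H (Equiv.swap_comm (0 : Fin 6) x ▸ hz x) (hz y)

/-- The reflection centralises the involutions over the six points. -/
theorem R_lift {σ : Axis.P6} (hσ : σ * σ = 1) : hS.R * (hL.lift σ : G) = (hL.lift σ : G) * hS.R := by
  obtain ⟨x, hx, hR⟩ := hL.exists_R σ
  obtain ⟨a, ha⟩ := hL.π_one (x := x * x) (by rw [map_mul, hx, hσ])
  have hRx : Commute hS.R (T.q (a • (0, 0, 1))) := by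
    rw [show T.q (a • (0, 0, 1)) = ((x * x : T.centQ (0, 0, 1)) : G) from (congrArg Subtype.val ha).symm,
      Subgroup.coe_mul]
    exact (show Commute hS.R (x : G) from hR).mul_right hR
  have ha0 : a • ((0, 0, 1) : V3) = 0 :=
    (by decide +kernel : ∀ a : ZMod 3, sgC (a • ((0, 0, 1) : V3)) = a • ((0, 0, 1) : V3) → a • ((0, 0, 1) : V3) = 0)
      a ((Acts.comm_iff T hS.R_acts).1 hRx.eq)
  have hx2 : x * x = 1 := by rw [ha, ha0]; exact Subtype.ext T.q_zero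
  rw [← hL.eq_lift hx2 hx]
  exact hR

/-- The classes met by the involutions over the six points. -/
theorem lift_class {σ : Axis.P6} (hσ : σ * σ = 1) (h1 : σ ≠ 1) :
    (∀ g, g * hS.R * g⁻¹ ≠ hS.R * (hL.lift σ : G)) ∧
    ((∀ g, g * hS.R * g⁻¹ ≠ (hL.lift σ : G)) ∨ ∃ h : Axis.P6, h * σ * h⁻¹ = Axis.w1) := by
  have hinv : ∀ τ h : Axis.P6, τ * τ = 1 → h * σ * h⁻¹ = τ → ∀ b : G, (b = 1 ∨ b = hS.R) →
      (∀ g, g * hS.R * g⁻¹ ≠ b * (hL.lift τ : G)) → ∀ g, g * hS.R * g⁻¹ ≠ b * (hL.lift σ : G) := by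
    intro τ h hτ he b hb hne g hg
    obtain ⟨x, hx, hR⟩ := hL.exists_R h
    refine hne ((x : G) * g) ?_
    have hxb : (x : G) * b * (x : G)⁻¹ = b := by
      rcases hb with rfl | rfl
      · group
      · rw [← hR, mul_inv_cancel_right]
    have hc : (x : G) * (hL.lift σ : G) * (x : G)⁻¹ = (hL.lift τ : G) := by
      rw [← he, ← hx, ← hL.lift_conj x hσ]
      rfl
    calc (x : G) * g * hS.R * ((x : G) * g)⁻¹ = (x : G) * (g * hS.R * g⁻¹) * (x : G)⁻¹ := by group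
      _ = (x : G) * b * (x : G)⁻¹ * ((x : G) * (hL.lift σ : G) * (x : G)⁻¹) := by rw [hg]; group
      _ = _ := by rw [hxb, hc]
  obtain ⟨b1, b2, bt, -⟩ := Axis.basic_sq
  have hd : (Axis.w1 * Axis.w2) * (Axis.w1 * Axis.w2) = 1 := by decide +kernel
  have hl12 : hL.lift (Axis.w1 * Axis.w2) = hS.c1 * hS.c2 := by
    rw [(hL.lift_mul b1 b2 (by decide +kernel)).1, hL.lift_w1, hL.lift_w2]
  have hp1 : ∀ g, g * hS.R * g⁻¹ ≠ hS.R * (hL.lift Axis.w1 : G) := fun g hg => by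
    rw [hL.lift_w1] at hg
    change g * hS.R * g⁻¹ = hS.R * T.rot hS.R at hg
    refine hL.c12_not_R (T.φ sm * g) ?_
    show _ = T.rot hS.R * T.rot (T.rot hS.R)
    rw [← map_mul, T.rot_apply, ← hg]
    group
  obtain ⟨h, he | he | he⟩ := Axis.invol_reps σ hσ h1
  · exact ⟨hinv _ h b1 he _ (Or.inr rfl) hp1, Or.inr ⟨h, he⟩⟩
  · refine ⟨hinv _ h hd he _ (Or.inr rfl) (fun g => hl12 ▸ hL.three_not_R g), Or.inl fun g => ?_⟩
    have := hinv _ h hd he 1 (Or.inl rfl) (fun g => by rw [one_mul, hl12]; exact hL.c12_not_R g) g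
    rwa [one_mul] at this
  · refine ⟨hinv _ h bt he _ (Or.inr rfl) (fun g => by rw [hL.lift_tau]; exact hS.R_tm_not_R g), Or.inl fun g => ?_⟩
    have := hinv _ h bt he 1 (Or.inl rfl) (fun g => by rw [one_mul, hL.lift_tau]; exact hS.tm_not_R g) g
    rwa [one_mul] at this

end Signed.Label

end Conf

end Cfsg.Agent.Lie.PSpFourThreeFull
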