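import Cfsg.Agent.Lib.Lie.PSpFourThreeFull.ReflCent

/-!
The order of the centraliser of the reflection.
-/

set_option autoImplicit false
set_option linter.unusedSectionVars false
set_option linter.style.haveILetI false
set_option maxRecDepth 100000

namespace Cfsg.Agent.Lie.PSpFourThreeFull

open Cfsg.Agent.Lie.PSpFourThreeAmalgam

theorem adjust_third : ∀ u : V3, ∃ w : V3, sgC u = -u → sgC w + u = w := by decide +kernel

theorem invol_three_eq {G : Type*} [Group G] {r x : G} (hr : r * r = 1) (hx : x ^ 3 = 1) (hc : r * x = x * r) {y : G}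
    (hy : y ^ 3 = 1) (h : y = x ∨ y = x * r) : y = x := by
  rcases h with h | h
  · exact h
  · have hrr : r ^ 3 = r := by rw [pow_succ, pow_two, hr, one_mul]
    rw [h, (show Commute x r from hc.symm).mul_pow, hx, one_mul, hrr] at hy
    rw [h, hy, mul_one]

namespace Conf.Signed

variable {G : Type*} [Group G] [Finite G] {T : Conf G} (hS : T.Signed)
include hS

/-- The centraliser of the reflection has order at most 1440. -/
theorem card_cent_R (hA : T.centQ (0, 0, 1) ≤ Subgroup.normalizer (T.J : Set G)) :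
    Nat.card (Subgroup.centralizer ({hS.R} : Set G)) ≤ 1440 := by
  classical
  haveI : Fact (Nat.Prime 3) := ⟨Nat.prime_three⟩
  set X := Subgroup.centralizer ({hS.R} : Set G) with hX
  have hmX : ∀ x, x ∈ X ↔ x * hS.R = hS.R * x := fun x => Subgroup.mem_centralizer_singleton_iff
  set r : X := ⟨hS.R, (hmX _).2 rfl⟩ with hr
  set L := Subgroup.zpowers r with hL
  haveI hLn : L.Normal := by
    refine ⟨fun x hx y => ?_⟩
    obtain ⟨k, rfl⟩ := hx
    refine ⟨k, ?_⟩
    show r ^ k = y * r ^ k * y⁻¹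
    rw [((show Commute y r from Subtype.ext ((hmX _).1 y.2)).zpow_right k).eq, mul_inv_cancel_right]
  have hr2 : r * r = 1 := Subtype.ext hS.R_invol
  have hr1 : r ≠ 1 := fun h => hS.R_ne (congrArg Subtype.val h)
  have hLmem : ∀ x : X, x ∈ L ↔ x = 1 ∨ x = r := by
    intro x
    constructor
    · rintro ⟨k, rfl⟩
      rcases Int.even_or_odd' k with ⟨m, rfl | rfl⟩
      · exact Or.inl (by
          show r ^ (2 * m) = 1
          rw [zpow_mul, zpow_two, hr2, one_zpow])
      · exact Or.inr (by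
          show r ^ (2 * m + 1) = r
          rw [zpow_add, zpow_mul, zpow_two, hr2, one_zpow, one_mul, zpow_one])
    · rintro (rfl | rfl)
      · exact L.one_mem
      · exact Subgroup.mem_zpowers _
  have hLc : Nat.card L = 2 := by
    rw [Nat.card_zpowers, orderOf_eq_prime (by rw [pow_two, hr2]) hr1]
  set π := QuotientGroup.mk' L
  have hPX : hS.Pr ≤ X := inf_le_right
  set P₀ := hS.Pr.subgroupOf X
  have hP₀ : Nat.card P₀ = 9 := by
    rw [Nat.card_congr (Subgroup.subgroupOfEquivOfLe hPX).toEquiv, hS.card_Pr]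
  have hinj : ∀ x ∈ P₀, π x = 1 → x = 1 := by
    intro x hx h
    rcases (hLmem x).1 ((QuotientGroup.eq_one_iff x).1 h) with h | h
    · exact h
    · exfalso
      obtain ⟨v, -, hv⟩ := hS.mem_Pr.1 (Subgroup.mem_subgroupOf.1 hx)
      rw [h] at hv
      have h3 := T.q_cube v
      rw [hv] at h3
      change hS.R ^ 3 = 1 at h3
      rw [pow_succ, pow_two, hS.R_invol, one_mul] at h3
      exact hS.R_ne h3
  have hlift : ∀ (x : X) (u : V3), u.2.2 = 0 → ∀ y : X, (y : G) = T.q u → ∀ z : X, ∀ u' : V3, u'.2.2 = 0 →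
      (z : G) = T.q u' → π (x * y * x⁻¹) = π z → (x : G) * T.q u * (x : G)⁻¹ = T.q u' := by
    intro x u hu y hy z u' hu' hz h
    refine invol_three_eq hS.R_invol (T.q_cube u') ((Acts.comm_iff T hS.R_acts).2 ((sgC_fixed u').2 hu'))
      (by rw [conj_pow, T.q_cube, mul_one, mul_inv_cancel]) ?_
    have h1 := (QuotientGroup.eq).1 h.symm
    rcases (hLmem _).1 h1 with h2 | h2 <;> rw [inv_mul_eq_iff_eq_mul] at h2
    · exact Or.inl (by
        have h3 := congrArg Subtype.val h2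
        simpa [hy, hz] using h3)
    · exact Or.inr (by
        have h3 := congrArg Subtype.val h2
        simpa [hy, hz, hr] using h3)
  set P' := P₀.map π with hP'
  have hnorm : ∀ x : X, π x ∈ Subgroup.normalizer (P' : Set (X ⧸ L)) → (x : G) ∈ Subgroup.normalizer (T.J : Set G) := by
    intro x hx
    refine hS.Pr_normal fun y hy => ?_
    obtain ⟨u, hu, rfl⟩ := hS.mem_Pr.1 hy
    obtain ⟨z, hz, hzx⟩ := (Subgroup.mem_normalizer_iff.1 hx (π ⟨T.q u, hPX hy⟩)).1
      ⟨_, Subgroup.mem_subgroupOf.2 hy, rfl⟩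
    obtain ⟨u', hu', hzu⟩ := hS.mem_Pr.1 (Subgroup.mem_subgroupOf.1 hz)
    rw [← map_inv, ← map_mul, ← map_mul] at hzx
    rw [hlift x u hu ⟨T.q u, hPX hy⟩ rfl z u' hu' hzu.symm hzx.symm]
    exact hS.mem_Pr.2 ⟨u', hu', rfl⟩
  have hnorm' : ∀ x : X, (x : G) ∈ Subgroup.normalizer (T.J : Set G) → π x ∈ Subgroup.normalizer (P' : Set (X ⧸ L)) := by
    intro x hx
    rw [Subgroup.mem_normalizer_iff_map_conj_eq]
    refine Subgroup.eq_of_le_of_card_ge ?_ (Subgroup.card_map_of_injective (MulEquiv.injective _)).ge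
    rintro _ ⟨_, ⟨y, hy, rfl⟩, rfl⟩
    obtain ⟨p, hp, hpc⟩ := hS.R_maps hx ((hmX _).1 x.2)
    obtain ⟨u, hu, huy⟩ := hS.mem_Pr.1 (Subgroup.mem_subgroupOf.1 hy)
    refine ⟨x * y * x⁻¹, Subgroup.mem_subgroupOf.2 (hS.mem_Pr.2 ⟨smap p u, ?_, ?_⟩), by simp⟩
    · obtain ⟨a, b, c⟩ := u
      simp only at hu
      subst hu
      exact (sgC_plane p hpc).2.2 a b
    · rw [← hp, huy]
      rfl
  have hc9 : Nat.card P' = 9 := by
    rw [← hP₀]
    refine (Nat.card_eq_of_bijective (fun x : P₀ => (⟨π x.1, x.1, x.2, rfl⟩ : P')) ⟨fun x y h => ?_, ?_⟩).symm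
    · have h1 : π ((x : X)⁻¹ * y) = 1 := by
        rw [map_mul, map_inv, inv_mul_eq_one]
        exact congrArg Subtype.val h
      exact Subtype.ext (inv_mul_eq_one.1 (hinj _ (P₀.mul_mem (P₀.inv_mem x.2) y.2) h1))
    · rintro ⟨_, x, hx, rfl⟩
      exact ⟨⟨x, hx⟩, rfl⟩
  obtain ⟨Q, hQ⟩ := (IsPGroup.of_card (n := 2) (by rw [hc9]; norm_num) : IsPGroup 3 P').exists_le_sylow
  have hQe : (Q : Subgroup (X ⧸ L)) = P' := by
    by_contra hne
    haveI : Group.IsNilpotent (Q : Subgroup (X ⧸ L)) := Q.2.isNilpotent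
    have hlt : P'.subgroupOf Q < ⊤ := lt_top_iff_ne_top.2 fun e =>
      hne (le_antisymm (Subgroup.subgroupOf_eq_top.1 e) hQ)
    obtain ⟨y, hyN, hyP⟩ := SetLike.exists_of_lt (Group.normalizerCondition_of_isNilpotent _ hlt)
    have hyN' : (y : X ⧸ L) ∈ Subgroup.normalizer (P' : Set (X ⧸ L)) := by
      rw [Subgroup.mem_normalizer_iff_map_conj_eq]
      refine Subgroup.eq_of_le_of_card_ge ?_ (Subgroup.card_map_of_injective (MulEquiv.injective _)).ge
      rintro _ ⟨z, hz, rfl⟩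
      exact Subgroup.mem_subgroupOf.1 ((Subgroup.mem_normalizer_iff.1 hyN ⟨z, hQ hz⟩).1 (Subgroup.mem_subgroupOf.2 hz))
    obtain ⟨x, hx⟩ := QuotientGroup.mk'_surjective L (y : X ⧸ L)
    obtain ⟨p, hp, hpc⟩ := hS.R_maps (hnorm x (show π x ∈ _ from hx ▸ hyN')) ((hmX _).1 x.2)
    have hit : ∀ n : ℕ, T.Acts ((x : G) ^ n) ((smap p)^[n]) := by
      intro n
      induction n with
      | zero => exact fun u => by simp
      | succ n ih => exact fun u => by rw [pow_succ, Function.iterate_succ_apply]; exact Acts.mul T ih hp u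
    have h8 : (x : G) ^ 8 ∈ T.J := T.mem_J_of_acts fun u => by
      rw [hit 8 u, sgC_inv_three p hpc u]
      rfl
    have h8' : (y : X ⧸ L) ^ 8 ∈ P' := by
      rw [← hx, ← map_pow]
      exact ⟨x ^ 8, Subgroup.mem_subgroupOf.2 ⟨by simpa using h8,
        (by exact (x ^ 8).2)⟩, rfl⟩
    obtain ⟨n, hn⟩ := Q.2 y
    have hn' : (y : X ⧸ L) ^ 3 ^ n = 1 := congrArg Subtype.val hn
    obtain ⟨k, hk⟩ := exists_pow_eq_self_of_coprime (x := (y : X ⧸ L)) (n := 8)
      (Nat.Coprime.coprime_dvd_right (orderOf_dvd_iff_pow_eq_one.2 hn') (Nat.Coprime.pow_right n (by norm_num)))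
    exact hyP (Subgroup.mem_subgroupOf.2 (hk ▸ P'.pow_mem h8' k))
  have hcentP : ∀ x : X, π x ∈ Subgroup.centralizer (P' : Set (X ⧸ L)) → π x ∈ P' := by
    intro x hx
    obtain ⟨p, hp, hpc⟩ := hS.R_maps (hnorm x (Subgroup.centralizer_le_normalizer _ hx)) ((hmX _).1 x.2)
    have hfix : ∀ u : V3, u.2.2 = 0 → smap p u = u := by
      intro u hu
      have hy : T.q u ∈ hS.Pr := hS.mem_Pr.2 ⟨u, hu, rfl⟩
      have hc := Subgroup.mem_centralizer_iff.1 hx (π ⟨T.q u, hPX hy⟩) ⟨_, Subgroup.mem_subgroupOf.2 hy, rfl⟩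
      have h1 : π (x * ⟨T.q u, hPX hy⟩ * x⁻¹) = π ⟨T.q u, hPX hy⟩ := by
        rw [map_mul, map_mul, map_inv, ← hc, mul_inv_cancel_right]
      exact T.q_inj ((hp u).symm.trans (hlift x u hu _ rfl _ u hu rfl h1))
    rcases plane_fix p (hfix _ rfl) (hfix _ rfl) with h | h
    · refine ⟨x, Subgroup.mem_subgroupOf.2 ⟨T.mem_J_of_acts fun u => by rw [hp u, h u]; rfl, x.2⟩, rfl⟩
    · refine ⟨x * r, Subgroup.mem_subgroupOf.2 ⟨T.mem_J_of_acts fun u => ?_, (x * r).2⟩, ?_⟩
      · show (x : G) * hS.R * T.q u * ((x : G) * hS.R)⁻¹ = _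
        rw [Acts.mul T hp hS.R_acts u]
        show T.q (smap p (sgC u)) = _
        rw [h, sgC_two]
        rfl
      · rw [map_mul, show π r = 1 from (QuotientGroup.eq_one_iff r).2 (Subgroup.mem_zpowers _), mul_one]
  have hC : Subgroup.centralizer (P' : Set (X ⧸ L)) = P' := by
    refine le_antisymm (fun xb hxb => ?_) fun a ha => Subgroup.mem_centralizer_iff.2 fun b hb => ?_
    · obtain ⟨x, rfl⟩ := QuotientGroup.mk'_surjective L xb
      exact hcentP x hxb
    · obtain ⟨a, ha', rfl⟩ := ha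
      obtain ⟨b, hb', rfl⟩ := hb
      rw [← map_mul, ← map_mul]
      exact congrArg π (Subtype.ext (T.J_comm (Subgroup.mem_subgroupOf.1 hb').1 (Subgroup.mem_subgroupOf.1 ha').1))
  have hloc : ∀ y ∈ P', y ≠ 1 → Subgroup.centralizer ({y} : Set (X ⧸ L)) ≤ Subgroup.normalizer (P' : Set (X ⧸ L)) := by
    rintro _ ⟨y, hy, rfl⟩ hy1 xb hxb
    obtain ⟨x, rfl⟩ := QuotientGroup.mk'_surjective L xb
    obtain ⟨u, hu, huy⟩ := hS.mem_Pr.1 (Subgroup.mem_subgroupOf.1 hy)
    have h1 : π (x * y * x⁻¹) = π y := by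
      rw [map_mul, map_mul, map_inv, Subgroup.mem_centralizer_singleton_iff.1 hxb, mul_inv_cancel_right]
    refine hnorm' x (hS.weight_cent hA (fun h => hy1 ?_) (Or.inr (Or.inr hu))
      (mul_inv_eq_iff_eq_mul.1 (hlift x u hu y huy.symm y u hu huy.symm h1)))
    rw [show y = 1 from Subtype.ext (by rw [← huy, h, T.q_zero]; rfl), map_one]
  -- the group induced on the plane
  set NP := Subgroup.normalizer (P' : Set (X ⧸ L)) with hNP
  set Nx := (Subgroup.normalizer (T.J : Set G)).subgroupOf X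
  have hmem : ∀ x : Nx, ∃ p, T.Acts ((x : X) : G) (smap p) ∧ ∀ u, smap p (sgC u) = sgC (smap p u) :=
    fun x => hS.R_maps (Subgroup.mem_subgroupOf.1 x.2) ((hmX _).1 (x : X).2)
  choose pf hpf hpc using hmem
  let f : Nx →* DihedralGroup 4 :=
    MonoidHom.mk' (fun x => dcode (smap (pf x) (1, 0, 0)) (smap (pf x) (0, 1, 0))) fun x y => by
      rw [← dcode_mul' _ (hpc x) _ (hpc y)]
      congr 1 <;> refine T.q_inj ?_ <;> rw [← hpf (x * y), ← Acts.mul T (hpf x) (hpf y)] <;> rfl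
  let g : Nx →* NP := MonoidHom.mk' (fun x => ⟨π (x : X), hnorm' _ (Subgroup.mem_subgroupOf.1 x.2)⟩)
    fun x y => Subtype.ext (map_mul π _ _)
  haveI hNn : (P'.subgroupOf NP).Normal := Subgroup.normal_in_normalizer
  let g' : Nx →* NP ⧸ P'.subgroupOf NP := (QuotientGroup.mk' _).comp g
  have hg' : Function.Surjective g' := by
    intro z
    obtain ⟨⟨y, hy⟩, rfl⟩ := QuotientGroup.mk'_surjective _ z
    obtain ⟨x, rfl⟩ := QuotientGroup.mk'_surjective L y
    exact ⟨⟨x, Subgroup.mem_subgroupOf.2 (hnorm x hy)⟩, rfl⟩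
  have hkk : g'.ker = f.ker := by
    ext x
    rw [MonoidHom.mem_ker, MonoidHom.mem_ker]
    show QuotientGroup.mk' (P'.subgroupOf NP) (g x) = 1 ↔ _
    rw [QuotientGroup.mk'_apply, QuotientGroup.eq_one_iff, Subgroup.mem_subgroupOf]
    show π (x : X) ∈ P' ↔ dcode (smap (pf x) (1, 0, 0)) (smap (pf x) (0, 1, 0)) = 1
    constructor
    · rintro ⟨z, hz, hzx⟩
      have hJ := (Subgroup.mem_subgroupOf.1 hz).1
      rcases (hLmem _).1 ((QuotientGroup.eq).1 hzx) with h | h <;> rw [inv_mul_eq_iff_eq_mul] at h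
      · have h1 : ∀ u, smap (pf x) u = u := fun u => T.q_inj (by
          rw [← hpf x u, h, mul_one]
          exact T.acts_of_mem hJ u)
        rw [h1, h1]
        exact dcode_id.1
      · have h1 : ∀ u, smap (pf x) u = sgC u := fun u => T.q_inj (by
          rw [← hpf x u, h]
          exact Acts.mul T (T.acts_of_mem hJ) hS.R_acts u)
        rw [h1, h1]
        exact dcode_id.2
    · intro h
      rcases dcode_inj' _ (hpc x) h with h | h
      · exact ⟨x, Subgroup.mem_subgroupOf.2 ⟨T.mem_J_of_acts fun u => by rw [hpf x u, h u]; rfl, (x : X).2⟩, rfl⟩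
      · refine ⟨(x : X) * r, Subgroup.mem_subgroupOf.2 ⟨T.mem_J_of_acts fun u => ?_, ((x : X) * r).2⟩, ?_⟩
        · show ((x : X) : G) * hS.R * T.q u * (((x : X) : G) * hS.R)⁻¹ = _
          rw [Acts.mul T (hpf x) hS.R_acts u]
          show T.q (smap (pf x) (sgC u)) = _
          rw [h, sgC_two]
          rfl
        · rw [map_mul, show π r = 1 from (QuotientGroup.eq_one_iff r).2 (Subgroup.mem_zpowers _), mul_one]
  have hfs : Function.Surjective f := by
    intro d
    obtain ⟨p, hpc', hpd⟩ := dcode_surj d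
    obtain ⟨n, hn⟩ := hS.exists_acts p
    -- adjust by the subgroup so that it commutes with the reflection
    obtain ⟨u, hu⟩ := T.mem_J.1 (T.mem_J_of_acts (show T.Acts (hS.R * n * hS.R * n⁻¹) id from fun v => by
      have hni : T.q v = n * T.q (Function.invFun (smap p) v) * n⁻¹ := by
        rw [hn, Function.invFun_eq (Finite.injective_iff_surjective.1 (fun a b h => smap_inj p a b h) v)]
      calc hS.R * n * hS.R * n⁻¹ * T.q v * (hS.R * n * hS.R * n⁻¹)⁻¹
          = hS.R * n * hS.R * T.q (Function.invFun (smap p) v) * (hS.R * n * hS.R)⁻¹ := by rw [hni]; group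
        _ = T.q v := by
          rw [Acts.mul T (Acts.mul T hS.R_acts hn) hS.R_acts]
          show T.q (sgC (smap p (sgC _))) = _
          rw [hpc', sgC_two,
            Function.invFun_eq (Finite.injective_iff_surjective.1 (fun a b h => smap_inj p a b h) v)]))
    obtain ⟨w, hw⟩ := adjust_third u
    have hru : hS.R * n = T.q u * n * hS.R := by
      rw [hu]
      simp only [mul_assoc]
      rw [inv_mul_cancel_left, hS.R_invol, mul_one]
    have hanti : sgC u = -u := T.q_inj (by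
      rw [← hS.R_acts u, T.q_neg, hu]
      calc hS.R * (hS.R * n * hS.R * n⁻¹) * hS.R⁻¹ = (hS.R * hS.R) * n * hS.R * n⁻¹ * hS.R⁻¹ := by group
        _ = _ := by rw [hS.R_invol, one_mul]; simp only [mul_inv_rev, inv_inv, hS.R_inv, mul_assoc])
    have hcomm : T.q w * n * hS.R = hS.R * (T.q w * n) := by
      rw [← mul_assoc hS.R, Acts.comm T hS.R_acts, mul_assoc (T.q (sgC w)), hru,
        show T.q (sgC w) * (T.q u * n * hS.R) = T.q (sgC w) * T.q u * n * hS.R by group, ← T.q_add, hw hanti]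
    have hX' : T.q w * n ∈ X := (hmX _).2 hcomm
    have hNJ : T.q w * n ∈ Subgroup.normalizer (T.J : Set G) :=
      Subgroup.mul_mem _ (Subgroup.le_normalizer (T.q_mem w)) (Acts.mem_normalizer T hn)
    refine ⟨⟨⟨_, hX'⟩, Subgroup.mem_subgroupOf.2 hNJ⟩, ?_⟩
    rw [← hpd]
    show dcode (smap (pf _) (1, 0, 0)) (smap (pf _) (0, 1, 0)) = _
    have h1 : ∀ v, smap (pf ⟨⟨_, hX'⟩, Subgroup.mem_subgroupOf.2 hNJ⟩) v = smap p v := fun v => T.q_inj (by
      rw [← hpf _ v]
      exact Acts.mul T (T.acts_of_mem (T.q_mem w)) hn v)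
    rw [h1, h1]
  have e : NP ⧸ P'.subgroupOf NP ≃* DihedralGroup 4 :=
    ((QuotientGroup.quotientKerEquivOfSurjective g' hg').symm.trans (QuotientGroup.quotientMulEquivOfEq hkk)).trans
      (QuotientGroup.quotientKerEquivOfSurjective f hfs)
  have hcard : Nat.card X = Nat.card (X ⧸ L) * 2 := by
    rw [Subgroup.card_eq_card_quotient_mul_card_subgroup L, hLc]
  rcases Cfsg.Agent.S3333.result Q P' hQe.symm hc9 hC e hloc with hn | ⟨⟨φ⟩⟩
  · have htop : NP = ⊤ := Subgroup.normalizer_eq_top_iff.2 hn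
    have h72 : Nat.card (X ⧸ L) = 72 := by
      rw [← Subgroup.card_top (G := X ⧸ L), ← htop, ← (P'.subgroupOf NP).card_mul_index,
        Nat.card_congr (Subgroup.subgroupOfEquivOfLe (Subgroup.le_normalizer)).toEquiv, hc9, Subgroup.index,
        Nat.card_congr e.toEquiv, DihedralGroup.nat_card]
    rw [hcard, h72]
    norm_num
  · rw [hcard, Nat.card_congr φ.toEquiv, Nat.card_perm, Nat.card_fin]
    decide

end Conf.Signed

end Cfsg.Agent.Lie.PSpFourThreeFull
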