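import Cfsg.Agent.Lib.Lie.PSpFourThreeFull.WFour

/-!
Finite facts for the orbit of two vectors.
-/

set_option autoImplicit false
set_option maxRecDepth 100000
set_option synthInstance.maxSize 8000
set_option synthInstance.maxHeartbeats 400000

namespace Cfsg.Agent.Lie.PSpFourThreeFull

open Cfsg.Agent.Lie.PSpFourThreeAmalgam
open Cfsg.Agent.Small.ShapeThree (M)

/-- The maps fixing the line of the diagonal. -/
def smap2 (p : Fin 6 × Bool) (v : V3) : V3 := if p.2 then six p.1 v else -(six p.1 v)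

/-- No scalar multiples. -/
def indep2 (v w : V3) : Prop := v ≠ 0 ∧ w ≠ 0 ∧ w ≠ v ∧ w ≠ -v

instance (v w : V3) : Decidable (indep2 v w) := inferInstanceAs (Decidable (_ ∧ _ ∧ _ ∧ _))

theorem plane_two : ∀ v w : V3, indep2 v w →
    ((∃ a b : ZMod 3, a • v + b • w = dia) ∧ ((v ≠ dia ∧ v ≠ -dia) ∨ (w ≠ dia ∧ w ≠ -dia))) ∨
      ∀ p : Fin 6 × Bool, smap2 p v = v → smap2 p w = w → ∀ u, smap2 p u = u := by decide +kernel

theorem smap2_three : ∀ v w : V3, indep2 v w → ∀ p : Fin 6 × Bool, smap2 p v = v → smap2 p w = w →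
    (∀ u, smap2 p (smap2 p (smap2 p u)) = u) → ∀ u, smap2 p u = u := by decide +kernel

theorem smap2_fix_one : ∀ v : V3, v ≠ 0 → v ≠ dia → v ≠ -dia → ∀ p : Fin 6 × Bool, smap2 p v = v →
    (∀ u, smap2 p (smap2 p u) = u) ∧
      ∀ p' : Fin 6 × Bool, smap2 p' v = v → (∀ u, smap2 p' u = u) ∨ (∀ u, smap2 p u = u) ∨
        ∀ u, smap2 p' u = smap2 p u := by decide +kernel

theorem smap2_moved : ∀ v : V3, v ≠ 0 → v ≠ dia → v ≠ -dia → ∀ p : Fin 6 × Bool, smap2 p v = v → ¬ (∀ u, smap2 p u = u) →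
    ∃ w, smap2 p w + -w ≠ 0 ∧ smap2 p (smap2 p w + -w) = -(smap2 p w + -w) ∧
      indep2 v (smap2 p w + -w) := by decide +kernel

theorem indep2_of : ∀ v w : V3, v ≠ 0 → w ≠ 0 → w ≠ v → w ≠ -v → indep2 v w := fun _ _ h1 h2 h3 h4 =>
  ⟨h1, h2, h3, h4⟩

theorem tm_plane : ∀ p : Fin 6 × Bool, (∀ u, smap2 p (mT u) = mT (smap2 p u)) →
    (∀ u, smap2 p u = u) ∨ (∀ u, smap2 p u = mT u) ∨ (∀ u, smap2 p u = -u) ∨ ∀ u, smap2 p u = -(mT u) := by
  decide +kernel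

theorem mT_facts : mT (1, 2, 0) = -(1, 2, 0) ∧ indep2 dia (1, 1, 0) ∧ mT dia = dia ∧ mT (1, 1, 0) = (1, 1, 0) ∧
    flat ((1 : ZMod 3), (2 : ZMod 3), (0 : ZMod 3)) ∧ mU (1, 2, 0) ≠ (1, 2, 0) := by decide +kernel

theorem mT_fixed : ∀ v : V3, mT v = v ↔ ∃ a b : ZMod 3, a • dia + b • ((1, 1, 0) : V3) = v := by decide +kernel

theorem mT_fixed_card : (Finset.univ.filter fun v : V3 => mT v = v).card = 9 := by decide +kernel

theorem flat_swap : ∀ w : V3, flat w → -(mT w) = w → w = 0 ∨ w = (1, 2, 0) ∨ w = -(1, 2, 0) := by decide +kernel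

/-- The elements of the second core. -/
theorem core_form : ∀ k : ZMod 3, ∀ v : Fin 2 → ZMod 3, ∃ i : Fin 3, ∃ w : V3, flat w ∧
    (⟨k, v, 1⟩ : M) = sm ^ i.val * jc w := by decide +kernel

theorem core_jc : ∀ w : V3, (jc w).g = 1 → flat w := by decide +kernel

theorem core_cent : ∀ w : V3, sm * jc w * (sm * jc w) * (sm * jc w) = 1 → ∀ m : M,
    m * jc (1, 2, 0) = jc (1, 2, 0) * m → m * (sm * jc w) = sm * jc w * m → m.g = 1 ∧ m.v = 0 := by decide +kernel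

theorem sm_jc_g : ∀ w : V3, sm * jc w * (sm * jc w) * (sm * jc w) = 1 → (sm * jc w).g = 1 := by decide +kernel

theorem tm_unique : ∀ m : M, m * m = 1 → m * tm = tm * m → m = 1 ∨ m = tm := by decide +kernel

theorem core_cube : ∀ k : ZMod 3, ∀ v : Fin 2 → ZMod 3, (⟨k, v, 1⟩ : M) * ⟨k, v, 1⟩ * ⟨k, v, 1⟩ = 1 := by
  decide +kernel

theorem core_comm_central : ∀ k k' : ZMod 3, ∀ v v' : Fin 2 → ZMod 3, ∃ n : Fin 3,
    (⟨k, v, 1⟩ : M) * ⟨k', v', 1⟩ = M.c ^ n.val * ((⟨k', v', 1⟩ : M) * ⟨k, v, 1⟩) := by decide +kernel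

theorem core_pair : ∀ w : V3, sm * jc w * (sm * jc w) * (sm * jc w) = 1 →
    jc (1, 2, 0) * (sm * jc w) ≠ sm * jc w * jc (1, 2, 0) := by decide +kernel

theorem mU_iterate : ∀ i j : Fin 3, (∀ v : V3, mU^[i.val] v = mU^[j.val] v) → i = j := by decide +kernel

theorem mT_mU_back : ∀ v : V3, mT (mU (mT v)) = mU (mU v) := by decide +kernel

theorem mT_six : ∀ p : Fin 6 × Bool, (∀ u, smap2 p (smap2 p (smap2 p u)) = u) → ∀ v w : V3, indep2 v w →
    smap2 p v = v → smap2 p w = w → ∀ u, smap2 p u = u := fun p h v w hvw h1 h2 => smap2_three v w hvw p h1 h2 h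

theorem two_v3_1 : ∀ u : V3, mT (mT u) = u := by decide +kernel

theorem two_v3_2 : ∀ u : V3, -(mT (-(mT u))) = u := by decide +kernel

theorem two_v3_3 : ∀ v : V3, -(mT (-(mT v))) = v := by decide +kernel

theorem two_v3_4 : ∀ z : V3, mT z = -z → mT (-z) = z := by decide +kernel

theorem two_v3_5 : ∀ z : V3, z + z = -z := by decide +kernel

theorem two_v3_6 : ∀ u : V3, -(mT (-u)) = mT u := by decide +kernel

theorem two_v3_7 : ∀ z : V3, -z + -z = z := by decide +kernel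

theorem two_v3_8 : ∀ z : V3, mT z = -z → z + mT (-z) = -z := by decide +kernel

theorem two_v3_9 : ∀ v : V3, mU (mU (-(mU (-v)))) = v := by decide +kernel

theorem two_shift : ∀ i : Fin 3, (∀ z : V3, -(mT (mU^[i.val] z)) = mU^[i.val] (-(mT z))) → i = 0 := by
  decide +kernel

end Cfsg.Agent.Lie.PSpFourThreeFull
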