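import Cfsg.Agent.Lib.Lie.PSpFourThreeFull.Refl
import Cfsg.Agent.Lib.Lie.PSpFourThreeFull.Generic
import Cfsg.Agent.Lib.Lie.PSpFourThreeFull.TwoFacts
import Cfsg.Agent.Lib.Lie.PSpFourThreeAmalgam.Seven
import Cfsg.Agent.Lib.Fusion.NPC
import Cfsg.Agent.S3331
import Cfsg.Agent.S3347

/-!
An orbit of two vectors: centralisers of the elements of the elementary abelian subgroup.
-/

set_option autoImplicit false
set_option linter.unusedSectionVars false
set_option linter.style.haveILetI false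

namespace Cfsg.Agent.Lie.PSpFourThreeFull

open Cfsg.Agent.Lie.PSpFourThreeAmalgam
open Cfsg.Agent.Small.ShapeThree (M)

theorem neg_self_V3 : ∀ z : V3, -z = z → z = 0 := by decide +kernel

namespace Conf

variable {G : Type*} [Group G] [Finite G] (T : Conf G)

/-- The orbit of the diagonal has the two vectors. -/
def Two : Prop := -dia ∈ T.wdata.orb ∧ T.wdata.orb.card = 2

variable {T}

theorem q_comb {g : G} {v w : V3} (hv : g * T.q v = T.q v * g) (hw : g * T.q w = T.q w * g) (a b : ZMod 3) :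
    g * T.q (a • v + b • w) = T.q (a • v + b • w) * g := by
  have hn : ∀ (n : ℕ) {u : V3}, g * T.q u = T.q u * g → g * T.q (n • u) = T.q (n • u) * g := by
    intro n u hu
    induction n with
    | zero => rw [zero_smul, T.q_zero, mul_one, one_mul]
    | succ n ih => rw [succ_nsmul, T.q_add, ← mul_assoc, ih, mul_assoc, hu, ← mul_assoc]
  rw [T.q_add, ← mul_assoc]
  conv_lhs => rw [← ZMod.natCast_zmod_val a, ← ZMod.natCast_zmod_val b, Nat.cast_smul_eq_nsmul,
    Nat.cast_smul_eq_nsmul, hn _ hv, mul_assoc, hn _ hw, ← mul_assoc]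
  conv_rhs => rw [← ZMod.natCast_zmod_val a, ← ZMod.natCast_zmod_val b, Nat.cast_smul_eq_nsmul,
    Nat.cast_smul_eq_nsmul]

/-- A subgroup containing the elementary abelian one, meeting its normaliser in it, equals it. -/
theorem burnside_J (X : Subgroup G) (hJX : T.J ≤ X)
    (h : ∀ g ∈ X, g ∈ Subgroup.normalizer (T.J : Set G) → g ∈ T.J) : X = T.J := by
  haveI : Fact (Nat.Prime 3) := ⟨Nat.prime_three⟩
  have hJc : Nat.card (T.J.subgroupOf X) = 27 := by
    rw [Nat.card_congr (Subgroup.subgroupOfEquivOfLe hJX).toEquiv, T.card_J]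
  obtain ⟨Q, hQ⟩ :=
    (IsPGroup.of_card (n := 3) (by rw [hJc]; norm_num) : IsPGroup 3 (T.J.subgroupOf X)).exists_le_sylow
  have hnorm : ∀ x : X, x ∈ Subgroup.normalizer ((T.J.subgroupOf X : Subgroup X) : Set X) → (x : G) ∈ T.J := by
    intro x hx
    refine h _ x.2 ?_
    rw [Subgroup.mem_normalizer_iff]
    intro y
    refine ⟨fun hy => Subgroup.mem_subgroupOf.1 ((Subgroup.mem_normalizer_iff.1 hx ⟨y, hJX hy⟩).1
      (Subgroup.mem_subgroupOf.2 hy)), fun hy => ?_⟩
    have hyX : y ∈ X := by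
      have := X.mul_mem (X.mul_mem (X.inv_mem x.2) (hJX hy)) x.2
      simpa [mul_assoc] using this
    exact Subgroup.mem_subgroupOf.1 ((Subgroup.mem_normalizer_iff.1 hx ⟨y, hyX⟩).2
      (Subgroup.mem_subgroupOf.2 hy))
  have hQe : (Q : Subgroup X) = T.J.subgroupOf X := by
    by_contra hne
    haveI : Group.IsNilpotent (Q : Subgroup X) := Q.2.isNilpotent
    have hlt : (T.J.subgroupOf X).subgroupOf Q < ⊤ := lt_top_iff_ne_top.2 fun e =>
      hne (le_antisymm (Subgroup.subgroupOf_eq_top.1 e) hQ)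
    obtain ⟨x, hxN, hxJ⟩ := SetLike.exists_of_lt (Group.normalizerCondition_of_isNilpotent _ hlt)
    refine hxJ (Subgroup.mem_subgroupOf.2 (Subgroup.mem_subgroupOf.2 (hnorm x ?_)))
    rw [Subgroup.mem_normalizer_iff]
    intro y
    refine ⟨fun hy => Subgroup.mem_subgroupOf.1 ((Subgroup.mem_normalizer_iff.1 hxN ⟨y, hQ hy⟩).1
      (Subgroup.mem_subgroupOf.2 hy)), fun hy => ?_⟩
    have hyQ : y ∈ (Q : Subgroup X) := by
      have := (Q : Subgroup X).mul_mem ((Q : Subgroup X).mul_mem ((Q : Subgroup X).inv_mem x.2) (hQ hy)) x.2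
      simpa [mul_assoc] using this
    exact Subgroup.mem_subgroupOf.1 ((Subgroup.mem_normalizer_iff.1 hxN ⟨y, hyQ⟩).2
      (Subgroup.mem_subgroupOf.2 hy))
  have hle : Subgroup.normalizer ((Q : Subgroup X) : Set X) ≤ Subgroup.centralizer ((Q : Subgroup X) : Set X) := by
    intro x hx
    rw [hQe] at hx ⊢
    exact Subgroup.mem_centralizer_iff.2 fun y hy => Subtype.ext (T.J_comm (Subgroup.mem_subgroupOf.1 hy) (hnorm x hx))
  obtain ⟨K, hKn, hcomp, hnd⟩ : ∃ K : Subgroup X, K.Normal ∧ K.IsComplement' (Q : Subgroup X) ∧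
      ¬ 3 ∣ Nat.card K :=
    ⟨_, MonoidHom.normal_ker _, MonoidHom.ker_transferSylow_isComplement' Q hle,
      MonoidHom.not_dvd_card_ker_transferSylow Q hle⟩
  have hK : K = ⊥ := by
    rw [← Subgroup.map_eq_bot_iff_of_injective _ X.subtype_injective]
    refine T.sig _ ?_ fun j hj => ?_
    · rw [Subgroup.card_map_of_injective X.subtype_injective]
      exact ((Nat.prime_three.coprime_iff_not_dvd).2 hnd).symm
    · rw [Subgroup.mem_normalizer_iff_map_conj_eq]
      refine Subgroup.eq_of_le_of_card_ge ?_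
        (Subgroup.card_map_of_injective (f := (MulAut.conj j).toMonoidHom) (MulEquiv.injective _)).ge
      rintro _ ⟨_, ⟨y, hy, rfl⟩, rfl⟩
      exact ⟨⟨j, hJX hj⟩ * y * ⟨j, hJX hj⟩⁻¹, hKn.conj_mem y hy _, rfl⟩
  have hc := hcomp.card_mul
  rw [hK, Subgroup.card_bot, one_mul, hQe, hJc] at hc
  exact (Subgroup.eq_of_le_of_card_ge hJX (by rw [← hc, T.card_J])).symm

variable (h2 : T.Two)
include h2

theorem Two.acts {g : G} (hg : g ∈ Subgroup.normalizer (T.J : Set G)) : ∃ p, T.Acts g (smap2 p) := by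
  obtain ⟨z, hz, hzv⟩ := T.wdata.exists_neg h2.1
  have horb : ∀ v ∈ T.wdata.orb, v = dia ∨ v = -dia := by
    intro v hv
    by_contra h
    push Not at h
    have h3 : ({v, dia, -dia} : Finset V3).card ≤ T.wdata.orb.card := Finset.card_le_card fun x hx => by
      simp only [Finset.mem_insert, Finset.mem_singleton] at hx
      rcases hx with rfl | rfl | rfl
      exacts [hv, T.wdata.dia_mem, h2.1]
    rw [h2.2, Finset.card_insert_of_notMem (by simp [h.1, h.2]), Finset.card_insert_of_notMem (by decide),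
      Finset.card_singleton] at h3
    omega
  set w := T.conjPerm ⟨g, hg⟩
  have hw : w ∈ T.W := ⟨_, rfl⟩
  rcases horb _ (T.wdata.orb_map hw T.wdata.dia_mem) with h | h
  · obtain ⟨k, hk⟩ := T.wdata.stab w hw h
    exact ⟨(k, true), fun v => by rw [T.conjPerm_spec ⟨g, hg⟩, hk]; rfl⟩
  · obtain ⟨k, hk⟩ := T.wdata.stab (z * w) (T.W.mul_mem hz hw) (by rw [Equiv.Perm.mul_apply, h, hzv, neg_neg])
    refine ⟨(k, false), fun v => ?_⟩
    rw [T.conjPerm_spec ⟨g, hg⟩]
    have h1 := hk v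
    rw [Equiv.Perm.mul_apply, hzv, neg_eq_iff_eq_neg] at h1
    exact congrArg T.q h1

theorem Two.neg_elt : ∃ g : G, T.Acts g fun v => -v := by
  obtain ⟨z, ⟨g, rfl⟩, hz⟩ := T.wdata.exists_neg h2.1
  exact ⟨g, fun v => by rw [T.conjPerm_spec, hz]⟩

theorem Two.normalizer_le :
    Subgroup.normalizer (T.J : Set G) ≤ Subgroup.normalizer (Subgroup.zpowers T.a : Set G) := by
  intro g hg
  obtain ⟨⟨k, b⟩, hp⟩ := Two.acts h2 hg
  rw [Subgroup.mem_normalizer_iff_map_conj_eq, MonoidHom.map_zpowers]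
  have h1 : g * T.a * g⁻¹ = T.a ∨ g * T.a * g⁻¹ = T.a⁻¹ := by
    rw [← T.q_dia, hp dia, smap2]
    cases b
    · right; rw [if_neg (by simp), six_dia, T.q_neg]
    · left; rw [if_pos rfl, six_dia]
  show Subgroup.zpowers (g * T.a * g⁻¹) = _
  rcases h1 with h | h <;> rw [h]
  exact Subgroup.zpowers_inv

theorem Two.plane_cent {g : G} {v w : V3} (hvw : indep2 v w) (hv : g * T.q v = T.q v * g)
    (hw : g * T.q w = T.q w * g) : g ∈ Subgroup.normalizer (T.J : Set G) := by
  rcases plane_two v w hvw with ⟨⟨a, b, hab⟩, hline⟩ | hfree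
  · have hga := q_comb hv hw a b
    rw [hab, T.q_dia] at hga
    rcases hline with ⟨e1, e2⟩ | ⟨e1, e2⟩
    · obtain ⟨m, k, -, hk⟩ := T.normalises_of_plane hga hvw.1 e1 e2 hv
      exact Acts.mem_normalizer T hk
    · obtain ⟨m, k, -, hk⟩ := T.normalises_of_plane hga hvw.2.1 e1 e2 hw
      exact Acts.mem_normalizer T hk
  · set X := Subgroup.centralizer ({T.q v, T.q w} : Set G) with hX
    have hgX : g ∈ X := Subgroup.mem_centralizer_iff.2 fun y hy => by
      rcases hy with rfl | rfl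
      exacts [hv.symm, hw.symm]
    have hJX : T.J ≤ X := fun x hx => Subgroup.mem_centralizer_iff.2 fun y hy => by
      rcases hy with rfl | rfl
      exacts [T.J_comm (T.q_mem _) hx, T.J_comm (T.q_mem _) hx]
    rw [burnside_J X hJX fun x hxX hxN => ?_] at hgX
    · exact Subgroup.le_normalizer hgX
    obtain ⟨p, hp⟩ := Two.acts h2 hxN
    have hid := hfree p ((Acts.comm_iff T hp).1 (Subgroup.mem_centralizer_iff.1 hxX _ (Or.inl rfl)).symm)
      ((Acts.comm_iff T hp).1 (Subgroup.mem_centralizer_iff.1 hxX _ (Or.inr rfl)).symm)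
    exact T.mem_J_of_acts fun u => by rw [hp u, hid u]; rfl

/-- An element moving a plane into the subgroup normalises it. -/
theorem Two.plane_conj {g : G} {v w : V3} (hvw : indep2 v w) (hv : g * T.q v * g⁻¹ ∈ T.J)
    (hw : g * T.q w * g⁻¹ ∈ T.J) : g ∈ Subgroup.normalizer (T.J : Set G) := by
  have key : ∀ x ∈ T.J, g⁻¹ * x * g ∈ T.J := by
    intro x hx
    have hc : ∀ {u : V3}, g * T.q u * g⁻¹ ∈ T.J → g⁻¹ * x * g * T.q u = T.q u * (g⁻¹ * x * g) := by
      intro u h
      have h1 := T.J_comm hx h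
      calc g⁻¹ * x * g * T.q u = g⁻¹ * (x * (g * T.q u * g⁻¹)) * g := by group
        _ = _ := by rw [h1]; group
    obtain ⟨p, hp⟩ := Two.acts h2 (Two.plane_cent h2 hvw (hc hv) (hc hw))
    have h3 : (g⁻¹ * x * g) ^ 3 = 1 := by
      obtain ⟨u, rfl⟩ := T.mem_J.1 hx
      rw [show (g⁻¹ * T.q u * g) = g⁻¹ * T.q u * g⁻¹⁻¹ by group, conj_pow, T.q_cube]
      group
    have hfix := smap2_three v w hvw p ((Acts.comm_iff T hp).1 (hc hv)) ((Acts.comm_iff T hp).1 (hc hw)) fun u =>
      T.q_inj (by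
        have h4 := Acts.mul T (Acts.mul T hp hp) hp u
        rw [← h4, ← pow_two, ← pow_succ, h3]
        simp)
    exact T.mem_J_of_acts fun u => by rw [hp u, hfix u]; rfl
  rw [← inv_inv g]
  refine Subgroup.inv_mem _ ?_
  rw [Subgroup.mem_normalizer_iff_map_conj_eq]
  refine Subgroup.eq_of_le_of_card_ge ?_ (by rw [Subgroup.card_map_of_injective (MulEquiv.injective _)])
  rintro _ ⟨x, hx, rfl⟩
  show g⁻¹ * x * g⁻¹⁻¹ ∈ T.J
  rw [inv_inv]
  exact key x hx

/-- A subgroup of the elementary abelian one of order at least nine. -/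
theorem Two.le_normalizer_of_big {L : Subgroup G} (hL : L ≤ T.J) (hc : 9 ≤ Nat.card L) {g : G}
    (hg : ∀ x ∈ L, g * x * g⁻¹ ∈ T.J) : g ∈ Subgroup.normalizer (T.J : Set G) := by
  obtain ⟨x, hx, hx1⟩ : ∃ x ∈ L, x ≠ 1 := by
    by_contra h
    push Not at h
    rw [(Subgroup.eq_bot_iff_forall L).2 h, Subgroup.card_bot] at hc
    omega
  obtain ⟨v, rfl⟩ := T.mem_J.1 (hL hx)
  obtain ⟨y, hy, hy1⟩ : ∃ y ∈ L, y ∉ Subgroup.zpowers (T.q v) := by
    by_contra h
    push Not at h
    have h1 : Nat.card L ≤ Nat.card (Subgroup.zpowers (T.q v)) := Subgroup.card_le_of_le h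
    rw [Nat.card_zpowers] at h1
    have := Nat.le_of_dvd (by norm_num) (orderOf_dvd_of_pow_eq_one (T.q_cube v))
    omega
  obtain ⟨w, rfl⟩ := T.mem_J.1 (hL hy)
  refine Two.plane_conj h2 (indep2_of v w (fun h => hx1 (by rw [h, T.q_zero])) ?_ ?_ ?_) (hg _ hx) (hg _ hy)
  · exact fun h => hy1 (by rw [h, T.q_zero]; exact Subgroup.one_mem _)
  · exact fun h => hy1 (by rw [h]; exact Subgroup.mem_zpowers _)
  · exact fun h => hy1 (by rw [h, T.q_neg]; exact Subgroup.inv_mem _ (Subgroup.mem_zpowers _))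

omit h2 in
theorem pPrimeCore_bot {X : Subgroup G} (K : Subgroup X) [K.Normal] (hJX : T.J ≤ X) :
    Cfsg.pPrimeCore 3 K = ⊥ := by
  haveI : Fact (Nat.Prime 3) := ⟨Nat.prime_three⟩
  haveI hn : ((Cfsg.pPrimeCore 3 K).map K.subtype).Normal := inferInstance
  rw [← Subgroup.map_eq_bot_iff_of_injective _ K.subtype_injective,
    ← Subgroup.map_eq_bot_iff_of_injective _ X.subtype_injective]
  refine T.sig _ ?_ fun j hj => ?_
  · rw [Subgroup.card_map_of_injective X.subtype_injective, Subgroup.card_map_of_injective K.subtype_injective]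
    exact Cfsg.Agent.Fusion.card_pPrimeCore_coprime 3 K
  · rw [Subgroup.mem_normalizer_iff_map_conj_eq]
    refine Subgroup.eq_of_le_of_card_ge ?_
      (Subgroup.card_map_of_injective (f := (MulAut.conj j).toMonoidHom) (MulEquiv.injective _)).ge
    rintro _ ⟨_, ⟨y, hy, rfl⟩, rfl⟩
    exact ⟨⟨j, hJX hj⟩ * y * ⟨j, hJX hj⟩⁻¹, hn.conj_mem y hy _, rfl⟩

/-- The centraliser of an element of the elementary abelian subgroup normalises the central subgroup. -/
theorem Two.cent_le {v : V3} (hv : v ≠ 0) {g : G} (hg : g * T.q v = T.q v * g) :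
    g ∈ Subgroup.normalizer (Subgroup.zpowers T.a : Set G) := by
  haveI : Fact (Nat.Prime 3) := ⟨Nat.prime_three⟩
  by_cases hd : v = dia ∨ v = -dia
  · have hga : g * T.a = T.a * g := by
      rcases hd with rfl | rfl
      · rwa [T.q_dia] at hg
      · rw [T.q_neg, T.q_dia] at hg
        simpa using (show Commute g T.a⁻¹ from hg).inv_right.eq
    rw [Subgroup.mem_normalizer_iff_map_conj_eq, MonoidHom.map_zpowers]
    show Subgroup.zpowers (g * T.a * g⁻¹) = _
    rw [hga, mul_inv_cancel_right]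
  push Not at hd
  refine Two.normalizer_le h2 ?_
  set X := Subgroup.centralizer ({T.q v} : Set G)
  have hmX : ∀ x, x ∈ X ↔ x * T.q v = T.q v * x := fun x => Subgroup.mem_centralizer_singleton_iff
  have hgX : g ∈ X := (hmX g).2 hg
  have hJX : T.J ≤ X := fun x hx => (hmX x).2 (T.J_comm hx (T.q_mem v))
  -- the elements of the normaliser
  have hact : ∀ x ∈ X, x ∈ Subgroup.normalizer (T.J : Set G) →
      ∃ p, T.Acts x (smap2 p) ∧ smap2 p v = v := fun x hx hxN => by
    obtain ⟨p, hp⟩ := Two.acts h2 hxN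
    exact ⟨p, hp, (Acts.comm_iff T hp).1 ((hmX x).1 hx)⟩
  by_cases hu : ∀ x ∈ X, x ∈ Subgroup.normalizer (T.J : Set G) → x ∈ T.J
  · rw [burnside_J X hJX hu] at hgX
    exact Subgroup.le_normalizer hgX
  push Not at hu
  obtain ⟨u₀, hu₀X, hu₀N, hu₀J⟩ := hu
  obtain ⟨pu, hpu, hpuv⟩ := hact u₀ hu₀X hu₀N
  have hu2J : u₀ * u₀ ∈ T.J := T.mem_J_of_acts fun w => by
    exact (Acts.mul T hpu hpu w).trans (congrArg T.q ((smap2_fix_one v hv hd.1 hd.2 pu hpuv).1 w))
  have hu₀6 : u₀ ^ 6 = 1 := by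
    obtain ⟨w, hw⟩ := T.mem_J.1 hu2J
    rw [show 6 = 2 * 3 by rfl, pow_mul, pow_two, ← hw, T.q_cube]
  set u := u₀ ^ 3 with hu_def
  have huX : u ∈ X := X.pow_mem hu₀X 3
  have huN : u ∈ Subgroup.normalizer (T.J : Set G) := Subgroup.pow_mem _ hu₀N 3
  have huu : u * u = 1 := by rw [hu_def, ← pow_add, hu₀6]
  have huJ : u ∉ T.J := fun h => hu₀J (by
    have : u * (u₀ * u₀)⁻¹ ∈ T.J := T.J.mul_mem h (T.J.inv_mem hu2J)
    rwa [hu_def, show u₀ ^ 3 * (u₀ * u₀)⁻¹ = u₀ by rw [pow_succ', pow_two]; group] at this)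
  obtain ⟨pu', hp, hpv⟩ := hact u huX huN
  have hpne : ¬ ∀ w, smap2 pu' w = w := fun h => huJ (T.mem_J_of_acts fun w => by rw [hp w, h w]; rfl)
  -- every element of the normaliser in X lies in two cosets
  have hcos : ∀ x ∈ X, x ∈ Subgroup.normalizer (T.J : Set G) → x ∈ T.J ∨ u * x ∈ T.J := by
    intro x hx hxN
    obtain ⟨p, hxp, hxv⟩ := hact x hx hxN
    rcases (smap2_fix_one v hv hd.1 hd.2 pu' hpv).2 p hxv with h | h | h
    · exact Or.inl (T.mem_J_of_acts fun w => by rw [hxp w, h w]; rfl)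
    · exact absurd h hpne
    · exact Or.inr (T.mem_J_of_acts fun w => (Acts.mul T hp hxp w).trans (congrArg T.q
        ((congrArg (smap2 pu') (h w)).trans ((smap2_fix_one v hv hd.1 hd.2 pu' hpv).1 w))))
  -- a Sylow subgroup
  have hPc : Nat.card (T.J.subgroupOf X) = 27 := by
    rw [Nat.card_congr (Subgroup.subgroupOfEquivOfLe hJX).toEquiv, T.card_J]
  obtain ⟨P, hP⟩ : ∃ P : Sylow 3 X, (P : Subgroup X) = T.J.subgroupOf X := by
    obtain ⟨Q, hQ⟩ :=
      (IsPGroup.of_card (n := 3) (by rw [hPc]; norm_num) : IsPGroup 3 (T.J.subgroupOf X)).exists_le_sylow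
    refine ⟨Q, le_antisymm ?_ hQ⟩
    by_contra hne
    haveI : Group.IsNilpotent (Q : Subgroup X) := Q.2.isNilpotent
    have hlt : (T.J.subgroupOf X).subgroupOf Q < ⊤ := lt_top_iff_ne_top.2 fun e =>
      hne (Subgroup.subgroupOf_eq_top.1 e)
    obtain ⟨x, hxN, hxJ⟩ := SetLike.exists_of_lt (Group.normalizerCondition_of_isNilpotent _ hlt)
    have hxN' : ((x : X) : G) ∈ Subgroup.normalizer (T.J : Set G) := by
      rw [Subgroup.mem_normalizer_iff_map_conj_eq]
      refine Subgroup.eq_of_le_of_card_ge ?_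
        (Subgroup.card_map_of_injective (f := (MulAut.conj ((x : X) : G)).toMonoidHom) (MulEquiv.injective _)).ge
      rintro _ ⟨y, hy, rfl⟩
      exact Subgroup.mem_subgroupOf.1 (Subgroup.mem_subgroupOf.1 ((Subgroup.mem_normalizer_iff.1 hxN
        ⟨⟨y, hJX hy⟩, hQ (Subgroup.mem_subgroupOf.2 hy)⟩).1
        (Subgroup.mem_subgroupOf.2 (Subgroup.mem_subgroupOf.2 hy))))
    obtain ⟨p, hxp, hxv⟩ := hact _ (x : X).2 hxN'
    have hx2 : ((x : X) : G) * ((x : X) : G) ∈ T.J := T.mem_J_of_acts fun w =>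
      (Acts.mul T hxp hxp w).trans (congrArg T.q ((smap2_fix_one v hv hd.1 hd.2 p hxv).1 w))
    obtain ⟨n, hn⟩ := Q.2 x
    have hxn : ((x : X) : G) ^ 3 ^ n = 1 := by simpa using congrArg (fun y : (Q : Subgroup X) => ((y : X) : G)) hn
    obtain ⟨j, hj⟩ : Odd (3 ^ n) := Odd.pow (by decide)
    refine hxJ (Subgroup.mem_subgroupOf.2 (Subgroup.mem_subgroupOf.2 ?_))
    rw [hj, pow_succ, pow_mul, pow_two] at hxn
    rw [eq_inv_of_mul_eq_one_right hxn]
    exact T.J.inv_mem (T.J.pow_mem hx2 j)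
  have hK₀c : Cfsg.pPrimeCore 3 X = ⊥ := by
    haveI hn : (Cfsg.pPrimeCore 3 X).Normal := inferInstance
    rw [← Subgroup.map_eq_bot_iff_of_injective _ X.subtype_injective]
    refine T.sig _ ?_ fun j hj => ?_
    · rw [Subgroup.card_map_of_injective X.subtype_injective]
      exact Cfsg.Agent.Fusion.card_pPrimeCore_coprime 3 X
    · rw [Subgroup.mem_normalizer_iff_map_conj_eq]
      refine Subgroup.eq_of_le_of_card_ge ?_
        (Subgroup.card_map_of_injective (f := (MulAut.conj j).toMonoidHom) (MulEquiv.injective _)).ge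
      rintro _ ⟨_, ⟨y, hy, rfl⟩, rfl⟩
      exact ⟨⟨j, hJX hj⟩ * y * ⟨j, hJX hj⟩⁻¹, hn.conj_mem y hy _, rfl⟩
  have hcentP : Subgroup.centralizer ((P : Subgroup X) : Set X) = P := by
    rw [hP]
    refine le_antisymm (fun x hx => Subgroup.mem_subgroupOf.2 (T.cent_J fun y hy => ?_)) fun x hx => ?_
    · exact congrArg Subtype.val (Subgroup.mem_centralizer_iff.1 hx ⟨y, hJX hy⟩ (Subgroup.mem_subgroupOf.2 hy)).symm
    · exact Subgroup.mem_centralizer_iff.2 fun y hy =>
        Subtype.ext (T.J_comm (Subgroup.mem_subgroupOf.1 hy) (Subgroup.mem_subgroupOf.1 hx))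
  have hPN : ∀ x : X, x ∈ Subgroup.normalizer ((P : Subgroup X) : Set X) ↔
      (x : G) ∈ Subgroup.normalizer (T.J : Set G) := fun x => by
    rw [hP, Subgroup.mem_normalizer_iff, Subgroup.mem_normalizer_iff]
    refine ⟨fun h y => ⟨fun hy => Subgroup.mem_subgroupOf.1 ((h ⟨y, hJX hy⟩).1 (Subgroup.mem_subgroupOf.2 hy)),
      fun hy => ?_⟩, fun h y => ⟨fun hy => Subgroup.mem_subgroupOf.2 ((h y).1 (Subgroup.mem_subgroupOf.1 hy)),
      fun hy => Subgroup.mem_subgroupOf.2 ((h y).2 (Subgroup.mem_subgroupOf.1 hy))⟩⟩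
    have hyX : y ∈ X := by
      have := X.mul_mem (X.mul_mem (X.inv_mem x.2) (hJX hy)) x.2
      simpa [mul_assoc] using this
    exact Subgroup.mem_subgroupOf.1 ((h ⟨y, hyX⟩).2 (Subgroup.mem_subgroupOf.2 hy))
  have hidx : ((Subgroup.centralizer ((P : Subgroup X) : Set X)).subgroupOf
      (Subgroup.normalizer ((P : Subgroup X) : Set X))).index = 2 := by
    rw [hcentP, Subgroup.index_eq_two_iff]
    refine ⟨⟨⟨u, huX⟩, (hPN _).2 huN⟩, fun b => ?_⟩
    simp only [Subgroup.mem_subgroupOf, hP, Subgroup.coe_mul]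
    have hbN := (hPN b.1).1 b.2
    have hbu : (b.1 : G) * u ∈ Subgroup.normalizer (T.J : Set G) := Subgroup.mul_mem _ hbN huN
    rcases hcos _ (X.mul_mem b.1.2 huX) hbu with h | h
    · refine Or.inl ⟨h, fun h' => huJ ?_⟩
      have := T.J.mul_mem (T.J.inv_mem h') h
      rwa [inv_mul_cancel_left] at this
    · have h1 := (Subgroup.mem_normalizer_iff.1 huN _).1 h
      rw [show u * (u * (b.1 * u)) * u⁻¹ = (u * u) * b.1 by group, huu, one_mul] at h1
      refine Or.inr ⟨h1, fun h' => huJ ?_⟩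
      have := T.J.mul_mem (T.J.inv_mem h1) h'
      rwa [inv_mul_cancel_left] at this
  have hPab : IsMulCommutative (P : Subgroup X) := hP ▸
    ⟨⟨fun x y => Subtype.ext (Subtype.ext (T.J_comm (Subgroup.mem_subgroupOf.1 x.2) (Subgroup.mem_subgroupOf.1 y.2)))⟩⟩
  have hPnc : ¬ IsCyclic (P : Subgroup X) := by
    intro hc
    rw [hP] at hc
    obtain ⟨x, hx⟩ := hc.exists_generator
    have h1 : Nat.card (T.J.subgroupOf X) = orderOf x := (orderOf_eq_card_of_forall_mem_zpowers hx).symm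
    obtain ⟨w, hw⟩ := T.mem_J.1 (Subgroup.mem_subgroupOf.1 x.2)
    have h3 : x ^ 3 = 1 := Subtype.ext (Subtype.ext (by simp [← hw, T.q_cube]))
    have := Nat.le_of_dvd (by norm_num) (orderOf_dvd_of_pow_eq_one h3)
    omega
  have hdone : ∀ L : Subgroup X, L.Normal → (L.map X.subtype ≤ T.J ∧ 9 ≤ Nat.card L) →
      g ∈ Subgroup.normalizer (T.J : Set G) := fun L hL hLJ =>
    Two.le_normalizer_of_big h2 hLJ.1 (by rw [Subgroup.card_map_of_injective X.subtype_injective]; exact hLJ.2)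
      fun x hx => by
        obtain ⟨y, hy, rfl⟩ := hx
        exact hLJ.1 ⟨⟨g, hgX⟩ * y * ⟨g, hgX⟩⁻¹, hL.conj_mem y hy _, rfl⟩
  rcases Cfsg.Agent.S3347.result 3 (by norm_num) P hPab hPnc hidx with hres | hlen
  swap
  · have hn : (T.J.subgroupOf X).Normal := hP ▸ normal_of_length_one hlen hK₀c P
    exact hdone _ hn ⟨by rw [Subgroup.subgroupOf_map_subtype]; exact inf_le_left, by rw [hPc]; norm_num⟩
  -- a proper residual
  set K := Cfsg.pResidual 3 X with hKdef
  set P₀ := K.map X.subtype ⊓ T.J with hP₀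
  have hKP : K ⊔ (P : Subgroup X) = ⊤ := Cfsg.Agent.Fusion.pResidual_sup_sylow P
  have hP₀27 : Nat.card P₀ ≠ 27 := by
    intro hc
    have hJK : T.J ≤ K.map X.subtype :=
      (Subgroup.eq_of_le_of_card_ge (inf_le_right : P₀ ≤ T.J) (by rw [T.card_J, hc])).symm.le.trans inf_le_left
    refine hres (eq_top_iff.2 (hKP ▸ sup_le le_rfl fun x hx => ?_))
    rw [hP, Subgroup.mem_subgroupOf] at hx
    obtain ⟨y, hy, hyx⟩ := hJK hx
    exact Subtype.ext hyx ▸ hy
  have huK : (⟨u, huX⟩ : X) ∈ K := mem_pResidual (Nat.Coprime.coprime_dvd_left (orderOf_dvd_of_pow_eq_one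
    (show (⟨u, huX⟩ : X) ^ 2 = 1 from Subtype.ext (by simpa [pow_two] using huu))) (by norm_num))
  obtain ⟨w₀, hd0, hdneg, hdind⟩ := smap2_moved v hv hd.1 hd.2 pu' hpv hpne
  set d := smap2 pu' w₀ + -w₀
  have hdP : T.q d ∈ P₀ := by
    refine ⟨?_, T.q_mem d⟩
    have h1 : (⟨u, huX⟩ : X) * ⟨T.q w₀, hJX (T.q_mem _)⟩ * ⟨u, huX⟩⁻¹ * ⟨T.q w₀, hJX (T.q_mem _)⟩⁻¹ ∈ K := by
      rw [mul_assoc, mul_assoc]
      refine K.mul_mem huK ?_
      rw [← mul_assoc]
      exact (inferInstance : K.Normal).conj_mem _ (K.inv_mem huK) _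
    exact ⟨_, h1, by simp [d, T.q_add, T.q_neg, hp w₀]⟩
  have hP₀d : Nat.card P₀ = 3 ∨ Nat.card P₀ = 9 := by
    have h1 : Nat.card P₀ ∣ 27 := T.card_J ▸ Subgroup.card_dvd_of_le inf_le_right
    obtain ⟨i, hi, hic⟩ := (Nat.dvd_prime_pow Nat.prime_three).1 (show Nat.card P₀ ∣ 3 ^ 3 by exact h1)
    interval_cases i
    · rw [Subgroup.eq_bot_of_card_eq P₀ (by rw [hic]; rfl), Subgroup.mem_bot] at hdP
      exact absurd (T.q_eq_one.1 hdP) hd0
    · exact Or.inl (by rw [hic]; rfl)
    · exact Or.inr (by rw [hic]; rfl)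
    · exact absurd (by rw [hic]; rfl) hP₀27
  set PK := (T.J.subgroupOf X).subgroupOf K
  have hPKc : Nat.card PK = Nat.card P₀ := by
    rw [← Subgroup.card_map_of_injective (f := K.subtype) K.subtype_injective (K := PK),
      ← Subgroup.card_map_of_injective (f := X.subtype) X.subtype_injective (K := PK.map K.subtype)]
    congr 2
    ext x
    constructor
    · rintro ⟨_, ⟨y, hy, rfl⟩, rfl⟩
      exact ⟨⟨_, y.2, rfl⟩, hy⟩
    · rintro ⟨⟨y, hy, rfl⟩, hyJ⟩
      exact ⟨y, ⟨⟨y, hy⟩, hyJ, rfl⟩, rfl⟩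
  haveI hPn : IsPGroup 3 PK := ((P.2.to_le hP.ge).comap_of_injective K.subtype K.subtype_injective)
  obtain ⟨PS, hPS⟩ : ∃ PS : Sylow 3 K, (PS : Subgroup K) = PK := by
    refine ⟨IsPGroup.toSylow hPn fun h3 => ?_, rfl⟩
    haveI : K.Normal := inferInstance
    have e2 : K.relIndex (T.J.subgroupOf X) = K.index := by
      rw [← Subgroup.relIndex_top_right K, ← hKP, hP, Subgroup.relIndex_sup_left]
    have e1 := Subgroup.relIndex_mul_relIndex ⊥ (K ⊓ T.J.subgroupOf X) (T.J.subgroupOf X) bot_le inf_le_right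
    rw [Subgroup.inf_relIndex_right, Subgroup.relIndex_bot_left, Subgroup.relIndex_bot_left, hPc, e2,
      ← Nat.card_congr (Subgroup.subgroupOfEquivOfLe (inf_le_left : K ⊓ T.J.subgroupOf X ≤ K)).toEquiv,
      Subgroup.inf_subgroupOf_left] at e1
    have e3 := PK.card_mul_index
    have e4 := K.card_mul_index
    have e5 := (T.J.subgroupOf X).card_mul_index
    rw [hPc, ← e4, ← e3] at e5
    change Nat.card PK * K.index = 27 at e1
    have e6 : (T.J.subgroupOf X).index = PK.index := by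
      refine Nat.eq_of_mul_eq_mul_left (show 0 < 27 by norm_num) ?_
      rw [e5, ← e1]
      ring
    exact P.not_dvd_index (hP ▸ e6 ▸ h3)
  have hKcore : Cfsg.pPrimeCore 3 K = ⊥ := pPrimeCore_bot K hJX
  have hdK : ∀ y : K, y ∈ PK ↔ ((y : X) : G) ∈ P₀ := fun y =>
    ⟨fun h => ⟨⟨_, y.2, rfl⟩, h⟩, fun h => h.2⟩
  set dK : K := ⟨⟨T.q d, hJX (T.q_mem d)⟩, by
    obtain ⟨y, hy, hyd⟩ := hdP.1
    exact (show y = ⟨T.q d, hJX (T.q_mem d)⟩ from Subtype.ext hyd) ▸ hy⟩
  have hcentK : ∀ y : K, (∀ z ∈ PK, z * y = y * z) → y ∈ PK := by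
    intro y hy
    have hyd : ((y : X) : G) * T.q d = T.q d * ((y : X) : G) :=
      (congrArg (fun z : K => ((z : X) : G)) (hy dK ((hdK dK).2 hdP))).symm
    have hyN := Two.plane_cent h2 hdind ((hmX _).1 y.1.2) hyd
    rcases hcos _ y.1.2 hyN with h | h
    · exact h
    · exfalso
      have h1 := T.J_comm h (T.q_mem d)
      rw [mul_assoc, hyd, ← mul_assoc, ← mul_assoc, mul_left_inj] at h1
      have h2' := (Acts.comm_iff T hp).1 h1
      rw [hdneg] at h2'
      exact hd0 (neg_self_V3 _ h2')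
  have hKnorm : ∀ y : K, y ∈ Subgroup.normalizer (PK : Set K) →
      ((y : X) : G) ∈ Subgroup.normalizer (T.J : Set G) := by
    intro y hy
    have hdy : ((y : X) : G) * T.q d * ((y : X) : G)⁻¹ ∈ T.J :=
      ((hdK _).1 ((Subgroup.mem_normalizer_iff.1 hy dK).1 ((hdK dK).2 hdP))).2
    refine Two.plane_conj h2 hdind ?_ hdy
    rw [(hmX _).1 y.1.2, mul_inv_cancel_right]
    exact T.q_mem v
  have hnormal : PK.Normal → g ∈ Subgroup.normalizer (T.J : Set G) := by
    intro hn
    haveI : (PS : Subgroup K).Normal := hPS.symm ▸ hn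
    haveI : (PS : Subgroup K).Characteristic := Sylow.characteristic_of_normal PS inferInstance
    haveI hch : ((PS : Subgroup K).map K.subtype).Normal := inferInstance
    have hdmem : (dK : X) ∈ (PS : Subgroup K).map K.subtype := ⟨dK, hPS.symm ▸ (hdK dK).2 hdP, rfl⟩
    obtain ⟨z, hz, hzd⟩ := hch.conj_mem _ hdmem ⟨g, hgX⟩
    refine Two.plane_conj h2 hdind ?_ ?_
    · rw [hg, mul_inv_cancel_right]
      exact T.q_mem v
    · rw [show g * T.q d * g⁻¹ = ((z : X) : G) from (congrArg Subtype.val hzd).symm]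
      exact ((hdK z).1 (hPS ▸ hz)).2
  rcases hP₀d with hc3 | hc9
  · -- a cyclic Sylow subgroup
    have hPK3 : Nat.card PK = 3 := hPKc.trans hc3
    have hXc : Subgroup.centralizer (PK : Set K) = PK := le_antisymm
      (fun y hy => hcentK y fun z hz => Subgroup.mem_centralizer_iff.1 hy z hz)
      fun y hy => Subgroup.mem_centralizer_iff.2 fun z hz =>
        Subtype.ext (Subtype.ext (T.J_comm hz hy))
    have hbig : ∀ r : ℕ, r.Prime → (r = 5 ∨ r = 7) → (Nat.card K = 12 * r ∧ r = 5 ∨ Nat.card K = 24 * r ∧ r = 7) →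
        False := by
      intro r hr hr57 hK
      haveI : Fact r.Prime := ⟨hr⟩
      letI : MulAction T.J (Sylow r K) :=
        MulAction.compHom _ ((MulAut.conjNormal (H := K)).comp (Subgroup.inclusion hJX))
      have hn : Nat.card (Sylow r K) < 9 := by
        obtain ⟨Q⟩ : Nonempty (Sylow r K) := inferInstance
        have hd1 := Q.card_dvd_index
        have hm := card_sylow_modEq_one r K
        have hq : (Q : Subgroup K).index * r ∣ Nat.card K := by
          rw [← (Q : Subgroup K).card_mul_index, mul_comm]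
          refine Nat.mul_dvd_mul_right ?_ _
          exact Q.dvd_card_of_dvd_card (by rcases hK with ⟨h, -⟩ | ⟨h, -⟩ <;> rw [h] <;> exact dvd_mul_left _ _)
        have hi : Nat.card (Sylow r K) * r ∣ Nat.card K := (Nat.mul_dvd_mul_right hd1 r).trans hq
        unfold Nat.ModEq at hm
        rcases hK with ⟨h, rfl⟩ | ⟨h, rfl⟩ <;> rw [h] at hi
        · have h12 := Nat.dvd_of_mul_dvd_mul_right (by norm_num) hi
          have := Nat.le_of_dvd (by norm_num) h12
          generalize Nat.card (Sylow 5 K) = n at *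
          interval_cases n <;> omega
        · have h24 := Nat.dvd_of_mul_dvd_mul_right (by norm_num) hi
          have := Nat.le_of_dvd (by norm_num) h24
          generalize Nat.card (Sylow 7 K) = n at *
          interval_cases n <;> omega
      have hJp : IsPGroup 3 T.J := IsPGroup.of_card (n := 3) (by rw [T.card_J]; norm_num)
      obtain ⟨Q, hQ⟩ : ∃ Q : Sylow r K, 9 ≤ Nat.card (MulAction.stabilizer T.J Q) ∧
          (r = 7 → MulAction.stabilizer T.J Q = ⊤) := by
        by_cases h7 : r = 7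
        · have h3 : ¬ 3 ∣ Nat.card (Sylow r K) := fun h3 => by
            have hm : Nat.card (Sylow r K) % r = 1 % r := card_sylow_modEq_one r K
            subst h7
            omega
          obtain ⟨Q, hQ⟩ := hJp.nonempty_fixed_point_of_prime_not_dvd_card _ h3
          have ht : MulAction.stabilizer T.J Q = ⊤ := eq_top_iff.2 fun x _ => hQ x
          exact ⟨Q, by rw [ht, Subgroup.card_top, T.card_J]; norm_num, fun _ => ht⟩
        · obtain ⟨Q⟩ : Nonempty (Sylow r K) := inferInstance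
          refine ⟨Q, ?_, fun h => absurd h h7⟩
          have h1 := Nat.card_congr (MulAction.orbitProdStabilizerEquivGroup T.J Q)
          rw [Nat.card_prod, T.card_J] at h1
          have h3 : Nat.card (MulAction.orbit T.J Q) ≤ Nat.card (Sylow r K) :=
            Nat.card_le_card_of_injective _ Subtype.val_injective
          have h4 : Nat.card (MulAction.orbit T.J Q) ∣ 3 ^ 3 := ⟨_, h1.symm⟩
          obtain ⟨i, hi, hic⟩ := (Nat.dvd_prime_pow Nat.prime_three).1 h4
          interval_cases i <;> rw [hic] at h1 h3 <;> omega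
      -- the stabiliser acts on the subgroup of prime order
      set L := MulAction.stabilizer T.J Q
      set R := ((Q : Subgroup K).map K.subtype).map X.subtype
      have hRc : Nat.card R = r := by
        rw [Subgroup.card_map_of_injective X.subtype_injective, Subgroup.card_map_of_injective K.subtype_injective,
          Q.card_eq_multiplicity]
        rcases hK with ⟨h, rfl⟩ | ⟨h, rfl⟩ <;> rw [h]
        · rw [show Nat.factorization (12 * 5) 5 = 1 by
            rw [Nat.factorization_mul (by norm_num) (by norm_num), Finsupp.add_apply, hr.factorization_self,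
              Nat.factorization_eq_zero_of_not_dvd (by norm_num : ¬ 5 ∣ 12)]]
          rfl
        · rw [show Nat.factorization (24 * 7) 7 = 1 by
            rw [Nat.factorization_mul (by norm_num) (by norm_num), Finsupp.add_apply, hr.factorization_self,
              Nat.factorization_eq_zero_of_not_dvd (by norm_num : ¬ 7 ∣ 24)]]
          rfl
      set L' := L.map T.J.subtype
      have hLn : L' ≤ Subgroup.normalizer (R : Set G) := by
        rintro _ ⟨x, hx, rfl⟩
        rw [Subgroup.mem_normalizer_iff_map_conj_eq]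
        have hxQ := congrArg (fun S : Sylow r K => (((S : Subgroup K).map K.subtype).map X.subtype))
          (MulAction.mem_stabilizer_iff.1 hx)
        refine Eq.trans ?_ hxQ
        ext z
        constructor
        · rintro ⟨_, ⟨_, ⟨y, hy, rfl⟩, rfl⟩, rfl⟩
          exact ⟨_, ⟨_, ⟨y, hy, rfl⟩, rfl⟩, rfl⟩
        · rintro ⟨_, ⟨_, ⟨y, hy, rfl⟩, rfl⟩, rfl⟩
          exact ⟨_, ⟨_, ⟨y, hy, rfl⟩, rfl⟩, rfl⟩
      set f := (Subgroup.normalizerMonoidHom R).comp (Subgroup.inclusion hLn)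
      haveI : IsCyclic R := isCyclic_of_prime_card hRc
      have hAut : Nat.card (MulAut R) = r - 1 := by rw [IsCyclic.card_mulAut, hRc, Nat.totient_prime hr]
      have hker9 : 9 ≤ Nat.card f.ker := by
        have h1 := f.ker.card_mul_index
        rw [Subgroup.index_ker, Subgroup.card_map_of_injective T.J.subtype_injective] at h1
        have h3 : Nat.card f.range ∣ r - 1 := hAut ▸ Subgroup.card_subgroup_dvd_card _
        obtain ⟨hQ9, hQ7⟩ := hQ
        have h5 : Nat.card L ∣ 3 ^ 3 := by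
          rw [show (3 ^ 3 : ℕ) = 27 from rfl, ← T.card_J]
          exact Subgroup.card_subgroup_dvd_card _
        rcases hr57 with rfl | rfl
        · have hco : Nat.card f.range = 1 := Nat.eq_one_of_dvd_coprimes
            (show (3 ^ 3).Coprime 4 by norm_num) ((Dvd.intro_left _ h1).trans h5) h3
          rw [hco, mul_one] at h1
          omega
        · rw [hQ7 rfl, Subgroup.card_top, T.card_J] at h1
          have h6 : Nat.card f.range ≤ 6 := Nat.le_of_dvd (by norm_num) h3
          have h7 : Nat.card f.range ∣ 27 := Dvd.intro_left _ h1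
          interval_cases hf : Nat.card f.range <;> omega
      obtain ⟨z, hzR, hz1⟩ : ∃ z ∈ R, z ≠ 1 := by
        by_contra h
        push Not at h
        rw [(Subgroup.eq_bot_iff_forall R).2 h, Subgroup.card_bot] at hRc
        exact hr.one_lt.ne hRc
      have hzN : z ∈ Subgroup.normalizer (T.J : Set G) := by
        refine Two.le_normalizer_of_big h2 (L := f.ker.map L'.subtype) ?_ ?_ ?_
        · rintro _ ⟨⟨_, x, -, rfl⟩, -, rfl⟩
          exact x.2
        · rwa [Subgroup.card_map_of_injective L'.subtype_injective]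
        · rintro _ ⟨⟨x, hxL⟩, hx, rfl⟩
          have h1 := congrArg (fun e : MulAut R => ((e ⟨z, hzR⟩ : R) : G)) (MonoidHom.mem_ker.1 hx)
          have hxJ : x ∈ T.J := by obtain ⟨y, -, rfl⟩ := hxL; exact y.2
          show z * x * z⁻¹ ∈ T.J
          have h1' : x * z * x⁻¹ = z := h1
          rwa [← mul_inv_eq_iff_eq_mul.1 h1', mul_inv_cancel_right]
      have hzX : z ∈ X := by obtain ⟨y, -, rfl⟩ := hzR; exact y.2
      have hzr : z ^ r = 1 := by
        rw [← hRc]
        exact congrArg Subtype.val (pow_card_eq_one' (x := (⟨z, hzR⟩ : R)))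
      have hz2 : z * z ∈ T.J := by
        obtain ⟨p, hzp, hzv⟩ := hact z hzX hzN
        exact T.mem_J_of_acts fun w => (Acts.mul T hzp hzp w).trans (congrArg T.q ((smap2_fix_one v hv hd.1 hd.2 p hzv).1 w))
      obtain ⟨j, hj⟩ : Odd r := hr.odd_of_ne_two (by rcases hr57 with rfl | rfl <;> norm_num)
      have hzJ : z ∈ T.J := by
        rw [hj, pow_succ, pow_mul, pow_two] at hzr
        rw [eq_inv_of_mul_eq_one_right hzr]
        exact T.J.inv_mem (T.J.pow_mem hz2 j)
      obtain ⟨w, hw⟩ := T.mem_J.1 hzJ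
      have h1 : orderOf z ∣ 3 := orderOf_dvd_of_pow_eq_one (hw ▸ T.q_cube w)
      have h3 := Nat.eq_one_of_dvd_coprimes (by rcases hr57 with rfl | rfl <;> norm_num : Nat.Coprime 3 r)
        h1 (orderOf_dvd_of_pow_eq_one hzr)
      exact hz1 (orderOf_eq_one_iff.1 h3)
    rcases Cfsg.Agent.S3331.result PK hPK3 hXc with ⟨N, hN, -, hNc, hNq⟩ | ⟨N, hN, hNab, hN2, ⟨e⟩⟩ | ⟨⟨e⟩⟩
    · refine hnormal ?_
      haveI := hN
      have hNb : N = ⊥ := le_bot_iff.1 (hKcore ▸ Cfsg.Agent.Fusion.le_pPrimeCore hNc)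
      have hK6 : Nat.card K = 3 ∨ Nat.card K = 6 := by
        have h1 := Subgroup.card_eq_card_quotient_mul_card_subgroup N
        rw [show Nat.card N = 1 by rw [hNb, Subgroup.card_bot], mul_one] at h1
        rcases hNq with h | ⟨⟨e⟩⟩
        · exact Or.inl (h1.trans h)
        · right
          rw [h1, Nat.card_congr e.toEquiv, Nat.card_perm, Nat.card_fin]
          rfl
      have hi := PK.card_mul_index
      rw [hPK3] at hi
      rcases hK6 with h | h <;> rw [h] at hi
      · rw [Subgroup.index_eq_one.1 (by omega : PK.index = 1)]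
        infer_instance
      · exact Subgroup.normal_of_index_eq_two (by omega)
    · exfalso
      haveI := hN
      haveI : Fact (Nat.Prime 2) := ⟨Nat.prime_two⟩
      have hN2' : IsPGroup 2 N := fun x => ⟨1, Subtype.ext (by simpa using hN2 x x.2)⟩
      obtain ⟨k, hk⟩ := IsPGroup.iff_card.1 hN2'
      have hNb : N = ⊥ := le_bot_iff.1 (hKcore ▸ Cfsg.Agent.Fusion.le_pPrimeCore (by
        rw [hk]; exact Nat.Coprime.pow_left _ (by norm_num)))
      refine hbig 5 (by norm_num) (Or.inl rfl) (Or.inl ⟨?_, rfl⟩)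
      rw [Subgroup.card_eq_card_quotient_mul_card_subgroup N, Nat.card_congr e.toEquiv, hNb, Subgroup.card_bot,
        mul_one, nat_card_alternatingGroup, Nat.card_fin]
      rfl
    · exfalso
      refine hbig 7 (by norm_num) (Or.inr rfl) (Or.inr ⟨?_, rfl⟩)
      rw [Nat.card_congr e.toEquiv, card_psl_seven]
  · -- a Sylow subgroup of order nine
    have hab : IsMulCommutative (PS : Subgroup K) := hPS ▸
      ⟨⟨fun x y => Subtype.ext (Subtype.ext (Subtype.ext (T.J_comm x.2 y.2)))⟩⟩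
    have hnc : ¬ IsCyclic (PS : Subgroup K) := by
      intro hc
      rw [hPS] at hc
      obtain ⟨x, hx⟩ := hc.exists_generator
      have h1 : Nat.card PK = orderOf x := (orderOf_eq_card_of_forall_mem_zpowers hx).symm
      obtain ⟨w, hw⟩ := T.mem_J.1 (show (((x : K) : X) : G) ∈ T.J from x.2)
      have h3 : x ^ 3 = 1 := Subtype.ext (Subtype.ext (Subtype.ext (by simp [← hw, T.q_cube])))
      have := Nat.le_of_dvd (by norm_num) (orderOf_dvd_of_pow_eq_one h3)
      omega
    have hcK : Subgroup.centralizer (PK : Set K) = PK := le_antisymm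
      (fun y hy => hcentK y fun z hz => Subgroup.mem_centralizer_iff.1 hy z hz)
      fun y hy => Subgroup.mem_centralizer_iff.2 fun z hz => Subtype.ext (Subtype.ext (T.J_comm hz hy))
    have hidxK : ((Subgroup.centralizer ((PS : Subgroup K) : Set K)).subgroupOf
        (Subgroup.normalizer ((PS : Subgroup K) : Set K))).index = 2 := by
      rw [hPS, hcK, Subgroup.index_eq_two_iff]
      set uK : K := ⟨⟨u, huX⟩, huK⟩
      have huKN : uK ∈ Subgroup.normalizer (PK : Set K) := by
        rw [Subgroup.mem_normalizer_iff]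
        exact fun y => Subgroup.mem_normalizer_iff.1 huN _
      refine ⟨⟨uK, huKN⟩, fun b => ?_⟩
      simp only [Subgroup.mem_subgroupOf, Subgroup.coe_mul]
      have hbN := hKnorm b.1 b.2
      have hbu : ((b.1 : X) : G) * u ∈ Subgroup.normalizer (T.J : Set G) := Subgroup.mul_mem _ hbN huN
      rcases hcos _ (X.mul_mem b.1.1.2 huX) hbu with h | h
      · refine Or.inl ⟨h, fun h' => huJ ?_⟩
        have := T.J.mul_mem (T.J.inv_mem (show ((b.1 : X) : G) ∈ T.J from h')) h
        rwa [inv_mul_cancel_left] at this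
      · have h1 := (Subgroup.mem_normalizer_iff.1 huN _).1 h
        rw [show u * (u * (((b.1 : X) : G) * u)) * u⁻¹ = (u * u) * ((b.1 : X) : G) by group, huu, one_mul] at h1
        refine Or.inr ⟨h1, fun h' => huJ ?_⟩
        have := T.J.mul_mem (T.J.inv_mem h1) (show ((b.1 : X) : G) * u ∈ T.J from h')
        rwa [inv_mul_cancel_left] at this
    refine hnormal ?_
    rcases Cfsg.Agent.S3347.result 3 (by norm_num) PS hab hnc hidxK with h | h
    · exact absurd pResidual_idem h
    · exact hPS ▸ normal_of_length_one h hKcore PS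

end Conf

end Cfsg.Agent.Lie.PSpFourThreeFull
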