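import Mathlib.Data.Fin.Basic

/-!
Tables for the Weyl group of type E6.
-/

set_option autoImplicit false
set_option maxRecDepth 100000

namespace Cfsg.Agent.Lie.PSpFourThreeFull.W6

/-- Packed reflection tables. -/
def tab : List ℕ := [29276845156583570381078054806147718029953009585390135851855953728994607625645167394527091397560571614960361405518143749897215788403598063398678427631744, 28870868001244101435553711553141879352938328704895409426458562042611187755930123743811828620873292715843484033334837988887981523493979176254637460193281, 29276769644885667852928669601979252210522673479737049984160064833096482735427148835235336807775586953396474958069876696882291761933433024902762126721152, 29273673460188287049377456347604011775050376960154225841031132871867972113076533092960041916961142453689296347605312186599821967136506061694294036594944,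 29276820377824661986895325690377016171465998207546063267045796039225671952261513790594471144147821851070460568423549593121266041989583484094727032193152, 29276844963130510185862240893119908423038055189758194247542396982215858498314925055431750793071303885845750220595695824229295319174020118268605668294784]

/-- The simple roots. -/
def simp0 : List ℕ := [56, 46, 42, 39, 37, 36]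

/-- The highest root of the subsystem of type E6. -/
def high : List (Fin 6) := [1, 3, 4, 5, 2, 3, 4, 1, 3, 2, 0, 2, 3, 1, 4, 3, 2, 5, 4, 3, 1]

/-- Representatives of the involutions. -/
def reps : List (List (Fin 6)) := [[0], [0, 5], [0, 5, 1, 3, 4, 5, 2, 3, 4, 1, 3, 2, 0, 2, 3, 1, 4, 3, 2, 5, 4, 3, 1], [0, 5, 3, 1, 3, 4, 5, 2, 3, 4, 1, 3, 2, 0, 2, 3, 1, 4, 3, 2, 5, 4, 3, 1]]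

/-- Part of a table. -/
def refls_0 : List (List (Fin 6)) := [[0], [1], [2], [3], [4], [5], [0, 2, 0], [1, 3, 1], [2, 3, 2], [3, 4, 3], [4, 5, 4], [0, 2, 3, 2, 0], [2, 1, 3, 2, 1], [1, 3, 4, 3, 1], [2, 3, 4, 3, 2], [3, 4, 5, 4, 3], [0, 2, 1, 3, 2, 1, 0], [0, 2, 3, 4, 3, 2, 0], [2, 1, 3, 4, 3, 2, 1], [1, 3, 4, 5, 4, 3, 1], [2, 3, 4, 5, 4, 3, 2], [0, 2, 1, 3, 4, 3, 2, 1, 0], [0, 2, 3, 4, 5, 4, 3, 2, 0], [3, 2, 1, 3, 4, 3, 2, 1, 3], [2, 1, 3, 4, 5, 4, 3, 2, 1], [3, 0, 2, 1, 3, 4, 3, 2, 1, 3, 0], [0, 2, 1, 3, 4, 5, 4, 3, 2, 1, 0], [3, 2, 1, 3, 4, 5, 4, 3, 2, 1, 3], [2, 3, 0, 2, 1, 3, 4, 3, 2, 1, 3, 0, 2], [3, 0, 2, 1, 3, 4, 5, 4, 3, 2, 1, 3, 0], [4, 3, 2, 1, 3, 4, 5, 4, 3, 2, 1, 3, 4], [2, 3, 0, 2, 1, 3, 4, 5, 4, 3, 2, 1, 3, 0, 2], [4, 3, 0, 2,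 1, 3, 4, 5, 4, 3, 2, 1, 3, 4, 0], [4, 2, 3, 0, 2, 1, 3, 4, 5, 4, 3, 2, 1, 3, 4, 0, 2], [3, 4, 2, 3, 0, 2, 1, 3, 4, 5, 4, 3, 2, 1, 3, 4, 0, 2, 3], [1, 3, 4, 2, 3, 0, 2, 1, 3, 4, 5, 4, 3, 2, 1, 3, 4, 0, 2, 3, 1]]

/-- A table. -/
def refls : List (List (Fin 6)) := refls_0

/-- Part of a table. -/
def reflNxt_0 : List (List ℕ) := [[0, 0, 6, 0, 0, 0], [1, 1, 1, 7, 1, 1], [6, 2, 2, 8, 2, 2], [3, 7, 8, 3, 9, 3], [4, 4, 4, 9, 4, 10], [5, 5, 5, 5, 10, 5], [2, 6, 0, 11, 6, 6], [7, 3, 12, 1, 13, 7], [11, 12, 3, 2, 14, 8], [9, 13, 14, 4, 3, 15], [10, 10, 10, 15, 5, 4], [8, 16, 11, 6, 17, 11], [16, 8, 7, 12, 18, 12], [13, 9, 18, 13, 7, 19], [17, 18, 9, 14, 8, 20], [15, 19, 20, 10, 15, 9], [12, 11, 16, 16, 21, 16], [14, 21, 17, 17, 11, 22], [21, 14, 13,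 23, 12, 24], [19, 15, 24, 19, 19, 13], [22, 24, 15, 20, 20, 14], [18, 17, 21, 25, 16, 26], [20, 26, 22, 22, 22, 17], [25, 23, 23, 18, 23, 27], [26, 20, 19, 27, 24, 18], [23, 25, 28, 21, 25, 29], [24, 22, 26, 29, 26, 21], [29, 27, 27, 24, 30, 23], [28, 28, 25, 28, 28, 31], [27, 29, 31, 26, 32, 25], [32, 30, 30, 30, 27, 30], [31, 31, 29, 31, 33, 28], [30, 32, 33, 32, 29, 32], [33, 33, 32, 34, 31, 33], [34, 35, 34, 33, 34, 34], [35, 34, 35, 35, 35, 35]]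

/-- A table. -/
def reflNxt : List (List ℕ) := reflNxt_0

/-- Part of a table. -/
def reflCj_0 : List (List (Fin 6)) := [[], [3, 2, 1, 3, 0, 2], [0, 2], [2, 3, 0, 2], [3, 4, 2, 3, 0, 2], [4, 5, 3, 4, 2, 3, 0, 2], [2], [2, 1, 3, 0, 2], [3, 0, 2], [4, 2, 3, 0, 2], [5, 3, 4, 2, 3, 0, 2], [3, 2], [1, 3, 0, 2], [4, 2, 1, 3, 0, 2], [4, 3, 0, 2], [5, 4, 2, 3, 0, 2], [1, 3, 2], [4, 3, 2], [4, 1, 3, 0, 2], [5, 4, 2, 1, 3, 0, 2], [5, 4, 3, 0, 2], [4, 1, 3, 2], [5, 4, 3, 2], [3, 4, 1, 3, 0, 2], [5, 4, 1, 3, 0, 2], [3, 4, 1, 3, 2], [5, 4, 1, 3, 2], [5, 3, 4, 1, 3, 0, 2], [2, 3, 4, 1, 3, 2], [5, 3, 4, 1, 3, 2], [4, 5, 3, 4, 1, 3, 0, 2], [5, 2, 3, 4, 1, 3, 2], [4, 5, 3, 4, 1, 3, 2], [4, 5, 2, 3, 4, 1, 3, 2], [3, 4, 5, 2, 3, 4, 1, 3, 2], [1, 3, 4, 5, 2,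 3, 4, 1, 3, 2]]

/-- A table. -/
def reflCj : List (List (Fin 6)) := reflCj_0

/-- Part of a table. -/
def rot0_0 : List (List (Fin 6) × List (Fin 6)) := [([], []), ([0, 2, 0], [2]), ([], []), ([0, 2, 0, 3, 1], [2, 1, 3, 2, 1]), ([0, 2, 0], [2]), ([0, 2, 0], [2]), ([0], []), ([0, 2, 0, 3], [2, 3, 2]), ([3], []), ([0, 2, 0, 3], [2, 3, 2]), ([0, 2, 0], [2]), ([0, 3], []), ([3, 1], []), ([0, 2, 0, 3, 1], [2, 1, 3, 2, 1]), ([3, 4], []), ([0, 2, 0, 3], [2, 3, 2]), ([0, 3, 1], []), ([0, 3, 4], []), ([3, 1, 4], []), ([0, 2, 0, 3, 1], [2, 1, 3, 2, 1]), ([3, 4, 5], []), ([0, 3, 1, 4], []), ([0, 3, 4, 5], []), ([3, 1, 4, 3], []), ([3, 1, 4, 5], []), ([0, 3, 1, 4, 3], []), ([0, 3, 1, 4, 5], []), ([3, 1, 4, 3, 5], []), ([0, 2, 0, 3, 4, 5], [2, 3, 4, 5,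 4, 3, 2]), ([0, 3, 1, 4, 3, 5], []), ([3, 1, 4, 3, 5, 4], []), ([0, 2, 0, 3, 4], [2, 3, 4, 3, 2]), ([0, 3, 1, 4, 3, 5, 4], []), ([0, 2, 0, 3], [2, 3, 2]), ([0, 2, 0], [2]), ([0, 2, 0], [2])]

/-- A table. -/
def rot0 : List (List (Fin 6) × List (Fin 6)) := rot0_0

/-- Part of a table. -/
def rot1_0 : List (List (Fin 6) × List (Fin 6)) := [([3, 1, 2, 0, 3, 2], [3]), ([], []), ([3, 1, 2, 3], [0, 2, 3, 2, 0]), ([0, 2, 0, 3, 1, 2, 0, 3, 2], []), ([3, 1, 2, 0, 3, 2, 4, 5], [3, 4, 5, 4, 3]), ([3, 1, 2, 0, 3, 2], [3]), ([3, 1, 2, 0, 3], [2, 3, 2]), ([2, 0, 3, 1, 2, 0, 3, 2], []), ([0, 2, 0, 3, 1, 2, 0, 3], []), ([3, 2, 0, 4, 3, 1, 2, 3], []), ([3, 1, 2, 0, 3, 2, 4], [3, 4, 3]), ([0, 2, 0, 3, 1, 2, 3], []), ([2, 0, 3, 1, 2, 0, 3], []), ([0, 3, 2, 0,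 4, 3, 1, 2, 3], []), ([0, 2, 0, 3, 1, 2, 0, 3, 4], []), ([3, 2, 0, 4, 3, 1, 2, 3, 5], []), ([2, 0, 3, 1, 2, 3], []), ([0, 2, 0, 3, 1, 2, 3, 4], []), ([2, 0, 3, 1, 2, 0, 3, 4], []), ([0, 3, 2, 0, 4, 3, 1, 2, 3, 5], []), ([0, 2, 0, 3, 1, 2, 0, 3, 4, 5], []), ([2, 0, 3, 1, 2, 3, 4], []), ([0, 2, 0, 3, 1, 2, 3, 4, 5], []), ([3, 1, 2, 3], [0, 2, 3, 2, 0]), ([2, 0, 3, 1, 2, 0, 3, 4, 5], []), ([3, 1, 2, 0, 3], [2, 3, 2]), ([2, 0, 3, 1, 2, 3, 4, 5], []), ([3, 1, 2, 0, 3, 2, 4], [3, 4, 3]), ([3, 1, 2, 0, 3, 2], [3]), ([3, 1, 2, 0, 3], [2, 3, 2]), ([3, 1, 2, 0, 3, 2], [3]), ([3, 1, 2, 0, 3, 2], [3]), ([3, 1, 2, 0, 3, 2], [3]), ([3, 1, 2, 0, 3], [2, 3, 2]), ([3, 1, 4, 3, 2, 0, 5, 4, 3, 1, 2, 3], []), ([0, 3, 1, 4, 3, 2, 0, 5, 4, 3, 1, 2, 3], [])]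

/-- A table. -/
def rot1 : List (List (Fin 6) × List (Fin 6)) := rot1_0

/-- Part of a table. -/
def rot2_0 : List (List (Fin 6) × List (Fin 6)) := [([0, 2, 0], []), ([], [0]), ([], []), ([3, 2, 0], []), ([], [0]), ([], [0]), ([2, 0], []), ([3, 1, 2, 0], []), ([0, 3, 2, 0], []), ([3, 2, 0, 4], []), ([], [0]), ([0, 2, 0, 3, 1, 2, 0], [1, 3, 1]), ([0, 3, 1, 2, 0], []), ([3, 1, 2, 0, 4], []), ([0, 3, 2, 0, 4], []), ([3, 2, 0, 4, 5], []), ([0, 2, 0, 3, 2, 0], [3]), ([0, 2, 0, 3, 2, 0], [3]), ([0, 3, 1, 2, 0, 4], []), ([3, 1, 2, 0, 4, 5], []), ([0, 3, 2, 0, 4, 5], []), ([0, 2, 0, 3, 1, 2, 0], [1, 3, 1]), ([0, 2, 0, 3, 2, 0], [3]), ([0, 2, 0, 3, 2, 0, 4, 5], [3, 4, 5, 4, 3]), ([0, 3, 1, 2, 0, 4, 5], []), ([3, 1, 4, 3, 2, 0], []), ([0, 2, 0, 3, 1,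 2, 0], [1, 3, 1]), ([0, 2, 0, 3, 2, 0, 4], [3, 4, 3]), ([0, 3, 1, 4, 3, 2, 0], []), ([3, 1, 4, 3, 2, 0, 5], []), ([0, 2, 0, 3, 2, 0], [3]), ([0, 3, 1, 4, 3, 2, 0, 5], []), ([3, 1, 4, 3, 2, 0, 5, 4], []), ([0, 3, 1, 4, 3, 2, 0, 5, 4], []), ([], [0]), ([], [0])]

/-- A table. -/
def rot2 : List (List (Fin 6) × List (Fin 6)) := rot2_0

/-- Part of a table. -/
def rot3_0 : List (List (Fin 6) × List (Fin 6)) := [([0, 2, 0, 3, 1, 2, 0, 3, 2], [1]), ([3, 1, 2, 0, 3, 2], []), ([0, 2, 0, 3, 2, 0], []), ([], []), ([3, 2, 0, 4, 3, 2], []), ([0, 2, 0, 3, 1, 2, 0, 3, 2], [1]), ([0, 2, 0, 3, 2], []), ([0, 3, 1, 2, 0, 3, 2], []), ([2, 0, 3, 2, 0], []), ([0, 3, 2, 0, 4, 3, 2], []), ([3, 2, 0, 4, 3, 2, 5], []), ([2, 0, 3, 2], []), ([3, 2], [0, 2, 0]), ([0,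 2, 0, 3, 2, 0, 4, 3, 2, 5], [4, 5, 4]), ([3, 2], [0, 2, 0]), ([0, 3, 2, 0, 4, 3, 2, 5], []), ([3, 2, 0], [2]), ([3, 2, 0], [2]), ([3, 1, 2, 0, 4, 3, 2], []), ([0, 2, 0, 3, 2, 0, 4, 3, 2], [4]), ([0, 2, 0, 3, 2, 0, 4, 3, 2], [4]), ([3, 1, 2, 0, 4, 3, 2, 0], []), ([3, 2, 0], [2]), ([0, 3, 1, 2, 0, 4, 3, 2], []), ([3, 1, 2, 0, 4, 3, 2, 5], []), ([0, 3, 1, 2, 0, 4, 3, 2, 0], []), ([3, 1, 2, 0, 4, 3, 2, 0, 5], []), ([0, 3, 1, 2, 0, 4, 3, 2, 5], []), ([0, 2, 0, 3, 1, 2, 0, 3, 2], [1]), ([0, 3, 1, 2, 0, 4, 3, 2, 0, 5], []), ([0, 2, 0, 3, 1, 2, 0, 3, 2], [1]), ([0, 2, 0, 3, 1, 2, 0, 3, 2], [1]), ([0, 2, 0, 3, 1, 2, 0, 3, 2], [1]), ([3, 1, 4, 3, 2, 0, 5, 4, 3, 2], []), ([0, 3, 1, 4, 3, 2, 0, 5, 4, 3, 2], []), ([3, 2, 0], [2])]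

/-- A table. -/
def rot3 : List (List (Fin 6) × List (Fin 6)) := rot3_0

/-- Part of a table. -/
def rot4_0 : List (List (Fin 6) × List (Fin 6)) := [([3, 2, 0, 4, 3, 2], [3]), ([0, 2, 0, 3, 2, 0, 4, 3, 2, 5, 4, 3], [5]), ([0, 2, 0, 3, 2, 0, 4, 3, 2, 5, 4, 3], [5]), ([0, 2, 0, 3, 2, 0, 4, 3, 2], []), ([], []), ([3, 2, 0, 4, 3, 2, 5, 4, 3], []), ([0, 2, 0, 3, 2, 0, 4, 3, 2, 5, 4, 3], [5]), ([3, 1, 2, 0, 3, 2, 4, 3], []), ([0, 2, 0, 3, 2, 0, 4, 3], []), ([2, 0, 3, 2, 0, 4, 3, 2], []), ([0, 3, 2, 0, 4, 3, 2, 5, 4, 3], []), ([0, 2, 0, 3, 2, 4, 3], []), ([0, 2, 0, 3, 2, 0, 4, 3, 1], []), ([0, 3, 1, 2, 0, 3, 2, 4, 3], []), ([2, 0, 3, 2, 0, 4, 3], []), ([3, 2, 0, 4, 3, 1, 2], [1, 3, 1]), ([0, 2, 0, 3, 2, 4, 3, 1], []), ([2, 0, 3, 2, 4, 3], []), ([2,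 0, 3, 2, 0, 4, 3, 1], []), ([3, 2, 0, 4, 3, 2], [3]), ([3, 2, 0, 4, 3, 2], [3]), ([2, 0, 3, 2, 4, 3, 1], []), ([3, 2, 0, 4, 3, 2], [3]), ([3, 2, 4, 3], [0, 2, 3, 2, 0]), ([3, 2, 0, 4, 3, 1, 2], [1, 3, 1]), ([3, 2, 0, 4, 3], [2, 3, 2]), ([3, 2, 0, 4, 3, 1, 2], [1, 3, 1]), ([3, 1, 2, 0, 4, 3, 2, 5, 4, 3], []), ([3, 2, 0, 4, 3, 2], [3]), ([3, 1, 2, 0, 4, 3, 2, 0, 5, 4, 3], []), ([0, 3, 1, 2, 0, 4, 3, 2, 5, 4, 3], []), ([3, 1, 2, 0, 4, 3, 2, 0, 5, 4, 3, 2], []), ([0, 3, 1, 2, 0, 4, 3, 2, 0, 5, 4, 3], []), ([0, 3, 1, 2, 0, 4, 3, 2, 0, 5, 4, 3, 2], []), ([0, 2, 0, 3, 2, 0, 4, 3, 2, 5, 4, 3], [5]), ([3, 2, 0, 4, 3, 2], [3])]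

/-- A table. -/
def rot4 : List (List (Fin 6) × List (Fin 6)) := rot4_0

/-- Part of a table. -/
def rot5_0 : List (List (Fin 6) × List (Fin 6)) := [([3, 2, 0, 4, 3, 2, 5, 4, 3], [4]), ([3, 2, 0, 4, 3, 2, 5, 4, 3], [4]), ([3, 2, 0, 4, 3, 2, 5, 4, 3], [4]), ([3, 2, 0, 4, 3, 1, 2, 5, 4], [1, 3, 4, 3, 1]), ([0, 2, 0, 3, 2, 0, 4, 3, 2, 5, 4, 3], []), ([], []), ([3, 2, 0, 4, 3, 2, 5, 4, 3], [4]), ([3, 2, 0, 4, 3, 2, 5, 4], [3, 4, 3]), ([3, 2, 0, 4, 3, 2, 5, 4], [3, 4, 3]), ([0, 2, 0, 3, 2, 0, 4, 3, 2, 5, 4], []), ([2, 0, 3, 2, 0, 4, 3, 2, 5, 4, 3], []), ([3, 2, 0, 4, 3, 2, 5, 4], [3, 4, 3]), ([3, 2, 0, 4, 3, 1, 2, 5, 4], [1, 3, 4, 3, 1]), ([3, 1, 2, 0, 3, 2, 4, 3, 5, 4], []), ([0, 2, 0, 3, 2, 0, 4, 3, 5, 4], []), ([2, 0, 3, 2, 0, 4, 3, 2, 5, 4],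 []), ([3, 2, 0, 4, 3, 1, 2, 5, 4], [1, 3, 4, 3, 1]), ([0, 2, 0, 3, 2, 4, 3, 5, 4], []), ([0, 2, 0, 3, 2, 0, 4, 3, 1, 5, 4], []), ([0, 3, 1, 2, 0, 3, 2, 4, 3, 5, 4], []), ([2, 0, 3, 2, 0, 4, 3, 5, 4], []), ([0, 2, 0, 3, 2, 4, 3, 1, 5, 4], []), ([2, 0, 3, 2, 4, 3, 5, 4], []), ([0, 2, 0, 3, 2, 0, 4, 3, 1, 5, 4, 3], []), ([2, 0, 3, 2, 0, 4, 3, 1, 5, 4], []), ([0, 2, 0, 3, 2, 4, 3, 1, 5, 4, 3], []), ([2, 0, 3, 2, 4, 3, 1, 5, 4], []), ([2, 0, 3, 2, 0, 4, 3, 1, 5, 4, 3], []), ([0, 2, 0, 3, 2, 4, 3, 1, 5, 4, 3, 2], []), ([2, 0, 3, 2, 4, 3, 1, 5, 4, 3], []), ([3, 2, 4, 3, 5, 4], [0, 2, 3, 4, 3, 2, 0]), ([2, 0, 3, 2, 4, 3, 1, 5, 4, 3, 2], []), ([3, 2, 0, 4, 3, 5, 4], [2, 3, 4, 3, 2]), ([3, 2, 0, 4, 3, 2, 5, 4], [3, 4, 3]), ([3, 2, 0, 4, 3, 2, 5, 4, 3],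 [4]), ([3, 2, 0, 4, 3, 2, 5, 4, 3], [4])]

/-- A table. -/
def rot5 : List (List (Fin 6) × List (Fin 6)) := rot5_0

/-- A table. -/
def rot : List (List (List (Fin 6) × List (Fin 6))) := [rot0, rot1, rot2, rot3, rot4, rot5]

/-- Part of a table. -/
def syl_0 : List (List (Fin 6)) := [[], [4, 3, 0, 2, 1, 3, 4, 5, 0, 2, 3, 4, 0, 2, 1, 3, 0], [5, 1, 3, 4, 2, 3, 0, 2, 1, 3, 4, 5, 0, 2, 1, 3, 1], [5, 4, 3, 2, 1, 3, 4, 5, 0, 2, 3, 4, 0, 2, 1, 3], [0, 2, 1, 3, 4, 5, 2, 1, 3, 4, 3, 2, 1, 3, 2, 1], [3, 4, 5, 1, 3, 4, 2, 3, 0, 2, 1, 3, 4, 5, 4, 2, 3, 0, 2, 1, 3, 4, 0, 2, 3, 1], [3, 2, 1, 3, 4, 5, 2, 1, 3, 4, 2, 1, 3, 2, 1], [5, 4, 3, 2, 1, 3, 4, 5, 4, 3, 2, 1, 3, 4, 2, 1, 3, 2, 1, 0], [3, 0], [4, 3, 0, 2, 1, 3, 4, 5, 4, 3, 2, 1, 3, 4, 3, 2, 1, 3, 2,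 1, 0], [3, 2, 1, 3, 4, 5, 2, 1, 3, 4, 3, 2, 1, 3, 2, 1, 0], [4, 5, 3, 4, 0], [0, 2, 1, 3, 4, 5, 2, 1, 3, 4, 2, 1, 3, 2, 1, 0], [4, 5, 1, 3, 4, 2, 3, 0, 2, 1, 3, 4, 5, 3, 1], [3, 0, 2, 1, 3, 4, 5, 0, 2, 3, 4, 2, 3, 0, 2, 1, 0], [3, 4, 5, 1, 3, 4, 2, 3, 0, 2, 1, 3, 4, 5, 1, 3, 1, 0], [5, 1, 3, 4, 2, 3, 0, 2, 1, 3, 4, 0, 2, 1, 3, 1, 0], [4, 3, 2, 1, 3, 4, 5, 0, 2, 3, 4, 0, 2, 1, 3], [1, 3, 4, 2, 3, 0, 2, 1, 3, 4, 0, 2, 3, 1], [3, 4, 5, 1, 3, 4, 2, 3, 0, 2, 1, 3, 4, 1, 3, 1], [2, 1, 3, 4, 5, 0, 2, 3, 4, 2, 3, 0, 2, 1, 3, 0], [4, 5, 1, 3, 4, 2, 3, 0, 2, 1, 3, 4, 3, 1, 0], [3, 2, 1, 3, 4, 5, 0, 2, 3, 4, 2, 3, 0, 2, 1, 3, 0], [4, 5, 1, 3, 4, 2, 3, 0, 2, 1, 3, 4, 1, 3, 1], [0, 2, 1, 3, 4, 5, 0, 2, 3, 4, 2, 3, 0, 2, 1, 3], [4, 3, 0, 2, 1, 3, 4, 5, 0,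 2, 3, 4, 0, 2, 1], [5, 1, 3, 4, 2, 3, 0, 2, 1, 3, 4, 5, 0, 2, 3, 1, 0], [5, 4, 3, 2, 1, 3, 4, 5, 0, 2, 3, 4, 0, 2, 1, 0], [0, 2, 1, 3, 4, 5, 0, 2, 3, 4, 2, 3, 0, 2, 1, 0], [3, 4, 5, 1, 3, 4, 2, 3, 0, 2, 1, 3, 4, 5, 3, 1], [3, 2, 1, 3, 4, 5, 0, 2, 3, 4, 2, 3, 0, 2, 1], [3, 4, 5, 1, 3, 4, 2, 3, 0, 2, 1, 3, 4, 3, 1, 0], [2, 1, 3, 4, 5, 0, 2, 3, 4, 2, 3, 0, 2, 1], [1, 3, 4, 2, 3, 0, 2, 1, 3, 4, 5, 0, 2, 1, 3, 1], [5, 4, 3, 0, 2, 1, 3, 4, 5, 0, 2, 3, 4, 0, 2, 1, 3, 0], [4, 5, 1, 3, 4, 2, 3, 0, 2, 1, 3, 4, 5, 1, 3, 1, 0], [3, 0, 2, 1, 3, 4, 5, 0, 2, 3, 4, 2, 3, 0, 2, 1, 3], [5, 1, 3, 4, 2, 3, 0, 2, 1, 3, 4, 5, 4, 3, 2, 1, 3, 4, 0, 2, 1, 3, 1, 0], [4, 3, 0, 2, 1, 3, 4, 5, 4, 3, 2, 1, 3, 4, 2, 1, 3, 2, 1, 0], [1, 3, 4, 2, 3, 0, 2, 1, 3, 4, 5, 4, 3,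 2, 1, 3, 4, 0, 2, 3, 1], [4, 5, 3, 4], [3, 2, 1, 3, 4, 5, 2, 1, 3, 4, 3, 2, 1, 3, 2, 1], [3, 4, 5, 3, 4, 3, 0], [5], [4, 3, 2, 1, 3, 4, 5, 4, 3, 2, 1, 3, 4, 3, 2, 1, 3, 2, 1], [4, 3, 2, 1, 3, 4, 5, 4, 3, 2, 1, 3, 4, 2, 1, 3, 2, 1], [5, 3], [5, 4, 3, 0, 2, 1, 3, 4, 5, 4, 3, 2, 1, 3, 4, 3, 2, 1, 3, 2, 1], [3, 0, 2, 1, 3, 4, 5, 2, 1, 3, 4, 3, 2, 1, 3, 2, 1, 0], [4, 5, 1, 3, 4, 2, 3, 0, 2, 1, 3, 4, 5, 4, 2, 3, 0, 2, 1, 3, 4, 0, 2, 3, 1, 0], [2, 1, 3, 4, 5, 2, 1, 3, 4, 2, 1, 3, 2, 1, 0], [5, 1, 3, 4, 2, 3, 0, 2, 1, 3, 4, 5, 4, 3, 2, 1, 3, 4, 0, 2, 3, 1, 0], [0], [5, 4, 3, 2, 1, 3, 4, 5, 4, 3, 2, 1, 3, 4, 3, 2, 1, 3, 2, 1, 0], [3, 4, 5, 1, 3, 4, 2, 3, 0, 2, 1, 3, 4, 5, 4, 2, 3, 0, 2, 1, 3, 4, 0, 2, 1, 3, 1], [0, 2, 1, 3, 4, 5, 2, 1, 3, 4, 2, 1, 3,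 2, 1], [1, 3, 4, 2, 3, 0, 2, 1, 3, 4, 5, 4, 3, 2, 1, 3, 4, 0, 2, 1, 3, 1], [5, 4, 3, 0, 2, 1, 3, 4, 5, 4, 3, 2, 1, 3, 4, 2, 1, 3, 2, 1], [3, 4, 5, 3, 4, 3], [2, 1, 3, 4, 5, 2, 1, 3, 4, 2, 1, 3, 2, 1], [1, 3, 4, 2, 3, 0, 2, 1, 3, 4, 5, 4, 3, 2, 1, 3, 4, 0, 2, 3, 1, 0], [5, 4, 3, 0, 2, 1, 3, 4, 5, 4, 3, 2, 1, 3, 4, 3, 2, 1, 3, 2, 1, 0], [5, 1, 3, 4, 2, 3, 0, 2, 1, 3, 4, 5, 4, 3, 2, 1, 3, 4, 0, 2, 1, 3, 1], [4, 5, 1, 3, 4, 2, 3, 0, 2, 1, 3, 4, 5, 4, 2, 3, 0, 2, 1, 3, 4, 0, 2, 1, 3, 1, 0]]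

/-- Part of a table. -/
def syl_1 : List (List (Fin 6)) := [[3, 0, 2, 1, 3, 4, 5, 2, 1, 3, 4, 2, 1, 3, 2, 1, 0], [3, 4, 5, 1, 3, 4, 2, 3, 0, 2, 1, 3, 4, 5, 4, 2, 3, 0, 2, 1, 3, 4, 0, 2, 1, 3, 1, 0], [5, 4, 3, 2, 1, 3, 4, 5, 4, 3, 2, 1, 3, 4, 3, 2, 1, 3, 2, 1], [4, 3, 0, 2, 1, 3, 4, 5, 4, 3, 2, 1, 3, 4, 2, 1, 3, 2, 1], [4, 5, 3, 4, 3], [4, 5, 1, 3, 4, 2, 3, 0, 2, 1, 3, 4, 5, 4, 2, 3, 0, 2, 1, 3, 4, 0, 2, 3, 1], [3, 0, 2, 1, 3, 4, 5, 2, 1, 3, 4, 3, 2, 1, 3, 2, 1], [5, 3, 0], [4, 3, 2, 1, 3, 4, 5, 4, 3, 2, 1, 3, 4, 2, 1, 3, 2, 1, 0], [3, 4, 5, 3, 4, 0], [2, 1, 3, 4, 5, 2, 1, 3, 4, 3, 2, 1, 3, 2, 1, 0], [3], [5, 4, 3, 2, 1, 3, 4, 5, 4, 3, 2, 1, 3, 4, 2, 1, 3, 2, 1], [5, 0], [3, 4, 5, 1, 3, 4, 2, 3, 0, 2, 1, 3, 4, 5, 4, 2, 3, 0, 2, 1, 3, 4, 0,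 2, 3, 1, 0], [0, 2, 1, 3, 4, 5, 2, 1, 3, 4, 3, 2, 1, 3, 2, 1, 0], [4, 5, 1, 3, 4, 2, 3, 0, 2, 1, 3, 4, 5, 4, 2, 3, 0, 2, 1, 3, 4, 0, 2, 1, 3, 1], [5, 4, 3, 0, 2, 1, 3, 4, 5, 4, 3, 2, 1, 3, 4, 2, 1, 3, 2, 1, 0], [1, 3, 4, 2, 3, 0, 2, 1, 3, 4, 5, 4, 3, 2, 1, 3, 4, 0, 2, 1, 3, 1, 0], [4, 3, 2, 1, 3, 4, 5, 4, 3, 2, 1, 3, 4, 3, 2, 1, 3, 2, 1, 0], [2, 1, 3, 4, 5, 2, 1, 3, 4, 3, 2, 1, 3, 2, 1], [3, 4, 5, 3, 4], [3, 0, 2, 1, 3, 4, 5, 2, 1, 3, 4, 2, 1, 3, 2, 1], [5, 1, 3, 4, 2, 3, 0, 2, 1, 3, 4, 5, 4, 3, 2, 1, 3, 4, 0, 2, 3, 1], [4, 3, 0, 2, 1, 3, 4, 5, 4, 3, 2, 1, 3, 4, 3, 2, 1, 3, 2, 1], [4, 5, 3, 4, 3, 0], [3, 2, 1, 3, 4, 5, 2, 1, 3, 4, 2, 1, 3, 2, 1, 0], [5, 4, 3, 2, 1, 3, 4, 5, 0, 2, 3, 4, 0, 2, 1], [1, 3, 4, 2, 3, 0, 2, 1, 3, 4, 0, 2, 3, 1, 0],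 [4, 3, 0, 2, 1, 3, 4, 5, 0, 2, 3, 4, 0, 2, 1, 0], [0, 2, 1, 3, 4, 5, 0, 2, 3, 4, 2, 3, 0, 2, 1, 3, 0], [3, 4, 5, 1, 3, 4, 2, 3, 0, 2, 1, 3, 4, 5, 1, 3, 1], [3, 2, 1, 3, 4, 5, 0, 2, 3, 4, 2, 3, 0, 2, 1, 3], [1, 3, 4, 2, 3, 0, 2, 1, 3, 4, 5, 0, 2, 1, 3, 1, 0], [5, 4, 3, 0, 2, 1, 3, 4, 5, 0, 2, 3, 4, 0, 2, 1, 3], [5, 1, 3, 4, 2, 3, 0, 2, 1, 3, 4, 5, 0, 2, 3, 1], [3, 4, 5, 1, 3, 4, 2, 3, 0, 2, 1, 3, 4, 3, 1], [2, 1, 3, 4, 5, 0, 2, 3, 4, 2, 3, 0, 2, 1, 0], [4, 5, 1, 3, 4, 2, 3, 0, 2, 1, 3, 4, 1, 3, 1, 0], [4, 3, 2, 1, 3, 4, 5, 0, 2, 3, 4, 0, 2, 1, 3, 0], [5, 1, 3, 4, 2, 3, 0, 2, 1, 3, 4, 0, 2, 1, 3, 1], [3, 0, 2, 1, 3, 4, 5, 0, 2, 3, 4, 2, 3, 0, 2, 1], [4, 5, 1, 3, 4, 2, 3, 0, 2, 1, 3, 4, 5, 3, 1, 0], [4, 3, 2, 1, 3, 4, 5, 0, 2, 3, 4, 0, 2, 1, 0],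 [5, 1, 3, 4, 2, 3, 0, 2, 1, 3, 4, 0, 2, 3, 1], [5, 4, 3, 0, 2, 1, 3, 4, 5, 0, 2, 3, 4, 0, 2, 1], [1, 3, 4, 2, 3, 0, 2, 1, 3, 4, 5, 0, 2, 3, 1, 0], [1, 3, 4, 2, 3, 0, 2, 1, 3, 4, 0, 2, 1, 3, 1, 0], [4, 3, 0, 2, 1, 3, 4, 5, 0, 2, 3, 4, 0, 2, 1, 3], [5, 1, 3, 4, 2, 3, 0, 2, 1, 3, 4, 5, 0, 2, 1, 3, 1, 0], [5, 4, 3, 2, 1, 3, 4, 5, 0, 2, 3, 4, 0, 2, 1, 3, 0], [3, 2, 1, 3, 4, 5, 0, 2, 3, 4, 2, 3, 0, 2, 1, 0], [4, 5, 1, 3, 4, 2, 3, 0, 2, 1, 3, 4, 3, 1], [0, 2, 1, 3, 4, 5, 0, 2, 3, 4, 2, 3, 0, 2, 1], [5, 1, 3, 4, 2, 3, 0, 2, 1, 3, 4, 0, 2, 3, 1, 0], [4, 3, 2, 1, 3, 4, 5, 0, 2, 3, 4, 0, 2, 1], [1, 3, 4, 2, 3, 0, 2, 1, 3, 4, 0, 2, 1, 3, 1], [4, 5, 1, 3, 4, 2, 3, 0, 2, 1, 3, 4, 5, 1, 3, 1], [3, 0, 2, 1, 3, 4, 5, 0, 2, 3, 4, 2, 3, 0, 2, 1, 3, 0], [3, 4,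 5, 1, 3, 4, 2, 3, 0, 2, 1, 3, 4, 5, 3, 1, 0], [5, 4, 3, 0, 2, 1, 3, 4, 5, 0, 2, 3, 4, 0, 2, 1, 0], [1, 3, 4, 2, 3, 0, 2, 1, 3, 4, 5, 0, 2, 3, 1], [2, 1, 3, 4, 5, 0, 2, 3, 4, 2, 3, 0, 2, 1, 3], [3, 4, 5, 1, 3, 4, 2, 3, 0, 2, 1, 3, 4, 1, 3, 1, 0]]

/-- A table. -/
def syl : List (List (Fin 6)) := syl_0 ++ syl_1

/-- Generators. -/
def sylGens : List (List (Fin 6)) := [[4, 3, 0, 2, 1, 3, 4, 5, 0, 2, 3, 4, 0, 2, 1, 3, 0], [5, 1, 3, 4, 2, 3, 0, 2, 1, 3, 4, 5, 0, 2, 1, 3, 1], [5, 4, 3, 2, 1, 3, 4, 5, 0, 2, 3, 4, 0, 2, 1, 3]]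

/-- Part of a table. -/
def sylNxt_0 : List (List ℕ) := [[1, 2, 3], [4, 5, 6], [7, 8, 9], [10, 11, 12], [13, 14, 15], [16, 17, 18], [19, 20, 21], [22, 23, 24], [25, 26, 27], [28, 29, 30], [31, 32, 23], [33, 34, 26], [35, 36, 29], [37, 38, 39], [40, 41, 42], [43, 44, 8], [45, 46, 47], [48, 49, 50], [9, 51, 7], [52, 53, 46], [54, 55, 49], [56, 57, 51], [58, 59, 11], [60, 61, 62], [63, 64, 5], [12, 65, 10], [66, 0, 67], [6, 68, 4], [69, 70, 65], [71, 72, 0], [73, 74, 68], [75, 76, 77], [78, 79, 80], [81, 82, 83], [84, 85, 86], [87, 88, 82], [89, 90, 85], [91, 92, 93], [94, 95, 96], [34, 33, 17], [97, 98, 99], [100, 101, 102], [18, 27, 16], [103, 104, 98], [105, 106, 101], [36, 35, 20], [107, 108, 109], [32, 31, 14], [21, 30, 19], [2, 1, 110],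 [15, 24, 13], [3, 111, 1], [112, 113, 114], [115, 116, 117], [118, 119, 120], [121, 122, 123], [124, 125, 119], [126, 127, 122], [92, 91, 104], [95, 94, 106], [98, 97, 103], [101, 100, 105], [27, 18, 25], [99, 93, 97]]

/-- Part of a table. -/
def sylNxt_1 : List (List ℕ) := [[102, 96, 100], [108, 107, 111], [30, 21, 28], [24, 15, 22], [110, 109, 2], [113, 112, 125], [116, 115, 127], [119, 118, 124], [122, 121, 126], [120, 114, 118], [123, 117, 121], [93, 99, 91], [96, 102, 94], [17, 16, 34], [104, 103, 92], [106, 105, 95], [26, 25, 33], [20, 19, 36], [109, 110, 107], [14, 13, 32], [29, 28, 35], [111, 3, 108], [23, 22, 31], [114, 120, 112], [117, 123, 115], [125, 124, 113], [127, 126, 116], [90, 89, 79], [88, 87, 76], [55, 54, 41], [80, 86,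 78], [77, 83, 75], [42, 50, 40], [57, 56, 44], [74, 73, 64], [53, 52, 38], [8, 7, 43], [5, 4, 63], [39, 47, 37], [70, 69, 59], [72, 71, 61], [11, 10, 58], [62, 67, 60], [86, 80, 84], [83, 77, 81], [50, 42, 48], [47, 39, 45], [67, 62, 66], [79, 78, 90], [76, 75, 88], [41, 40, 55], [85, 84, 89], [82, 81, 87], [49, 48, 54], [44, 43, 57], [64, 63, 74], [38, 37, 53], [51, 9, 56], [68, 6, 73], [46, 45, 52], [59, 58, 70], [61, 60, 72], [65, 12, 69], [0, 66, 71]]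

/-- A table. -/
def sylNxt : List (List ℕ) := sylNxt_0 ++ sylNxt_1

/-- Part of a table. -/
def sylPar_0 : List (ℕ × ℕ) := [(0, 0), (0, 0), (1, 0), (2, 0), (0, 1), (1, 1), (2, 1), (0, 2), (1, 2), (2, 2), (0, 3), (1, 3), (2, 3), (0, 4), (1, 4), (2, 4), (0, 5), (1, 5), (2, 5), (0, 6), (1, 6), (2, 6), (0, 7), (1, 7), (2, 7), (0, 8), (1, 8), (2, 8), (0, 9), (1, 9), (2, 9), (0, 10), (1, 10), (0, 11), (1, 11), (0, 12), (1, 12), (0, 13), (1, 13), (2, 13), (0, 14), (1, 14), (2, 14), (0, 15), (1, 15), (0, 16), (1, 16), (2, 16), (0, 17), (1, 17), (2, 17), (1, 18), (0, 19), (1, 19), (0, 20), (1, 20), (0, 21), (1, 21), (0, 22), (1, 22), (0, 23), (1, 23), (2, 23), (0, 24)]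

/-- Part of a table. -/
def sylPar_1 : List (ℕ × ℕ) := [(1, 24), (1, 25), (0, 26), (2, 26), (1, 27), (0, 28), (1, 28), (0, 29), (1, 29), (0, 30), (1, 30), (0, 31), (1, 31), (2, 31), (0, 32), (1, 32), (2, 32), (0, 33), (1, 33), (2, 33), (0, 34), (1, 34), (2, 34), (0, 35), (1, 35), (0, 36), (1, 36), (0, 37), (1, 37), (2, 37), (0, 38), (1, 38), (2, 38), (0, 40), (1, 40), (2, 40), (0, 41), (1, 41), (2, 41), (0, 43), (1, 43), (0, 44), (1, 44), (0, 46), (1, 46), (2, 46), (2, 49), (1, 51), (0, 52), (1, 52), (2, 52), (0, 53), (1, 53), (2, 53), (0, 54), (1, 54), (2, 54), (0, 55), (1, 55), (2, 55), (0, 56), (1, 56), (0, 57), (1, 57)]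

/-- A table. -/
def sylPar : List (ℕ × ℕ) := sylPar_0 ++ sylPar_1

/-- Part of a table. -/
def sylInv_0 : List (List (Fin 6) × ℕ) := [([], 0), ([], 0), ([], 0), ([], 0), ([], 0), ([], 0), ([], 0), ([], 0), ([4, 3, 5, 4], 1), ([1, 2, 3, 1, 2, 4, 3, 5, 4], 2), ([], 0), ([1, 2, 0, 3, 4, 3, 2, 0, 5, 4, 3, 1, 2], 2), ([2, 0, 3, 1, 4, 3, 1, 2, 0], 1), ([], 0), ([], 0), ([], 0), ([], 0), ([], 0), ([2, 4, 3, 1, 2, 3, 5, 4], 1), ([], 0), ([], 0), ([], 0), ([], 0), ([], 0), ([], 0), ([], 0), ([], 0), ([], 0), ([2, 3, 4, 3, 1, 2, 0], 1), ([], 0), ([], 0), ([], 0), ([2, 3, 4, 3, 1, 2], 1), ([], 0), ([], 0), ([], 0), ([], 0), ([], 3), ([2, 0, 3, 1, 4, 3, 1, 2, 0, 3, 4], 1), ([2, 3, 1, 4, 3, 2, 5, 4, 3, 1], 0), ([2, 0, 3, 2, 4], 1), ([2, 0, 3, 1, 4, 3,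 1, 2, 3], 1), ([1, 2, 0, 4, 3, 2, 0, 5, 4, 3, 1, 2], 2), ([2, 0, 3, 2, 4, 3, 5, 4], 0), ([1, 2, 3, 1, 2, 0, 4, 3, 5, 4], 2), ([2, 0, 3, 1, 4, 3, 1, 2, 3, 4], 1), ([2, 0, 3, 2], 1), ([], 0), ([2, 0, 3, 1, 4, 3, 1, 2, 0, 3], 1), ([4], 3), ([], 0), ([], 2), ([], 0), ([], 0), ([2, 0, 3, 2, 4, 3], 2), ([], 0), ([2, 0, 4, 3, 1, 2, 0, 3, 2, 4, 3, 1], 1), ([], 0), ([2, 0, 3, 2, 4, 3], 1), ([2, 0, 3, 1, 4, 3, 1, 2], 1), ([2, 3, 1, 4, 3, 2, 0, 5, 4, 3, 1, 2], 1), ([1, 2, 0, 3, 2], 3), ([2, 0, 3, 2], 2), ([], 0)]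

/-- Part of a table. -/
def sylInv_1 : List (List (Fin 6) × ℕ) := [([], 0), ([4, 3], 3), ([1, 2, 0, 3, 2, 0], 3), ([], 0), ([], 0), ([2, 0, 3, 2, 4], 2), ([], 0), ([1, 2, 0, 3, 2, 4, 3, 1, 2, 5, 4, 3, 1, 2], 2), ([], 0), ([], 0), ([], 0), ([2, 0, 3, 2], 0), ([1, 2, 3, 1, 2, 0], 2), ([], 1), ([], 0), ([], 0), ([], 0), ([1, 2, 3, 1, 2], 2), ([4, 3, 5, 4], 2), ([], 0), ([], 0), ([], 0), ([], 0), ([4, 3, 1, 2, 0, 3, 2, 4, 3, 1, 5, 4], 1), ([], 0), ([], 0), ([], 0), ([], 0), ([], 0), ([], 0), ([], 0), ([], 0), ([2, 3, 4, 3, 1, 2, 3], 1), ([], 0), ([], 0), ([2, 4, 3, 1, 2, 3, 4, 5, 4], 1), ([], 0), ([], 0), ([], 0), ([], 0), ([], 0), ([], 0), ([], 0), ([], 0), ([], 0), ([], 0), ([], 0), ([2, 4, 3, 1, 2, 0, 3, 5, 4], 1), ([], 0), ([2, 4, 3, 1, 2,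 0, 3, 4, 5, 4], 1), ([], 0), ([], 0), ([], 0), ([], 0), ([], 0), ([], 0), ([], 0), ([], 0), ([2, 3, 4, 3, 1, 2, 0, 3], 1), ([], 0), ([], 0), ([], 0), ([], 0), ([], 0)]

/-- A table. -/
def sylInv : List (List (Fin 6) × ℕ) := sylInv_0 ++ sylInv_1

end Cfsg.Agent.Lie.PSpFourThreeFull.W6
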