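import Cfsg.Agent.Lib.Lie.PSpFourThreeFull.WeylPerm
import Cfsg.Agent.Lib.Lie.PSpFourThreeFull.WeylCert
import Cfsg.Agent.Lib.Lie.PSpFourThreeFull.W6Data
import Cfsg.Agent.Lib.Lie.WeylE6
import Cfsg.Agent.S1093
import Cfsg.Agent.S2418

/-!
The certified facts on the Coxeter group of type E6.
-/

set_option autoImplicit false
set_option maxRecDepth 1000000

namespace Cfsg.Agent.Lie.PSpFourThreeFull.W6

open Cfsg.Agent.Lie

theorem okTab6 : okTab Cfsg.Lie.chevE6 tab = true := by decide +kernel

theorem simp0_eq : simp0 = (List.range Cfsg.Lie.chevE6.rank).map Cfsg.Lie.chevE6.simple := by decide +kernel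

/-- The model. -/
def model : WordModel (CoxeterMatrix.E₆ : CoxeterMatrix (Fin 6)).Group 6 where
  s := CoxeterMatrix.E₆.simple
  img ω := evImg tab simp0 (ω.map Fin.val)
  eq_iff := word_eq_iff factsE6 (CoxeterMatrix.E₆ : CoxeterMatrix (Fin Cfsg.Lie.chevE6.rank)) coxeterE6.1 coxeterE6.2
    okTab6 simp0_eq
  sq i := CoxeterMatrix.E₆.toCoxeterSystem.simple_mul_simple_self i
  gen := CoxeterMatrix.E₆.toCoxeterSystem.subgroup_closure_range_simple

theorem closed : model.okClosed refls reflNxt = true := by decide +kernel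

theorem conjOk : model.okConj refls reflCj 0 = true := by decide +kernel

theorem nodup : model.okNodup refls = true := by decide +kernel

theorem simple_mem : ∀ i : Fin 6, [i] ∈ refls := by decide +kernel

theorem rotOk : model.okRot refls rot 0 2 = true := by decide +kernel

theorem table : model.okTable syl sylGens sylNxt = true := by decide +kernel

theorem tree : model.okTree syl sylGens sylPar = true := by decide +kernel

theorem tableNodup : model.okNodup syl = true := by decide +kernel

theorem invol : model.okInvol syl reps sylInv = true := by decide +kernel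

theorem card_eq : Nat.card (CoxeterMatrix.E₆ : CoxeterMatrix (Fin 6)).Group = 51840 :=
  Cfsg.Agent.S1093.result (⟨6, CoxeterMatrix.E₆⟩, 51840) (by simp)

theorem center_eq_bot : Subgroup.center (CoxeterMatrix.E₆ : CoxeterMatrix (Fin 6)).Group = ⊥ :=
  Subgroup.eq_bot_of_card_eq _ (Cfsg.Agent.S2418.result (⟨6, CoxeterMatrix.E₆⟩, 1) (by simp)).1

theorem finite : Finite (CoxeterMatrix.E₆ : CoxeterMatrix (Fin 6)).Group :=
  Nat.finite_of_card_ne_zero (by rw [card_eq]; norm_num)

theorem index_centralizer :
    (Subgroup.centralizer ({model.s 0} : Set (CoxeterMatrix.E₆ : CoxeterMatrix (Fin 6)).Group)).index = 36 := by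
  haveI := finite
  exact (model.index_centralizer closed 0 (simple_mem 0) conjOk nodup).trans (by decide +kernel)

theorem involution_conj {u : (CoxeterMatrix.E₆ : CoxeterMatrix (Fin 6)).Group} (hu : u * u = 1) (hu1 : u ≠ 1) :
    ∃ g, ∃ ω ∈ reps, g * u * g⁻¹ = model.pr ω := by
  haveI := finite
  exact model.involution_conj table tableNodup tree (e := 7) (o := 405) (by norm_num) (by decide +kernel)
    (by rw [card_eq]; norm_num) invol hu hu1

theorem rot_mem (N : Subgroup (CoxeterMatrix.E₆ : CoxeterMatrix (Fin 6)).Group) [N.Normal] (hN : N ≠ ⊥) :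
    model.s 0 * model.s 2 ∈ N := by
  obtain ⟨⟨x, hx⟩, hx1⟩ := exists_ne_one_of_nontrivial' hN
  refine model.rot_mem closed simple_mem rotOk N hx fun h => hx1 ?_
  rw [center_eq_bot, Subgroup.mem_bot] at h
  exact Subtype.ext h
where
  exists_ne_one_of_nontrivial' {N : Subgroup (CoxeterMatrix.E₆ : CoxeterMatrix (Fin 6)).Group} (h : N ≠ ⊥) :
      ∃ x : N, x ≠ 1 := by
    by_contra hc
    push Not at hc
    exact h ((Subgroup.eq_bot_iff_forall _).2 fun y hy => congrArg Subtype.val (hc ⟨y, hy⟩))

end Cfsg.Agent.Lie.PSpFourThreeFull.W6
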