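import Cfsg.Agent.Lib.Lie.PSpFourThreeFull.Local
import Mathlib.GroupTheory.GroupAction.Basic
import Mathlib.GroupTheory.SpecificGroups.Cyclic
import Mathlib.GroupTheory.Sylow
import Mathlib.Algebra.Group.Action.Prod
import Mathlib.GroupTheory.PGroup

/-!
Additive permutation groups of three ternary coordinates in which the stabiliser of the diagonal vector is the
symmetric group of the coordinates: the orbit of that vector has one, two, four or eight elements.
-/

set_option autoImplicit false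
set_option linter.unusedSectionVars false

namespace Cfsg.Agent.Lie.PSpFourThreeFull

open Cfsg.Agent.Lie.PSpFourThreeAmalgam

/-- The diagonal vector. -/
def dia : V3 := (1, 1, 1)

theorem six_dia : ∀ k, six k dia = dia := by decide +kernel

theorem six_add : ∀ k v w, six k (v + w) = six k v + six k w := by decide +kernel

theorem six_inj : ∀ i j, (∀ v ∈ ([(1, 0, 0), (0, 1, 0), (0, 0, 1)] : List V3), six i v = six j v) → i = j := by
  decide +kernel

theorem six_mU : six 1 = mU := rfl

theorem six_mT : six 3 = mT := rfl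

theorem mU_fixed : ∀ v, mU v = v ↔ v = 0 ∨ v = dia ∨ v = -dia := by decide +kernel

theorem mU_three : ∀ v, mU (mU (mU v)) = v := by decide +kernel

theorem mT_two : ∀ v, mT (mT v) = v := by decide +kernel

theorem mT_mU : ∀ v, mT (mU (mT v)) = mU (mU v) := by decide +kernel

theorem neg_dia_ne : -dia ≠ dia := by decide +kernel

theorem dia_ne : dia ≠ 0 ∧ -dia ≠ 0 := by decide +kernel

/-- The basis vectors span. -/
theorem eq_sum : ∀ v : V3, v = v.1.val • ((1, 0, 0) : V3) + v.2.1.val • ((0, 1, 0) : V3) +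
    v.2.2.val • ((0, 0, 1) : V3) := by decide +kernel

theorem ext_additive {f g : V3 → V3} (hf : ∀ v w, f (v + w) = f v + f w) (hg : ∀ v w, g (v + w) = g v + g w)
    (h : ∀ v ∈ ([(1, 0, 0), (0, 1, 0), (0, 0, 1)] : List V3), f v = g v) (v : V3) : f v = g v := by
  let F : V3 →+ V3 := AddMonoidHom.mk' f hf
  let G : V3 →+ V3 := AddMonoidHom.mk' g hg
  show F v = G v
  rw [eq_sum v, map_add, map_add, map_add, map_add, map_nsmul, map_nsmul, map_nsmul, map_nsmul, map_nsmul,
    map_nsmul, show F (1, 0, 0) = G (1, 0, 0) from h _ (by simp), show F (0, 1, 0) = G (0, 1, 0) from h _ (by simp),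
    show F (0, 0, 1) = G (0, 0, 1) from h _ (by simp)]

/-- The function of a permutation. -/
def toEnd {α : Type*} : Equiv.Perm α →* Function.End α where
  toFun σ := ⇑σ
  map_one' := rfl
  map_mul' _ _ := rfl

/-- The hypotheses on the group of permutations. -/
structure WData (W : Subgroup (Equiv.Perm V3)) : Prop where
  add : ∀ w ∈ W, ∀ x y, w (x + y) = w x + w y
  stab : ∀ w ∈ W, w dia = dia → ∃ k, ∀ v, w v = six k v
  real : ∀ k, ∃ w ∈ W, ∀ v, w v = six k v
  nine : ¬ 9 ∣ Nat.card W

namespace WData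

variable {W : Subgroup (Equiv.Perm V3)}

variable (D : WData W)
include D

theorem map_zero' {w : Equiv.Perm V3} (hw : w ∈ W) : w 0 = 0 := by
  have h := D.add w hw 0 0
  rwa [add_zero, left_eq_add] at h

theorem map_neg' {w : Equiv.Perm V3} (hw : w ∈ W) (v : V3) : w (-v) = -(w v) :=
  eq_neg_of_add_eq_zero_right (by rw [← D.add w hw, add_neg_cancel, D.map_zero' hw])

omit D in
open scoped Classical in
/-- The orbit of the diagonal vector. -/
noncomputable def orb (_ : WData W) : Finset V3 := Finset.univ.filter fun v => ∃ w ∈ W, w dia = v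

theorem mem_orb {v : V3} : v ∈ D.orb ↔ ∃ w ∈ W, w dia = v := by simp [orb]

theorem dia_mem : dia ∈ D.orb := D.mem_orb.2 ⟨1, W.one_mem, rfl⟩

theorem orb_map {w : Equiv.Perm V3} (hw : w ∈ W) {v : V3} (hv : v ∈ D.orb) : w v ∈ D.orb := by
  obtain ⟨u, hu, rfl⟩ := D.mem_orb.1 hv
  exact D.mem_orb.2 ⟨w * u, W.mul_mem hw hu, rfl⟩

theorem orb_six (k : Fin 6) {v : V3} (hv : v ∈ D.orb) : six k v ∈ D.orb := by
  obtain ⟨w, hw, h⟩ := D.real k
  exact h v ▸ D.orb_map hw hv

theorem zero_not_mem : (0 : V3) ∉ D.orb := by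
  intro h
  obtain ⟨w, hw, h1⟩ := D.mem_orb.1 h
  exact dia_ne.1 (w.injective (h1.trans (D.map_zero' hw).symm))

theorem card_W : Nat.card W = 6 * D.orb.card := by
  classical
  choose r hr hrv using D.real
  have hsub : ∀ v : {v // v ∈ D.orb}, ∃ w ∈ W, w dia = v.1 := fun v => D.mem_orb.1 v.2
  choose s hs hsv using hsub
  let f : Fin 6 × {v // v ∈ D.orb} → W := fun x => ⟨s x.2 * r x.1, W.mul_mem (hs _) (hr _)⟩
  have hval : ∀ x, (f x).1 dia = x.2.1 := fun x => by
    show s x.2 (r x.1 dia) = _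
    rw [hrv, six_dia, hsv]
  have hinj : Function.Injective f := by
    intro x y h
    have h2 : x.2 = y.2 := Subtype.ext (by rw [← hval x, ← hval y, h])
    refine Prod.ext (six_inj _ _ fun v _ => ?_) h2
    have h1 := Equiv.congr_fun (congrArg Subtype.val h) v
    simp only [f, h2, Equiv.Perm.mul_apply] at h1
    rw [← hrv, ← hrv]
    exact (s y.2).injective h1
  have hsurj : Function.Surjective f := by
    rintro ⟨w, hw⟩
    let v : {v // v ∈ D.orb} := ⟨w dia, D.mem_orb.2 ⟨w, hw, rfl⟩⟩
    obtain ⟨k, hk⟩ := D.stab ((s v)⁻¹ * w) (W.mul_mem (W.inv_mem (hs v)) hw) (by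
      rw [Equiv.Perm.mul_apply, show w dia = s v dia from (hsv v).symm]
      exact (s v).symm_apply_apply dia)
    refine ⟨(k, v), Subtype.ext (Equiv.ext fun u => ?_)⟩
    show s v (r k u) = w u
    rw [hrv, ← hk u]
    exact (s v).apply_symm_apply (w u)
  rw [← Nat.card_eq_of_bijective f ⟨hinj, hsurj⟩, Nat.card_prod, Nat.card_fin, Nat.card_eq_fintype_card,
    Fintype.card_coe]

theorem card_orb_three : ¬ 3 ∣ D.orb.card := fun h => D.nine (by
  rw [D.card_W, show 9 = 3 * 3 from rfl, show (6 : ℕ) = 3 * 2 from rfl, mul_assoc 3 2]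
  exact mul_dvd_mul_left 3 (h.mul_left 2))

open scoped Classical in
/-- The orbit meets the fixed points of the shift with the same residue. -/
theorem card_mod : D.orb.card % 3 = if -dia ∈ D.orb then 2 else 1 := by
  haveI : Fact (Nat.Prime 3) := ⟨Nat.prime_three⟩
  let u : Equiv.Perm V3 := ⟨mU, fun v => mU (mU v), mU_three, mU_three⟩
  have hu : ∀ v, v ∈ D.orb → mU v ∈ D.orb := fun v hv => D.orb_six 1 hv
  let p : Equiv.Perm {v // v ∈ D.orb} := u.subtypePerm (p := fun v => v ∈ D.orb) fun v =>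
    ⟨fun h => by simpa [u, mU_three] using hu _ (hu _ h), fun h => hu v h⟩
  have hp : p ^ 3 ^ 1 = 1 := by
    rw [pow_one]
    exact Equiv.ext fun ⟨v, hv⟩ => Subtype.ext (show mU (mU (mU v)) = v from mU_three v)
  have h := Equiv.Perm.card_fixedPoints_modEq (f := toEnd p) (p := 3) (n := 1)
    (by rw [← map_pow, hp, map_one])
  have hfix : Nat.card {x // p x = x} = if -dia ∈ D.orb then 2 else 1 := by
    rw [Nat.card_congr (Equiv.subtypeEquivRight (q := fun x : {v // v ∈ D.orb} => x.1 = dia ∨ x.1 = -dia)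
      fun x => ?_), Nat.card_eq_fintype_card]
    · rw [Fintype.card_subtype]
      split
      case isTrue hm =>
        rw [show Finset.univ.filter _ = ({⟨dia, D.dia_mem⟩, ⟨-dia, hm⟩} : Finset {v // v ∈ D.orb}) by
          ext x; simp [Subtype.ext_iff]]
        exact Finset.card_pair fun h => neg_dia_ne (congrArg Subtype.val h).symm
      case isFalse hm =>
        rw [show Finset.univ.filter _ = ({⟨dia, D.dia_mem⟩} : Finset {v // v ∈ D.orb}) by
          ext x
          simp only [Finset.mem_filter, Finset.mem_univ, true_and, Finset.mem_singleton, Subtype.ext_iff]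
          exact or_iff_left fun (h : x.1 = -dia) => hm (h ▸ x.2)]
        exact Finset.card_singleton _
    · show p x = x ↔ _
      rw [Subtype.ext_iff]
      show mU x.1 = x.1 ↔ _
      rw [mU_fixed]
      exact or_iff_right fun (h : x.1 = 0) => D.zero_not_mem (h ▸ x.2)
  have h' : D.orb.card % 3 = (if -dia ∈ D.orb then 2 else 1) % 3 := by
    rw [← hfix, ← Fintype.card_coe, Nat.card_eq_fintype_card]
    simp only [← Nat.card_eq_fintype_card] at h ⊢
    exact h
  rw [h']
  split <;> rfl

theorem card_orb_le : D.orb.card ≤ 26 := by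
  have h := Finset.card_le_card (Finset.subset_univ (insert (0 : V3) D.orb))
  rw [Finset.card_insert_of_notMem D.zero_not_mem, Finset.card_univ] at h
  have : Fintype.card V3 = 27 := by simp [V3]
  omega

theorem card_orb_le' (hn : -dia ∉ D.orb) : D.orb.card ≤ 13 := by
  classical
  have hd : Disjoint D.orb (D.orb.image Neg.neg) := by
    rw [Finset.disjoint_left]
    intro v hv hv'
    obtain ⟨x, hx, rfl⟩ := Finset.mem_image.1 hv'
    obtain ⟨w, hw, rfl⟩ := D.mem_orb.1 hx
    obtain ⟨w', hw', h⟩ := D.mem_orb.1 hv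
    refine hn (D.mem_orb.2 ⟨w⁻¹ * w', W.mul_mem (W.inv_mem hw) hw', ?_⟩)
    rw [Equiv.Perm.mul_apply, h, ← D.map_neg' hw]
    exact w.symm_apply_apply _
  have h0 : (0 : V3) ∉ D.orb ∪ D.orb.image Neg.neg := by
    simp only [Finset.mem_union, Finset.mem_image, neg_eq_zero, exists_eq_right, or_self]
    exact D.zero_not_mem
  have h := Finset.card_le_card (Finset.subset_univ (insert (0 : V3) (D.orb ∪ D.orb.image Neg.neg)))
  rw [Finset.card_insert_of_notMem h0, Finset.card_union_of_disjoint hd,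
    Finset.card_image_of_injective _ neg_injective, Finset.card_univ] at h
  have : Fintype.card V3 = 27 := by simp [V3]
  omega

/-- The fixed points of an element form a subgroup, whose order is a power of three. -/
theorem prime_cases {p : ℕ} (hp : p.Prime) (hd : p ∣ Nat.card W) :
    p = 2 ∨ p = 3 ∨ p = 13 := by
  classical
  haveI := Fact.mk hp
  obtain ⟨⟨w, hw⟩, ho⟩ := exists_prime_orderOf_dvd_card' p hd
  rw [Subgroup.orderOf_mk] at ho
  let Fx : AddSubgroup V3 :=
    { carrier := {v | w v = v}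
      zero_mem' := D.map_zero' hw
      add_mem' := fun {x y} hx hy => by
        show w (x + y) = x + y
        rw [D.add w hw, hx, hy]
      neg_mem' := fun {x} hx => by
        show w (-x) = -x
        rw [D.map_neg' hw, hx] }
  have hdvd : Nat.card Fx ∣ 3 ^ 3 := by
    have h := AddSubgroup.card_addSubgroup_dvd_card Fx
    rwa [V3_card] at h
  obtain ⟨i, hi, hcard⟩ := (Nat.dvd_prime_pow Nat.prime_three).1 hdvd
  have hne : Nat.card Fx ≠ 27 := by
    intro h
    have htop : Fx = ⊤ := AddSubgroup.eq_top_of_card_eq _ (by rw [h, V3_card])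
    refine hp.one_lt.ne' (ho ▸ orderOf_eq_one_iff.2 (Equiv.ext fun v => ?_))
    exact (htop ▸ AddSubgroup.mem_top v : v ∈ Fx)
  have hmod := Equiv.Perm.card_fixedPoints_modEq (f := toEnd w) (p := p) (n := 1)
    (by rw [← map_pow, pow_one, ← ho, pow_orderOf_eq_one, map_one])
  have h27 : Fintype.card V3 = 27 := by simp [V3]
  replace hmod : 3 ^ i ≡ 27 [MOD p] := by
    refine (Nat.ModEq.symm ?_)
    rw [← hcard, ← h27, ← Nat.card_eq_fintype_card]
    simp only [← Nat.card_eq_fintype_card] at hmod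
    exact hmod
  have hi3 : i ≠ 3 := fun h => hne (by rw [hcard, h]; rfl)
  have hdv := (Nat.modEq_iff_dvd' (by
    calc 3 ^ i ≤ 3 ^ 3 := Nat.pow_le_pow_right (by norm_num) hi
      _ = 27 := by norm_num)).1 hmod
  have key : p ∣ 2 * 3 * 13 ^ 1 * (2 * 3) := by
    have h26 : 27 - 3 ^ i ∣ 2 * 3 * 13 ^ 1 * (2 * 3) ^ 2 := by
      rcases (show i = 0 ∨ i = 1 ∨ i = 2 by omega) with rfl | rfl | rfl <;> norm_num
    have h2 := hdv.trans h26
    rcases (hp.dvd_mul).1 h2 with h | h
    · exact h.mul_right _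
    · exact (hp.dvd_of_dvd_pow h).mul_left _
  have hpr : ∀ q : ℕ, q.Prime → p ∣ q → p = q := fun q hq h => (Nat.prime_dvd_prime_iff_eq hp hq).1 h
  rcases (hp.dvd_mul).1 key with h | h
  · rcases (hp.dvd_mul).1 h with h | h
    · rcases (hp.dvd_mul).1 h with h | h
      · exact Or.inl (hpr 2 Nat.prime_two h)
      · exact Or.inr (Or.inl (hpr 3 Nat.prime_three h))
    · exact Or.inr (Or.inr (hpr 13 (by norm_num) (hp.dvd_of_dvd_pow h)))
  · rcases (hp.dvd_mul).1 h with h | h
    · exact Or.inl (hpr 2 Nat.prime_two h)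
    · exact Or.inr (Or.inl (hpr 3 Nat.prime_three h))

/-- No element of order thirteen. -/
theorem not_thirteen (hle : D.orb.card ≤ 26) : ¬ 13 ∣ Nat.card W := by
  classical
  haveI : Fact (Nat.Prime 13) := ⟨by norm_num⟩
  intro hd
  let P : Sylow 13 W := default
  haveI hPn : (P : Subgroup W).Normal := by
    have h1 : Nat.card (Sylow 13 W) ∣ (P : Subgroup W).index := P.card_dvd_index
    have h2 := card_sylow_modEq_one 13 W
    have h3 : (P : Subgroup W).index * 13 ∣ Nat.card W := by
      rw [← (P : Subgroup W).card_mul_index, mul_comm]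
      refine mul_dvd_mul_right ?_ _
      exact P.dvd_card_of_dvd_card hd
    rw [D.card_W] at h3
    have h4 : (P : Subgroup W).index * 13 ≤ 6 * D.orb.card :=
      Nat.le_of_dvd (by have := Finset.card_pos.2 ⟨dia, D.dia_mem⟩; omega) h3
    have h5 : Nat.card (Sylow 13 W) ≤ 12 := (Nat.le_of_dvd (Nat.pos_of_ne_zero Subgroup.index_ne_zero_of_finite) h1).trans
      (by omega)
    have h6 : Nat.card (Sylow 13 W) = 1 := by
      unfold Nat.ModEq at h2
      rw [Nat.mod_eq_of_lt (by omega : Nat.card (Sylow 13 W) < 13)] at h2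
      exact h2
    haveI : Subsingleton (Sylow 13 W) := (Nat.card_eq_one_iff_unique.1 h6).1
    exact P.normal_of_subsingleton
  obtain ⟨x, hx⟩ := exists_prime_orderOf_dvd_card' (G := (P : Subgroup W)) 13 (P.dvd_card_of_dvd_card hd)
  have hPc : IsCyclic (P : Subgroup W) := by
    have hle2 : Nat.card (P : Subgroup W) ≤ 6 * 26 :=
      (Nat.le_of_dvd Nat.card_pos (Subgroup.card_subgroup_dvd_card _)).trans (by rw [D.card_W]; omega)
    obtain ⟨n, hn⟩ := IsPGroup.iff_card.1 P.2
    have hn1 : n ≤ 1 := by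
      by_contra h
      have : 13 ^ 2 ≤ 13 ^ n := Nat.pow_le_pow_right (by norm_num) (by omega)
      omega
    rcases (show n = 0 ∨ n = 1 by omega) with rfl | rfl
    · haveI : Subsingleton (P : Subgroup W) := (Nat.card_eq_one_iff_unique.1 (by simpa using hn)).1
      infer_instance
    · exact isCyclic_of_prime_card (by simpa using hn)
  obtain ⟨e⟩ : Nonempty (MulAut (P : Subgroup W) ≃* (ZMod (Nat.card (P : Subgroup W)))ˣ) :=
    ⟨hPc.mulAutMulEquiv⟩
  let ψ : W →* (ZMod (Nat.card (P : Subgroup W)))ˣ := e.toMonoidHom.comp MulAut.conjNormal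
  obtain ⟨U, hU, hUv⟩ := D.real 1
  obtain ⟨T, hT, hTv⟩ := D.real 3
  let U' : W := ⟨U, hU⟩
  let T' : W := ⟨T, hT⟩
  have hT2 : T' * T' = 1 := Subtype.ext (Equiv.ext fun v => by
    show T (T v) = v
    rw [hTv, hTv, six_mT, mT_two])
  have hTUT : T' * U' * T' = U' * U' := Subtype.ext (Equiv.ext fun v => by
    show T (U (T v)) = U (U v)
    rw [hTv, hUv, hTv, hUv, hUv, six_mT, six_mU, mT_mU])
  have hU1 : ψ U' = 1 := by
    have h := congrArg ψ hTUT
    rw [map_mul, map_mul, map_mul, mul_right_comm, ← map_mul, hT2, map_one, one_mul] at h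
    exact (right_eq_mul.1 h)
  have hcomm : U' * (x : W) = (x : W) * U' := by
    have h1 : MulAut.conjNormal (H := (P : Subgroup W)) U' = 1 := e.injective (by rw [map_one]; exact hU1)
    have h2 := congrArg Subtype.val (congrArg (fun f : MulAut (P : Subgroup W) => f x) h1)
    rw [MulAut.conjNormal_apply, MulAut.one_apply] at h2
    exact mul_inv_eq_iff_eq_mul.1 h2
  have hfix : ∀ v, mU v = v → mU (x.1.1 v) = x.1.1 v := fun v hv => by
    have h := Equiv.congr_fun (congrArg Subtype.val hcomm) v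
    simp only [Subgroup.coe_mul, Equiv.Perm.mul_apply, U', hUv, six_mU, hv] at h
    exact h
  have h13 : (x : W).1 ^ 13 = 1 := by
    have h := pow_orderOf_eq_one x
    rw [hx] at h
    exact congrArg (fun y : (P : Subgroup W) => (y : W).1) h
  have hxd : x.1.1 dia = dia := by
    have hxW := x.1.2
    rcases (mU_fixed _).1 (hfix dia ((mU_fixed _).2 (Or.inr (Or.inl rfl)))) with h | h | h
    · exact absurd (x.1.1.injective (h.trans (D.map_zero' hxW).symm)) dia_ne.1
    · exact h
    · exfalso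
      have h2 : (x.1.1 ^ 2) dia = dia := by
        rw [pow_two, Equiv.Perm.mul_apply, h, D.map_neg' hxW, h, neg_neg]
      have h12 : (x.1.1 ^ 12) dia = dia := by
        rw [show 12 = 2 * 6 from rfl, pow_mul]
        exact Equiv.Perm.pow_apply_eq_self_of_apply_eq_self h2 6
      have h3 := Equiv.congr_fun h13 dia
      rw [pow_succ', Equiv.Perm.mul_apply, h12, h] at h3
      exact neg_dia_ne h3
  obtain ⟨k, hk⟩ := D.stab _ x.1.2 hxd
  have hk6 : ∀ k : Fin 6, ∀ v ∈ ([(1, 0, 0), (0, 1, 0), (0, 0, 1)] : List V3), (six k)^[6] v = v := by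
    decide +kernel
  have hx6 : (x.1.1 ^ 6) = 1 := Equiv.ext fun v => by
    refine ext_additive (g := fun v => v) (fun a b => ?_) (fun a b => rfl) (fun u hu => ?_) v
    · exact D.add _ (W.pow_mem x.1.2 6) a b
    · rw [← Equiv.Perm.iterate_eq_pow, show ⇑(x.1.1) = six k from funext hk]
      exact hk6 k u hu
  have : (13 : ℕ) ∣ 6 := by
    rw [← hx]
    refine orderOf_dvd_of_pow_eq_one (Subtype.ext (Subtype.ext ?_))
    simpa using hx6
  norm_num at this

theorem card_cases : (-dia ∉ D.orb ∧ (D.orb.card = 1 ∨ D.orb.card = 4)) ∨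
    (-dia ∈ D.orb ∧ (D.orb.card = 2 ∨ D.orb.card = 8)) := by
  have hle := D.card_orb_le
  have h13 := D.not_thirteen hle
  have hp : ∀ p : ℕ, p.Prime → p ∣ D.orb.card → p = 2 := fun p hp hd => by
    rcases D.prime_cases hp (by rw [D.card_W]; exact hd.mul_left 6) with h | h | h
    · exact h
    · exact absurd (h ▸ hd) D.card_orb_three
    · exact absurd (h ▸ (D.card_W ▸ hd.mul_left 6)) h13
  obtain ⟨k, hk⟩ : ∃ k, D.orb.card = 2 ^ k :=
    ⟨_, Nat.eq_prime_pow_of_unique_prime_dvd (Finset.card_pos.2 ⟨dia, D.dia_mem⟩).ne'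
      (fun {d} hd hdd => hp d hd hdd)⟩
  have hk4 : k ≤ 4 := by
    by_contra h
    have : 2 ^ 5 ≤ 2 ^ k := Nat.pow_le_pow_right (by norm_num) (by omega)
    omega
  have hmod := D.card_mod
  by_cases hn : -dia ∈ D.orb
  · rw [if_pos hn] at hmod
    refine Or.inr ⟨hn, ?_⟩
    interval_cases k <;> simp_all
  · rw [if_neg hn] at hmod
    have := D.card_orb_le' hn
    refine Or.inl ⟨hn, ?_⟩
    interval_cases k <;> simp_all

end WData

end Cfsg.Agent.Lie.PSpFourThreeFull
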