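import Cfsg.Agent.Lib.Lie.Weyl

/-!
Words in a Weyl group evaluated on root indices packed in natural numbers.
-/

set_option autoImplicit false

namespace Cfsg.Agent.Lie.PSpFourThreeFull

open Cfsg.Lie Cfsg.Agent.Lie

/-- One reflection from a packed table. -/
def stp (tab : List ℕ) (i s : ℕ) : ℕ := (tab.getD i 0 >>> (7 * s)) &&& 127

/-- The images of some roots under a word. -/
def evImg (tab : List ℕ) (S : List ℕ) (ω : List ℕ) : List ℕ :=
  S.map fun s => ω.foldr (stp tab) s

/-- The tables agree with the datum. -/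
def okTab (D : ChevalleyDatum) (tab : List ℕ) : Bool :=
  (List.range D.rank).all fun i => (List.range D.nroots).all fun s => stp tab i s == D.reflectRoot i s

variable {D : ChevalleyDatum} (hF : Facts D) (M : CoxeterMatrix (Fin D.rank))
  (hM : ∀ i j, (hF.refSys.s i * hF.refSys.s j) ^ M i j = 1)
  (hmin : ∀ i j (r : ℕ), (hF.refSys.s i * hF.refSys.s j) ^ r = 1 → M i j ∣ r)

theorem foldr_stp {tab : List ℕ} (ht : okTab D tab = true) (ω : List (Fin D.rank)) (x : Fin D.nroots) :
    (ω.map Fin.val).foldr (stp tab) x.val = (hF.refSys.pr ω • x : Fin D.nroots).val := by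
  simp only [okTab, List.all_eq_true, List.mem_range, beq_iff_eq] at ht
  induction ω with
  | nil => simp
  | cons i ω ih =>
    rw [List.map_cons, List.foldr_cons, ih, ht i.val i.isLt _ (Fin.isLt _), RefSystem.pr_cons, mul_smul]
    rfl

include hM hmin in
/-- Two words are equal if and only if they agree on the simple roots. -/
theorem word_eq_iff {tab S : List ℕ} (ht : okTab D tab = true) (hS : S = (List.range D.rank).map D.simple)
    (ω ω' : List (Fin D.rank)) :
    (ω.map M.simple).prod = (ω'.map M.simple).prod ↔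
      evImg tab S (ω.map Fin.val) = evImg tab S (ω'.map Fin.val) := by
  have key : ∀ ω : List (Fin D.rank), ∀ i : Fin D.rank,
      (ω.map Fin.val).foldr (stp tab) (D.simple i.val) = (hF.refSys.pr ω • hF.refSys.α i : Fin D.nroots).val :=
    fun ω i => foldr_stp hF ht ω (hF.refSys.α i)
  rw [← (hF.refSys.coxeterEquiv M hM hmin).injective.eq_iff]
  show hF.refSys.toW M hM (RefSystem.mpr M ω) = hF.refSys.toW M hM (RefSystem.mpr M ω') ↔ _
  rw [RefSystem.toW_mpr, RefSystem.toW_mpr]
  subst hS
  constructor
  · intro h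
    refine List.map_inj_left.2 fun s hs => ?_
    obtain ⟨i, hi, rfl⟩ := List.mem_map.1 hs
    rw [key ω ⟨i, List.mem_range.1 hi⟩, key ω' ⟨i, List.mem_range.1 hi⟩, h]
  · intro h
    rw [← inv_mul_eq_one]
    refine hF.eq_one_of_fix_simple _ fun m => ?_
    rw [mul_smul, inv_smul_eq_iff]
    refine Fin.ext ?_
    rw [← key, ← key]
    exact (List.map_inj_left.1 h _ (List.mem_map.2 ⟨m.val, List.mem_range.2 m.isLt, rfl⟩)).symm

end Cfsg.Agent.Lie.PSpFourThreeFull
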